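import Cfsg.Agent.ItoSizes.Free

/-!
Three class sizes: a prime dividing all nontrivial class sizes equally forces the free case.
-/

set_option autoImplicit false
set_option linter.unusedSectionVars false
set_option linter.style.haveILetI false

namespace CfsgLib.ItoSizes

open Subgroup CfsgLib.TwoLargest CfsgLib.CoprimeSizes

universe u

variable {G : Type u} [Group G] [Finite G] {a b c s t : ℕ}

theorem mem_C_part {g w : G} (hw : w ∈ zpowers g) : w ∈ C g := by
  obtain ⟨i, rfl⟩ := hw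
  exact mem_C.2 ((Commute.refl g).zpow_right i)

theorem C_mul_center {x z : G} (hz : z ∈ center G) : C (x * z) = C x := by
  ext g
  rw [mem_C, mem_C]
  have hzg : Commute z g := (Subgroup.mem_center_iff.1 hz g).symm
  constructor
  · intro hg
    have h1 := hg.mul_left hzg.inv_left
    have e : x * z * z⁻¹ = x := mul_inv_cancel_right x z
    rwa [e] at h1
  · exact fun hg => hg.mul_left hzg

/-- The structure of the centraliser of an `s`-element when all `s`-parts are equal. -/
theorem exists_T [hs : Fact s.Prime] (hconst : ∀ g : G, g ∉ center G → ex s (C g) = c) {x : G}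
    (hx : IsS s x) (hxc : x ∉ center G) :
    ∃ T H : Subgroup G, T ≤ C x ∧ H ≤ C x ∧ IsPGroup s T ∧ Nat.card T = s ^ c ∧
      (∀ t ∈ C x, IsS s t → t ∈ T) ∧
      (∀ v, v ∈ H ↔ v ∈ C x ∧ (orderOf v).Coprime s) ∧ (Nat.card H).Coprime s ∧
      (∀ v ∈ C x, (orderOf v).Coprime s → ∀ t ∈ C x, IsS s t → Commute v t) := by
  classical
  obtain ⟨Q⟩ : Nonempty (Sylow s (C x)) := inferInstance
  have hkey : ∀ v : C x, (orderOf v).Coprime s →
      ¬ s ∣ (centralizer ({v} : Set (C x))).index := by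
    intro v hv hd
    rw [← Subgroup.orderOf_coe] at hv
    have hcv : Commute x (v : G) := mem_C.1 v.2
    have hCe := C_mul hcv (coprime_orders hx hv)
    have e : C (x * (v : G)) = (centralizer ({v} : Set (C x))).map (C x).subtype := by
      rw [hCe]
      ext g
      constructor
      · intro hg
        obtain ⟨h1, h2⟩ := Subgroup.mem_inf.1 hg
        exact ⟨⟨g, h1⟩, mem_C.2 (Subtype.ext (mem_C.1 h2).eq), rfl⟩
      · rintro ⟨g, hg, rfl⟩
        exact Subgroup.mem_inf.2 ⟨g.2, mem_C.2 ((mem_C.1 hg).map (C x).subtype)⟩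
    have hxvc : x * (v : G) ∉ center G := fun hm => hxc (mem_center_of_k (Nat.dvd_one.1
      (k_of_center hm ▸ k_dvd_mul_left hcv (coprime_orders hx hv))))
    have h1 : k (x * (v : G)) = (centralizer ({v} : Set (C x))).index * k x := by
      show (C (x * (v : G))).index = _
      rw [e, Subgroup.index_map_subtype]
    have h2 := ex_C_add (x * (v : G)) s
    rw [hconst _ hxvc, h1, Nat.factorization_mul Subgroup.index_ne_zero_of_finite (k_pos x).ne',
      Finsupp.add_apply] at h2
    have h3 := ex_C_add x s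
    rw [hconst _ hxc] at h3
    have h4 := (hs.out.dvd_iff_one_le_factorization Subgroup.index_ne_zero_of_finite).1 hd
    omega
  obtain ⟨hQn, hQc⟩ := Cfsg.Agent.S4127.sylow_of_centralizers Q hkey
  haveI := hQn
  obtain ⟨H, hHn, hHs, hdis, hsup⟩ := FGSBSmall.exists_complement_of_centralized Q
    (fun g hg => mem_centralizer_iff.2 fun q hq => ((hQc g hg q hq).eq).symm)
  have hcard : Nat.card (Q : Subgroup (C x)) * Nat.card H = Nat.card (C x) := by
    rw [← Solvable.card_sup_of_disjoint (A := (Q : Subgroup (C x))) (K := H)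
      (by rw [Subgroup.normalizer_eq_top H]; exact le_top) hdis, hsup, Subgroup.card_top]
  have hidx : H.index = Nat.card (Q : Subgroup (C x)) := by
    have := H.card_mul_index
    rw [← hcard, mul_comm (Nat.card (Q : Subgroup (C x)))] at this
    exact Nat.eq_of_mul_eq_mul_left Nat.card_pos this
  have hmemQ : ∀ v, ∀ hv : v ∈ C x, IsS s v → (⟨v, hv⟩ : C x) ∈ (Q : Subgroup (C x)) := by
    intro v hv ⟨e, he⟩
    obtain ⟨R, hR⟩ := (IsPGroup.of_card (p := s) (G := zpowers (⟨v, hv⟩ : C x)) (n := e)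
      (by rw [Nat.card_zpowers, Subgroup.orderOf_mk, he])).exists_le_sylow
    haveI := Sylow.unique_of_normal Q hQn
    rw [Subsingleton.elim Q R]
    exact hR (mem_zpowers _)
  refine ⟨(Q : Subgroup (C x)).map (C x).subtype, H.map (C x).subtype, map_subtype_le _, map_subtype_le _,
    Q.2.map _, ?_, fun t ht hts => ⟨_, hmemQ t ht hts, rfl⟩, fun v => ⟨?_, ?_⟩, ?_, ?_⟩
  · rw [card_map_of_injective (C x).subtype_injective, Q.card_eq_multiplicity]
    exact congrArg (s ^ ·) (hconst x hxc)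
  · rintro ⟨u, hu, rfl⟩
    refine ⟨u.2, ?_⟩
    show (orderOf (u : G)).Coprime s
    rw [Subgroup.orderOf_coe]
    exact (hs.out.coprime_iff_not_dvd.2 hHs).symm.coprime_dvd_left (Subgroup.orderOf_dvd_natCard _ hu)
  · rintro ⟨hv, hvo⟩
    obtain ⟨n, hn⟩ := Q.2.exists_card_eq
    have h1 : (⟨v, hv⟩ : C x) ^ H.index ∈ H := Subgroup.pow_index_mem H _
    rw [hidx, hn] at h1
    obtain ⟨m, hm⟩ := exists_pow_eq_self_of_coprime (x := (⟨v, hv⟩ : C x)) (n := s ^ n)
      (by rw [Subgroup.orderOf_mk]; exact (hvo.symm.pow_left n))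
    exact ⟨_, hm ▸ pow_mem h1 m, rfl⟩
  · rw [card_map_of_injective (C x).subtype_injective]
    exact (hs.out.coprime_iff_not_dvd.2 hHs).symm
  · intro v hv hvo t ht hts
    exact (hQc ⟨v, hv⟩ (by rwa [Subgroup.orderOf_mk]) _ (hmemQ t ht hts)).map (C x).subtype

theorem mem_normalizer_H {x g : G} {H : Subgroup G}
    (hH : ∀ v, v ∈ H ↔ v ∈ C x ∧ (orderOf v).Coprime s)
    (hg : g ∈ normalizer ((C x : Subgroup G) : Set G)) : g ∈ normalizer (H : Set G) := by
  refine mem_normalizer_iff.2 fun v => ?_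
  rw [hH, hH, show orderOf (g * v * g⁻¹) = orderOf v from (MulAut.conj g).orderOf_eq v]
  exact and_congr_left fun _ => mem_normalizer_iff.1 hg v

theorem card_le_of_isPGroup [hs : Fact s.Prime] {S K : Subgroup G} (hS : IsPGroup s S) (hle : S ≤ K) :
    Nat.card S ≤ s ^ ex s K := by
  obtain ⟨j, hj⟩ := hS.exists_card_eq
  rw [hj]
  exact Nat.pow_le_pow_right hs.out.pos
    ((hs.out.pow_dvd_iff_le_factorization Nat.card_pos.ne').1 (hj ▸ Subgroup.card_dvd_of_le hle))

theorem card_map_pr (H : Subgroup G) :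
    Nat.card (H.map (pr : G →* G ⧸ center G)) * Nat.card ↥(H ⊓ center G) = Nat.card H := by
  have e : Nat.card (H.map (pr : G →* G ⧸ center G)) = (center G).relIndex H := by
    rw [← Subgroup.relIndex_bot_left, ← Subgroup.map_bot (pr : G →* G ⧸ center G), Subgroup.relIndex_map_map]
    simp [QuotientGroup.ker_mk']
  have h1 := ((center G).subgroupOf H).card_mul_index
  change _ * (center G).relIndex H = _ at h1
  rw [e, mul_comm, ← h1, ← card_map_of_injective (K := (center G).subgroupOf H) H.subtype_injective,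
    Subgroup.subgroupOf_map_subtype, inf_comm]

theorem free_of_const (h : Red G a b) (hs : s.Prime) (hd : s ∣ Nat.card G)
    (hconst : ∀ g g' : G, g ∉ center G → g' ∉ center G → ex s (C g) = ex s (C g')) : Free G := by
  classical
  haveI := Fact.mk hs
  obtain ⟨x₁, hx₁s, hx₁c⟩ := h.exists_noncentral hs hd
  obtain ⟨c, hcdef⟩ : ∃ c, c = ex s (C x₁) := ⟨_, rfl⟩
  have hc : ∀ g : G, g ∉ center G → ex s (C g) = c := fun g hg => hcdef ▸ hconst g x₁ hg hx₁c
  have hzc : ex s (center G) < c := hcdef ▸ ex_center_lt (center_le_C x₁) (self_mem_C x₁) hx₁s hx₁c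
  have hclt : c < (Nat.card G).factorization s := by
    refine lt_of_le_of_ne (hcdef ▸ ex_le_top s (C x₁)) fun e => ?_
    obtain ⟨Q⟩ : Nonempty (Sylow s G) := inferInstance
    obtain ⟨hQn, hQc⟩ := Cfsg.Agent.S4127.sylow_of_centralizers Q fun v _ hdv => by
      by_cases hv : v ∈ center G
      · exact hs.ne_one (Nat.dvd_one.1 ((k_of_center hv) ▸ hdv))
      have h1 := ex_C_add v s
      rw [hc v hv, e] at h1
      have := hs.factorization_pos_of_dvd (k_pos v).ne' hdv
      omega
    haveI := hQn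
    obtain ⟨H, hHn, hHs, hdis, hsup⟩ := FGSBSmall.exists_complement_of_centralized Q
      (fun g hg => mem_centralizer_iff.2 fun q hq => ((hQc g hg q hq).eq).symm)
    haveI := hHn
    refine h.nc s hs hd (PResidual.hasNormalPComplement_of_normal (N := H)
      (k := (Nat.card G).factorization s) (hs.coprime_iff_not_dvd.2 hHs).symm ?_)
    have h1 := Solvable.card_sup_of_disjoint (A := (Q : Subgroup G)) (K := H)
      (by rw [Subgroup.normalizer_eq_top H]; exact le_top) hdis
    rw [hsup, Subgroup.card_top, Q.card_eq_multiplicity, ← H.card_mul_index, mul_comm (s ^ _)] at h1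
    rw [← H.card_mul_index]
    exact Nat.eq_of_mul_eq_mul_left Nat.card_pos h1
  by_cases hmono : ∃ x : G, IsS s x ∧ x ∉ center G ∧ Mono x s
  · -- one prime in the centraliser
    obtain ⟨x, hxs, hxc, hm⟩ := hmono
    have hne : ∀ t w, t.Prime → t ≠ s → IsS t w → w ∉ center G → k w ≠ k x := by
      intro t w ht hts hws hwc e
      haveI := Fact.mk ht
      have h1 := ex_center_lt (center_le_C w) (self_mem_C w) hws hwc
      rw [ex_C_eq e] at h1
      obtain ⟨u, hu, hus, huc⟩ := exists_isS_notMem h1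
      exact huc (hm t u ht hts hus hu)
    obtain ⟨t, ht, htd, hts, -⟩ := h.three s s
    haveI := Fact.mk ht
    obtain ⟨w, hws, hwc⟩ := h.exists_noncentral ht htd
    have hkwx := hne t w ht hts hws hwc
    have hwt := ex_center_lt (center_le_C w) (self_mem_C w) hws hwc
    have hxt : ex t (C x) ≤ ex t (center G) := by
      by_contra hlt
      obtain ⟨u, hu, hus, huc⟩ := exists_isS_notMem (not_le.1 hlt)
      exact huc (hm t u ht hts hus hu)
    intro g y hg hy hle
    by_contra hne'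
    have hdvd : k y ∣ k g := k_dvd hle
    have hkne : k y ≠ k g := fun e => hne' (C_eq_of_le hle e.ge)
    have htot : ∀ z : G, z ∉ center G → k z = k x ∨ k z = k w := fun z hz => by
      rcases h.sizes z hz with e | e <;> rcases h.sizes x hxc with e' | e' <;>
        rcases h.sizes w hwc with e'' | e'' <;> omega
    have hkg : k g = k x := by
      refine (htot g hg).resolve_right fun e => ?_
      have e' : k y = k x := (htot y hy).resolve_right fun e' => hkne (e'.trans e.symm)
      rw [e, e'] at hdvd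
      have h1 := (Nat.factorization_le_iff_dvd (k_pos x).ne' (k_pos w).ne').2 hdvd t
      have h2 := ex_C_add x t
      have h3 := ex_C_add w t
      omega
    have hky : k y = k w := (htot y hy).resolve_left fun e => hkne (e.trans hkg.symm)
    have hcentral : ∀ r u, r.Prime → r ≠ s → IsS r u → u ∈ C g → u ∈ center G := by
      intro r u hr hrs hus hug
      by_contra huc
      haveI := Fact.mk hr
      have h1 := ex_center_lt (center_le_C g) hug hus huc
      rw [ex_C_eq hkg] at h1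
      obtain ⟨u', hu', hus', huc'⟩ := exists_isS_notMem h1
      exact huc' (hm r u' hr hrs hus' hu')
    have hsplit : ∀ z : G, z ∈ C g → z ∉ center G → ∃ z', IsS s z' ∧ z' ∉ center G ∧ C z' = C z := by
      intro z hzg hzc
      obtain ⟨z', r', hzr, -, hr', hz's, hr'co⟩ := FGSBSmall.exists_prime_split hs z
      have hr'c : r' ∈ center G := mem_of_parts fun r u hr hu hus => by
        rcases eq_or_ne r s with rfl | hrs
        · rw [eq_one_of_isS hus (hr'co.coprime_dvd_left (orderOf_dvd_of_mem_zpowers hu))]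
          exact one_mem _
        · refine hcentral r u hr hrs hus (zpowers_le.2 ?_ hu)
          exact zpowers_le.2 hzg hr'
      refine ⟨z', hz's, fun hm' => hzc (hzr ▸ mul_mem hm' hr'c), ?_⟩
      rw [← hzr, C_mul_center hr'c]
    obtain ⟨g', hg's, hg'c, hCg⟩ := hsplit g (self_mem_C g) hg
    obtain ⟨y', hy's, hy'c, hCy⟩ := hsplit y (mem_C_comm.1 (hle (self_mem_C g))) hy
    obtain ⟨-, -, -, -, -, -, -, -, -, hcomm⟩ := exists_T hc hy's hy'c
    have hg'y : g' ∈ C y' := by
      rw [hCy]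
      exact hle (hCg ▸ self_mem_C g')
    have hlt : ex t (center G) < ex t (C y') := by rw [hCy, ex_C_eq hky]; exact hwt
    obtain ⟨w', hw'y, hw's, hw'c⟩ := exists_isS_notMem hlt
    have hw'g := hcomm w' hw'y (coprime_of_isS hs ht hts hw's) g' hg'y hg's
    exact hw'c (hcentral t w' ht hts hw's (hCg ▸ mem_C.2 hw'g.symm))
  -- two primes in every centraliser
  exfalso
  replace hmono : ∀ x : G, IsS s x → x ∉ center G → ¬ Mono x s := fun x h1 h2 h3 => hmono ⟨x, h1, h2, h3⟩
  obtain ⟨P⟩ : Nonempty (Sylow s G) := inferInstance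
  have hPn : ¬ (P : Subgroup G) ≤ center G := fun hle => absurd
    ((hs.pow_dvd_iff_le_factorization Nat.card_pos.ne').1
      (P.card_eq_multiplicity ▸ Subgroup.card_dvd_of_le hle)) (not_le.2 (hzc.trans hclt))
  obtain ⟨x₀, hx₀P, hx₀c, hx₀pow, hx₀comm⟩ := exists_commutator_central P.2 le_rfl le_normalizer hPn
  have hx₀s := isS_of_mem P.2 hx₀P
  have hPN : ∀ x : G, (∀ g ∈ (P : Subgroup G), x⁻¹ * (g * x * g⁻¹) ∈ center G) →
      (P : Subgroup G) ≤ normalizer ((C x : Subgroup G) : Set G) :=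
    fun x hx g hg => mem_normalizer_C (hx g hg)
  have hTP : ∀ x (T : Subgroup G), (∀ g ∈ (P : Subgroup G), x⁻¹ * (g * x * g⁻¹) ∈ center G) →
      T ≤ C x → IsPGroup s T → (∀ t ∈ C x, IsS s t → t ∈ T) → T ≤ (P : Subgroup G) := by
    intro x T hx hTC hTp hTm
    have hn : (P : Subgroup G) ≤ normalizer (T : Set G) := fun g hg => by
      have key : ∀ g ∈ (P : Subgroup G), ∀ u ∈ T, g * u * g⁻¹ ∈ T := fun g hg u hu =>
        hTm _ ((mem_normalizer_iff.1 (hPN x hx hg) u).1 (hTC hu)) (isS_conj (isS_of_mem hTp hu) g)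
      exact mem_normalizer_iff.2 fun u => ⟨key g hg u, fun hu => by
        simpa [mul_assoc] using key _ (inv_mem hg) _ hu⟩
    rw [← P.3 (P.2.to_sup_of_normal_right' hTp hn) le_sup_left]
    exact le_sup_right
  obtain ⟨T₀, H₀, hTC, hHC, hTp, hTcard, hTm, hHm, hHco, hcomm₀⟩ := exists_T hc hx₀s hx₀c
  have hT₀P := hTP x₀ T₀ hx₀comm hTC hTp hTm
  -- an element outside `T₀` centralises no noncentral part of `H₀`
  have key : ∀ g ∈ (P : Subgroup G), g ∉ T₀ → ∀ v ∈ H₀, Commute g v → v ∈ center G := by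
    intro g hg hgT v hv hgv
    by_contra hvc
    obtain ⟨hvx, hvo⟩ := (hHm v).1 hv
    have hle : zpowers g ⊔ T₀ ≤ C v := sup_le (zpowers_le.2 (mem_C.2 hgv.symm))
      fun u hu => mem_C.2 (hcomm₀ v hvx hvo u (hTC hu) (isS_of_mem hTp hu))
    have h1 := card_le_of_isPGroup
      (P.2.to_le (sup_le (zpowers_le.2 hg) hT₀P)) hle
    rw [hc v hvc, ← hTcard] at h1
    exact hgT ((Subgroup.eq_of_le_of_card_ge le_sup_right h1).ge (mem_sup_left (mem_zpowers g)))
  -- the index of `T₀`
  have hPcard : Nat.card (P : Subgroup G) ≤ s * Nat.card T₀ := by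
    obtain ⟨t, w, ht, hts, hws, hwx, hwc⟩ : ∃ t w, t.Prime ∧ t ≠ s ∧ IsS t w ∧ w ∈ C x₀ ∧ w ∉ center G := by
      have hm := hmono x₀ hx₀s hx₀c
      simp only [Mono, not_forall] at hm
      obtain ⟨t, w, h1, h2, h3, h4, h5⟩ := hm
      exact ⟨t, w, h1, h2, h3, h4, h5⟩
    haveI := Fact.mk ht
    have hPH : (P : Subgroup G) ≤ normalizer (H₀ : Set G) :=
      fun g hg => mem_normalizer_H hHm (hPN x₀ hx₀comm hg)
    have hwo := coprime_of_isS hs ht hts hws
    have hwH : w ∈ H₀ := (hHm w).2 ⟨hwx, hwo⟩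
    haveI := P.2.isNilpotent
    obtain ⟨n, hn⟩ := P.2.exists_card_eq
    obtain ⟨R, hR⟩ := CoprimeAct.exists_invariant_sylow (A := (P : Subgroup G)) (K := H₀) hPH
      (by rw [hn]; exact (hHco.symm.pow_left n)) (Or.inl inferInstance) t
    obtain ⟨S, hSdef⟩ : ∃ S, S = (R : Subgroup H₀).map H₀.subtype := ⟨_, rfl⟩
    rw [← hSdef] at hR
    have hSp : IsPGroup t S := hSdef ▸ R.2.map _
    have hSH : S ≤ H₀ := hSdef ▸ map_subtype_le _
    have hSnc : ¬ S ≤ center G := by
      intro hle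
      obtain ⟨i, hi⟩ := hws
      obtain ⟨R', hR'⟩ := (IsPGroup.of_card (p := t) (G := zpowers (⟨w, hwH⟩ : H₀)) (n := i)
        (by rw [Nat.card_zpowers, Subgroup.orderOf_mk, hi])).exists_le_sylow
      obtain ⟨d, hd'⟩ := MulAction.exists_smul_eq H₀ R' R
      have h1 : (d : G) * w * (d : G)⁻¹ ∈ S := by
        rw [hSdef, ← hd', Sylow.coe_subgroup_smul]
        exact ⟨_, mem_map_of_mem _ (hR' (mem_zpowers _)), rfl⟩
      exact conj_notMem_center hwc d (hle h1)
    obtain ⟨Sb, hSb⟩ : ∃ Sb, Sb = S.map (pr : G →* G ⧸ center G) := ⟨_, rfl⟩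
    obtain ⟨W, hW⟩ : ∃ W, W = Sb ⊓ centralizer (Sb : Set (G ⧸ center G)) := ⟨_, rfl⟩
    have hWmem : ∀ l ∈ W, ∃ v ∈ S, pr v = l := fun l hl => by
      have := (hW.le hl).1
      rw [hSb] at this
      exact this
    haveI : Nontrivial Sb := by
      refine (nontrivial_iff_ne_bot _).2 fun e => hSnc fun u hu => pr_eq_one.1 ?_
      have h1 : pr u ∈ Sb := hSb ▸ mem_map_of_mem _ hu
      rwa [e, Subgroup.mem_bot] at h1
    have hSbp : IsPGroup t Sb := hSb ▸ hSp.map _
    haveI := hSbp.center_nontrivial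
    obtain ⟨l, hl⟩ := exists_ne (1 : center Sb)
    obtain ⟨l', hl'⟩ : ∃ l' : G ⧸ center G, l' = ((l : Sb) : G ⧸ center G) := ⟨_, rfl⟩
    have hlW : l' ∈ W := by
      rw [hW, hl']
      exact ⟨(l : Sb).2, mem_centralizer_iff.2 fun u hu =>
        congrArg Subtype.val (Subgroup.mem_center_iff.1 l.2 ⟨u, hu⟩)⟩
    have hl1 : l' ≠ 1 := fun e => hl (Subtype.ext (Subtype.ext (by rw [← hl', e]; rfl)))
    obtain ⟨Pb, hPb⟩ : ∃ Pb, Pb = (P : Subgroup G).map (pr : G →* G ⧸ center G) := ⟨_, rfl⟩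
    obtain ⟨Tb, hTb⟩ : ∃ Tb, Tb = T₀.map (pr : G →* G ⧸ center G) := ⟨_, rfl⟩
    have hTPb : Tb ≤ Pb := hTb ▸ hPb ▸ Subgroup.map_mono hT₀P
    have hfixed : ∀ g ∈ (P : Subgroup G), ∀ v ∈ S, Commute (pr g) (pr v) → g ∉ T₀ → v ∈ center G := by
      intro g hg v hv hgv hgT
      refine key g hg hgT v (hSH hv) (commute_of_pr ?_ hgv)
      exact coprime_isS hs ht hts.symm (isS_of_mem P.2 hg) (isS_of_mem hSp hv)
    have hmemT : ∀ g ∈ (P : Subgroup G), pr g ∈ Tb → g ∈ T₀ := by
      intro g hg hgb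
      rw [hTb] at hgb
      obtain ⟨u, hu, e⟩ := hgb
      have hm := mul_mem (hTC hu) (center_le_C x₀ (pr_eq_iff.1 e))
      rw [mul_inv_cancel_left] at hm
      exact hTm g hm (isS_of_mem P.2 hg)
    by_cases hl'c : l' ∈ center (G ⧸ center G)
    · -- then `P = T₀`
      have : (P : Subgroup G) ≤ T₀ := fun g hg => by
        by_contra hgT
        obtain ⟨v, hv, hvl⟩ := hWmem l' hlW
        refine hl1 (hvl ▸ pr_eq_one.2 (hfixed g hg v hv ?_ hgT))
        rw [hvl]
        exact Subgroup.mem_center_iff.1 hl'c (pr g)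
      exact (Nat.le_of_dvd Nat.card_pos (Subgroup.card_dvd_of_le this)).trans
        (Nat.le_mul_of_pos_left _ hs.pos)
    have hPW : Pb ≤ normalizer (W : Set (G ⧸ center G)) := by
      rw [hPb, hW]
      have hPS : (P : Subgroup G).map pr ≤ normalizer (Sb : Set (G ⧸ center G)) :=
        hSb ▸ (Subgroup.map_mono hR).trans (Subgroup.le_normalizer_map pr)
      intro g hg
      have key' : ∀ g ∈ normalizer (Sb : Set (G ⧸ center G)),
          ∀ u ∈ Sb ⊓ centralizer (Sb : Set (G ⧸ center G)),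
          g * u * g⁻¹ ∈ Sb ⊓ centralizer (Sb : Set (G ⧸ center G)) := by
        intro g hg u hu
        refine ⟨(mem_normalizer_iff.1 hg u).1 hu.1, mem_centralizer_iff.2 fun v hv => ?_⟩
        have h1 := mem_centralizer_iff.1 hu.2 (g⁻¹ * v * g)
          (by simpa using (mem_normalizer_iff.1 (inv_mem hg) v).1 hv)
        calc v * (g * u * g⁻¹) = g * (g⁻¹ * v * g * u) * g⁻¹ := by group
          _ = _ := by rw [h1]; group
      exact mem_normalizer_iff.2 fun u => ⟨key' g (hPS hg) u, fun hu => by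
        simpa [mul_assoc] using key' _ (inv_mem (hPS hg)) _ hu⟩
    have hne : Tb ≠ Pb := by
      intro e
      have : (P : Subgroup G) ≤ T₀ := fun g hg => hmemT g hg (e ▸ hPb ▸ mem_map_of_mem _ hg)
      have h1 := Nat.le_of_dvd Nat.card_pos (Subgroup.card_dvd_of_le this)
      rw [hTcard, P.card_eq_multiplicity, Nat.pow_le_pow_iff_right hs.one_lt] at h1
      omega
    have hPT : (P : Subgroup G) ≤ normalizer (T₀ : Set G) := fun g hg => by
      have key'' : ∀ g ∈ (P : Subgroup G), ∀ u ∈ T₀, g * u * g⁻¹ ∈ T₀ := fun g hg u hu =>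
        hTm _ ((mem_normalizer_iff.1 (hPN x₀ hx₀comm hg) u).1 (hTC hu)) (isS_conj (isS_of_mem hTp hu) g)
      exact mem_normalizer_iff.2 fun u => ⟨key'' g hg u, fun hu => by
        simpa [mul_assoc] using key'' _ (inv_mem hg) _ hu⟩
    have hidx : Tb.relIndex Pb = s := by
      refine CoprimeSizes.relIndex_eq_prime (G := G ⧸ center G) (L := W) (l₀ := l') (hPb ▸ P.2.map _) hTPb
        (by rw [hPb, hTb]; exact (Subgroup.map_mono hPT).trans (Subgroup.le_normalizer_map pr))
        hne hPW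
        (fun u hu v hv => (mem_centralizer_iff.1 (hW.le hu).2 v (hW.le hv).1).symm) ?_ ?_ ?_ hlW hl'c
        (coprime_of_isS hs ht hts (isS_of_mem hSbp (hW.le hlW).1))
      · intro u hu l hl
        rw [hTb] at hu
        obtain ⟨u, hu, rfl⟩ := hu
        obtain ⟨v, hv, rfl⟩ := hWmem l hl
        obtain ⟨h1, h2⟩ := (hHm v).1 (hSH hv)
        exact ((hcomm₀ v h1 h2 u (hTC hu) (isS_of_mem hTp hu)).symm).map pr
      · intro u hu huT l hl hul
        rw [hPb] at hu
        obtain ⟨g, hg, rfl⟩ := hu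
        obtain ⟨v, hv, rfl⟩ := hWmem l hl
        rw [pr_eq_one.2 (hfixed g hg v hv hul (fun hgT => huT (hTb ▸ mem_map_of_mem _ hgT)))]
        exact one_mem _
      · intro u hu
        rw [hPb] at hu
        obtain ⟨g, hg, rfl⟩ := hu
        rw [hTb, ← map_pow]
        exact mem_map_of_mem _ (hTm _ (pow_mem_C (hx₀comm g hg) hx₀pow) (isS_of_mem P.2 (pow_mem hg s)))
    have e1 := card_map_pr (P : Subgroup G)
    have e2 := card_map_pr T₀
    rw [← hPb] at e1
    rw [← hTb] at e2
    have e3 : ((P : Subgroup G) ⊓ center G) = T₀ ⊓ center G :=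
      le_antisymm (le_inf (fun g hg => hTm g (center_le_C x₀ hg.2) (isS_of_mem P.2 hg.1)) inf_le_right)
        (inf_le_inf_right _ hT₀P)
    rw [e3] at e1
    have h1 := (Tb.subgroupOf Pb).card_mul_index
    rw [Nat.card_congr (Subgroup.subgroupOfEquivOfLe hTPb).toEquiv] at h1
    change Nat.card Tb * Tb.relIndex Pb = _ at h1
    rw [hidx] at h1
    rw [← e1, ← e2, ← h1]
    exact le_of_eq (by ring)
  have hexG : (Nat.card G).factorization s = c + 1 := by
    rw [P.card_eq_multiplicity, hTcard, ← pow_succ', Nat.pow_le_pow_iff_right hs.one_lt] at hPcard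
    omega
  rcases lt_or_eq_of_le (Nat.succ_le_of_lt hzc) with hbig | hsmall
  · -- every `s`-element meets `T₀`
    have hin : ∀ t, IsS s t → t ∉ center G → ∃ γ : G, γ * t * γ⁻¹ ∈ T₀ := by
      intro t hts htc
      obtain ⟨T, -, hTC', -, hTp', hTcard', hTm', -, -, -⟩ := exists_T hc hts htc
      obtain ⟨R, hR⟩ := hTp'.exists_le_sylow
      obtain ⟨γ, hγ⟩ := MulAction.exists_smul_eq G R P
      refine ⟨γ, ?_⟩
      obtain ⟨T', hT'⟩ : ∃ T', T' = T.map (MulAut.conj γ).toMonoidHom := ⟨_, rfl⟩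
      have hT'P : T' ≤ (P : Subgroup G) := by
        rw [hT', ← hγ, Sylow.coe_subgroup_smul]
        exact Subgroup.map_mono hR
      have htT' : γ * t * γ⁻¹ ∈ T' := hT' ▸ ⟨t, hTm' t (self_mem_C t) hts, rfl⟩
      have hT'C : T' ≤ C (γ * t * γ⁻¹) := by
        rw [hT', C_conj_eq]
        exact Subgroup.map_mono hTC'
      by_contra hnot
      have hn : T' ≤ normalizer (T₀ : Set G) := fun g hg => by
        have key'' : ∀ g ∈ (P : Subgroup G), ∀ u ∈ T₀, g * u * g⁻¹ ∈ T₀ := fun g hg u hu =>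
          hTm _ ((mem_normalizer_iff.1 (hPN x₀ hx₀comm hg) u).1 (hTC hu)) (isS_conj (isS_of_mem hTp hu) g)
        exact mem_normalizer_iff.2 fun u => ⟨key'' g (hT'P hg) u, fun hu => by
          simpa [mul_assoc] using key'' _ (inv_mem (hT'P hg)) _ hu⟩
      have hint : ¬ T' ⊓ T₀ ≤ center G := by
        intro hle
        have h1 := Solvable.card_sup_mul_card_inf hn
        have h2 := (Nat.le_of_dvd Nat.card_pos (Subgroup.card_dvd_of_le (sup_le hT'P hT₀P))).trans hPcard
        have h3 := card_le_of_isPGroup ((hTp.to_le (inf_le_right (a := T')))) hle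
        have h4 : Nat.card T' * Nat.card T₀ ≤ s * Nat.card T₀ * s ^ ex s (center G) := by
          rw [← h1]; exact Nat.mul_le_mul h2 h3
        rw [hT', card_map_of_injective (MulEquiv.injective _), hTcard', hTcard, ← pow_succ', ← pow_add,
          ← pow_add, Nat.pow_le_pow_iff_right hs.one_lt] at h4
        omega
      obtain ⟨u, hu, huc⟩ := SetLike.not_le_iff_exists.1 hint
      obtain ⟨hu1, hu2⟩ := Subgroup.mem_inf.1 hu
      have hus := isS_of_mem hTp hu2
      obtain ⟨-, -, -, -, -, -, -, -, -, hcommu⟩ := exists_T hc hus huc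
      have hm := hmono x₀ hx₀s hx₀c
      simp only [Mono, not_forall] at hm
      obtain ⟨r, w, hr, hrs, hws, hwx, hwc⟩ := hm
      have hwo := coprime_of_isS hs hr hrs hws
      have hwu := hcomm₀ w hwx hwo u (hTC hu2) hus
      have hwt := hcommu w (mem_C.2 hwu.symm) hwo (γ * t * γ⁻¹) (mem_C_comm.1 (hT'C hu1)) (isS_conj hts γ)
      exact hwc (key _ (hT'P htT') hnot w ((hHm w).2 ⟨hwx, hwo⟩) hwt.symm)
    obtain ⟨Cb, hCb⟩ : ∃ Cb, Cb = (C x₀).map (pr : G →* G ⧸ center G) := ⟨_, rfl⟩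
    have hC2 : 2 * Nat.card Cb ≤ Nat.card (normalizer (Cb : Set (G ⧸ center G))) := by
      obtain ⟨g, hg, hgT⟩ : ∃ g ∈ (P : Subgroup G), g ∉ T₀ := by
        by_contra hall
        push Not at hall
        have h1 := Nat.le_of_dvd Nat.card_pos (Subgroup.card_dvd_of_le hall)
        rw [hTcard, P.card_eq_multiplicity, Nat.pow_le_pow_iff_right hs.one_lt] at h1
        omega
      refine two_mul_card_le le_normalizer (b := pr g) ?_ ?_
      · rw [hCb]; exact Subgroup.le_normalizer_map pr (mem_map_of_mem _ (hPN x₀ hx₀comm hg))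
      · rw [hCb]
        rintro ⟨u, hu, e⟩
        have hm := mul_mem hu (center_le_C x₀ (pr_eq_iff.1 e))
        rw [mul_inv_cancel_left] at hm
        exact hgT (hTm g hm (isS_of_mem P.2 hg))
    refine false_of_cover Cb Cb hC2 hC2 fun v hv => ?_
    obtain ⟨g, rfl⟩ := QuotientGroup.mk'_surjective _ v
    have hgc : g ∉ center G := fun hm' => hv (pr_eq_one.2 hm')
    obtain ⟨gs, g', hgg, hgsz, hg'z, hgss, hg'o⟩ := FGSBSmall.exists_prime_split hs g
    obtain ⟨t, hts, htc, htg⟩ : ∃ t, IsS s t ∧ t ∉ center G ∧ g' ∈ C t ∧ (gs ∈ center G ∨ t = gs) := by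
      by_cases hgsc : gs ∈ center G
      · have hg'c : g' ∉ center G := fun hm' => hgc (hgg ▸ mul_mem hgsc hm')
        obtain ⟨t, ht, hts, htc⟩ := exists_isS_notMem (show ex s (center G) < ex s (C g') by
          rw [hc g' hg'c]; exact hzc)
        exact ⟨t, hts, htc, mem_C_comm.1 ht, Or.inl hgsc⟩
      · exact ⟨gs, hgss, hgsc, C_le_of_mem_zpowers hgsz (mem_C_part hg'z), Or.inr rfl⟩
    obtain ⟨htg, hor⟩ := htg
    obtain ⟨γ, hγ⟩ := hin t hts htc
    obtain ⟨-, -, -, -, -, -, -, -, -, hcommu⟩ := exists_T hc (isS_conj hts γ) (conj_notMem_center htc γ)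
    have hg'' : γ * g' * γ⁻¹ ∈ C (γ * t * γ⁻¹) := by rw [C_conj_eq]; exact mem_map_of_mem _ htg
    have h1 := hcommu _ hg'' (by
      rw [show orderOf (γ * g' * γ⁻¹) = orderOf g' from (MulAut.conj γ).orderOf_eq g']; exact hg'o)
      x₀ (mem_C_comm.1 (hTC hγ)) hx₀s
    refine ⟨pr γ, Or.inl ?_⟩
    rw [hCb, ← map_inv, ← map_mul, ← map_mul]
    refine mem_map_of_mem _ ?_
    rw [← hgg, show γ * (gs * g') * γ⁻¹ = (γ * gs * γ⁻¹) * (γ * g' * γ⁻¹) by group]
    refine mul_mem ?_ (mem_C.2 h1.symm)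
    rcases hor with hgsc | rfl
    · rw [conj_center hgsc γ]; exact center_le_C x₀ hgsc
    · exact hTC hγ
  · -- Sylow subgroups of order `s ^ 2` modulo the centre
    obtain ⟨Pb, hPb⟩ : ∃ Pb : Sylow s (G ⧸ center G), Pb = Sylow.mapSurjective (QuotientGroup.mk'_surjective (center G)) P :=
      ⟨_, rfl⟩
    have hPbc : (Pb : Subgroup (G ⧸ center G)) = (P : Subgroup G).map pr := by
      rw [hPb, Sylow.coe_mapSurjective]
    have hPcardb : Nat.card (Pb : Subgroup (G ⧸ center G)) = s ^ 2 := by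
      obtain ⟨Zs, hZs⟩ : ∃ Zs, Zs = part s (center G) := ⟨_, rfl⟩
      obtain ⟨hp, hpc⟩ := part_spec (s := s) (A := center G) inferInstance
      have hle : part s (center G) ≤ (P : Subgroup G) := by
        rw [← P.3 (P.2.to_sup_of_normal_right' hp fun g _ => mem_normalizer_iff.2 fun u => by
          constructor
          · intro hu; rwa [conj_center (part_le s _ hu)]
          · intro hu
            have := conj_center (part_le s _ hu) g⁻¹
            rw [show g⁻¹ * (g * u * g⁻¹) * g⁻¹⁻¹ = u by group] at this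
            rwa [this]) le_sup_left]
        exact le_sup_right
      have hcardI : Nat.card ↥((P : Subgroup G) ⊓ center G) = s ^ ex s (center G) := by
        refine le_antisymm (card_le_of_isPGroup (P.2.to_le inf_le_left) inf_le_right) ?_
        rw [← hpc]
        exact Nat.le_of_dvd Nat.card_pos (Subgroup.card_dvd_of_le (le_inf hle (part_le s _)))
      have e1 := card_map_pr (P : Subgroup G)
      rw [hcardI, ← hPbc, P.card_eq_multiplicity, hexG, show c + 1 = 2 + ex s (center G) by omega,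
        pow_add] at e1
      exact Nat.eq_of_mul_eq_mul_right (pow_pos hs.pos _) e1
    have hPbcomm : ∀ u ∈ (Pb : Subgroup (G ⧸ center G)), ∀ v ∈ (Pb : Subgroup (G ⧸ center G)), Commute u v :=
      fun u hu v hv => congrArg Subtype.val
        ((IsPGroup.isMulCommutative_of_card_eq_prime_sq hPcardb).is_comm.comm ⟨u, hu⟩ ⟨v, hv⟩)
    have hlayer : ∀ x ∈ (P : Subgroup G), ∀ g ∈ (P : Subgroup G), x⁻¹ * (g * x * g⁻¹) ∈ center G :=
      fun x hx g hg => pr_comm_mod (hPbcomm _ (hPbc ▸ mem_map_of_mem _ hg) _ (hPbc ▸ mem_map_of_mem _ hx))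
    obtain ⟨m, hm, hmc⟩ : ∃ m : G ⧸ center G, m ∈ normalizer ((Pb : Subgroup (G ⧸ center G)) : Set (G ⧸ center G)) ∧
        ¬ m ∈ centralizer ((Pb : Subgroup (G ⧸ center G)) : Set (G ⧸ center G)) := by
      by_contra hall
      push Not at hall
      exact h.nc s hs hd (hnpc_of_pr (TransferBasic.hasNormalPComplement_of_le_centralizer Pb hall))
    obtain ⟨m₁, m₂, hmm, hm₁, hm₂, hm₁s, hm₂o⟩ := FGSBSmall.exists_prime_split hs m
    have hm₁P : m₁ ∈ (Pb : Subgroup (G ⧸ center G)) := by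
      rw [← Pb.3 ((isPGroup_zpowers hm₁s).to_sup_of_normal_right' Pb.2 (zpowers_le.2 (zpowers_le.2 hm hm₁)))
        le_sup_right]
      exact mem_sup_left (mem_zpowers _)
    have hm₂c : ¬ m₂ ∈ centralizer ((Pb : Subgroup (G ⧸ center G)) : Set (G ⧸ center G)) := fun hc2 =>
      hmc (hmm ▸ mul_mem (mem_centralizer_iff.2 fun u hu => (hPbcomm u hu m₁ hm₁P).eq) hc2)
    have hm₂n : m₂ ∈ normalizer ((Pb : Subgroup (G ⧸ center G)) : Set (G ⧸ center G)) := zpowers_le.2 hm hm₂
    obtain ⟨v, hvo, hvm⟩ := exists_lift_coprime hs hm₂o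
    have hvP : v ∈ normalizer ((P : Subgroup G) : Set G) := by
      have key' : ∀ u ∈ (P : Subgroup G), v * u * v⁻¹ ∈ (P : Subgroup G) := by
        intro u hu
        have h1 : pr (v * u * v⁻¹) ∈ (P : Subgroup G).map pr := by
          rw [← hPbc, map_mul, map_mul, map_inv, hvm]
          exact (mem_normalizer_iff.1 hm₂n _).1 (hPbc ▸ mem_map_of_mem _ hu)
        obtain ⟨u', hu', e⟩ := h1
        have hn : v * u * v⁻¹ ∈ normalizer ((P : Subgroup G) : Set G) := by
          have h2 := mul_mem (le_normalizer hu')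
            (Subgroup.center_le_normalizer _ (pr_eq_iff.1 e))
          rwa [mul_inv_cancel_left] at h2
        rw [← P.3 ((isPGroup_zpowers (isS_conj (isS_of_mem P.2 hu) v)).to_sup_of_normal_right' P.2
          (zpowers_le.2 hn)) le_sup_right]
        exact mem_sup_left (mem_zpowers _)
      refine mem_normalizer_iff_map_conj_eq.2 (Subgroup.eq_of_le_of_card_ge ?_
        (card_map_of_injective (MulEquiv.injective _)).ge)
      rintro _ ⟨u, hu, rfl⟩
      exact key' u hu
    have hfree : ∀ u ∈ (P : Subgroup G), Commute (pr v) (pr u) → u ∈ center G := by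
      intro u hu hvu
      by_contra huc
      have hus := isS_of_mem P.2 hu
      have hc1 := commute_of_pr (coprime_orders hus hvo).symm hvu
      obtain ⟨-, -, -, -, -, -, -, -, -, hcommu⟩ := exists_T hc hus huc
      have h1 := LocalB.commute_of_pxq (P := zpowers u) (R := (P : Subgroup G)) (isPGroup_zpowers hus) P.2
        (zpowers_le.2 (le_normalizer hu)) hvo hvP
        (fun π hπ => by obtain ⟨i, rfl⟩ := hπ; exact hc1.symm.zpow_left i)
        (fun r hr hr' => hcommu v (mem_C.2 hc1.symm) hvo r (mem_C.2 (hr' u (mem_zpowers u))) (isS_of_mem P.2 hr))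
      refine hm₂c (mem_centralizer_iff.2 fun w hw => ?_)
      rw [hPbc] at hw
      obtain ⟨r, hr, rfl⟩ := hw
      rw [← hvm]
      exact ((h1 r hr).map pr).eq.symm
    haveI := Fintype.ofFinite (G ⧸ center G)
    obtain ⟨D, hD⟩ : ∃ D : Finset (G ⧸ center G),
        D = Finset.univ.filter fun x => x ∈ (Pb : Subgroup (G ⧸ center G)) ∧ x ≠ 1 := ⟨_, rfl⟩
    obtain ⟨idx, hidx⟩ : ∃ idx : G ⧸ center G → ℕ, Function.Injective idx :=
      ⟨fun x => Fintype.equivFin _ x, fun x y e => (Fintype.equivFin _).injective (Fin.ext e)⟩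
    obtain ⟨R, hR⟩ : ∃ R : Finset (G ⧸ center G),
        R = D.filter fun x => ∀ i : ℕ, idx x ≤ idx (m₂ ^ i * x * (m₂ ^ i)⁻¹) := ⟨_, rfl⟩
    have hconjD : ∀ i : ℕ, ∀ x ∈ D, m₂ ^ i * x * (m₂ ^ i)⁻¹ ∈ D := by
      intro i x hx
      rw [hD, Finset.mem_filter] at hx ⊢
      refine ⟨Finset.mem_univ _, (mem_normalizer_iff.1 (pow_mem hm₂n i) x).1 hx.2.1, fun e => hx.2.2 ?_⟩
      rw [mul_inv_eq_one] at e
      exact mul_eq_left.1 e
    have hR2 : 2 * R.card ≤ D.card := by
      have hinj : Function.Injective fun x : G ⧸ center G => m₂ * x * m₂⁻¹ := fun x y e => by simpa using e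
      have hdisj : Disjoint R (R.image fun x => m₂ * x * m₂⁻¹) := by
        refine Finset.disjoint_left.2 fun y hy hy' => ?_
        obtain ⟨x, hx, rfl⟩ := Finset.mem_image.1 hy'
        rw [hR, Finset.mem_filter] at hx hy
        have h1 := hx.2 1
        rw [pow_one] at h1
        have h2 := hy.2 (orderOf m₂ - 1)
        have e : m₂ ^ (orderOf m₂ - 1) * (m₂ * x * m₂⁻¹) * (m₂ ^ (orderOf m₂ - 1))⁻¹ = x := by
          have e' : m₂ ^ (orderOf m₂ - 1) * m₂ = 1 := by
            rw [← pow_succ, Nat.sub_add_cancel (orderOf_pos m₂), pow_orderOf_eq_one]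
          rw [show m₂ ^ (orderOf m₂ - 1) = m₂⁻¹ from eq_inv_of_mul_eq_one_left e']
          group
        rw [e] at h2
        have heq : m₂ * x * m₂⁻¹ = x := hidx (le_antisymm h2 h1)
        have hxD := hx.1
        rw [hD, Finset.mem_filter] at hxD
        obtain ⟨u, hu, hux⟩ := hPbc ▸ hxD.2.1
        refine hxD.2.2 (hux ▸ pr_eq_one.2 (hfree u hu ?_))
        rw [hvm, hux]
        exact mul_inv_eq_iff_eq_mul.1 heq
      have hsub : R ∪ R.image (fun x => m₂ * x * m₂⁻¹) ⊆ D := by
        refine Finset.union_subset (hR ▸ Finset.filter_subset _ _) fun y hy => ?_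
        obtain ⟨x, hx, rfl⟩ := Finset.mem_image.1 hy
        have := hconjD 1 x (Finset.mem_of_mem_filter x (hR ▸ hx))
        rwa [pow_one] at this
      have := Finset.card_le_card hsub
      rw [Finset.card_union_of_disjoint hdisj, Finset.card_image_of_injective _ hinj] at this
      omega
    have hDcard : D.card + 1 ≤ s ^ 2 := by
      rw [← hPcardb]
      have e : ((insert (1 : G ⧸ center G) D : Finset _) : Set (G ⧸ center G)) ⊆ (Pb : Subgroup (G ⧸ center G)) := by
        intro x hx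
        rcases Finset.mem_insert.1 hx with rfl | hx
        · exact one_mem _
        · rw [hD, Finset.mem_filter] at hx; exact hx.2.1
      have h1 := Set.ncard_le_ncard e
      rw [Set.ncard_coe_finset, Finset.card_insert_of_notMem (by simp [hD]), ← Nat.card_coe_set_eq] at h1
      exact h1
    -- the covering sets
    have hex : ∀ x : G ⧸ center G, ∃ (u : G) (Hb : Subgroup (G ⧸ center G)), x ∈ D → (pr u = x ∧
        u ∈ (P : Subgroup G) ∧ u ∉ center G ∧
        (∀ g ∈ C u, (orderOf g).Coprime s → pr g ∈ Hb) ∧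
        s ^ 2 * Nat.card Hb ≤ Nat.card ↥(normalizer (Hb : Set (G ⧸ center G)) ⊓ centralizer {x})) := by
      intro x
      by_cases hx : x ∈ D
      swap
      · exact ⟨1, ⊥, fun h' => absurd h' hx⟩
      rw [hD, Finset.mem_filter] at hx
      obtain ⟨u, hu, hux⟩ := hPbc ▸ hx.2.1
      have huc : u ∉ center G := fun e => hx.2.2 (hux ▸ pr_eq_one.2 e)
      obtain ⟨-, H, -, hHC', -, -, -, hHm', hHco', -⟩ := exists_T hc (isS_of_mem P.2 hu) huc
      refine ⟨u, H.map pr, fun _ => ⟨hux, hu, huc, fun g hg hgo => mem_map_of_mem _ ((hHm' g).2 ⟨hg, hgo⟩), ?_⟩⟩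
      have h1 : (Pb : Subgroup (G ⧸ center G)) ≤
          normalizer ((H.map pr : Subgroup _) : Set (G ⧸ center G)) ⊓ centralizer {x} := by
        intro w hw
        refine Subgroup.mem_inf.2 ⟨?_, Subgroup.mem_centralizer_singleton_iff.2 (hPbcomm w hw x hx.2.1).eq⟩
        rw [hPbc] at hw
        exact Subgroup.le_normalizer_map pr
          (Subgroup.map_mono (fun g hg => mem_normalizer_H hHm' (hPN u (hlayer u hu) hg)) hw)
      have h2 : (H.map pr : Subgroup (G ⧸ center G)) ≤
          normalizer ((H.map pr : Subgroup _) : Set (G ⧸ center G)) ⊓ centralizer {x} := by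
        refine le_inf le_normalizer ?_
        rintro _ ⟨g, hg, rfl⟩
        rw [← hux]
        exact Subgroup.mem_centralizer_singleton_iff.2 ((mem_C.1 (hHC' hg)).map pr).eq.symm
      refine Nat.le_of_dvd Nat.card_pos (Nat.Coprime.mul_dvd_of_dvd_of_dvd ?_
        (hPcardb ▸ Subgroup.card_dvd_of_le h1) (Subgroup.card_dvd_of_le h2))
      exact (hHco'.coprime_dvd_left (Subgroup.card_map_dvd H pr)).symm.pow_left 2
    choose lift Hb hHb using hex
    have hcount := card_le_cover R (fun x => ((Hb x : Set (G ⧸ center G)) ∪ (fun y => x * y) '' (Hb x : Set (G ⧸ center G))))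
      (fun x => normalizer (Hb x : Set (G ⧸ center G)) ⊓ centralizer {x}) (fun x _ w hw y hy => by
        obtain ⟨hw1, hw2⟩ := Subgroup.mem_inf.1 hw
        rcases hy with hy | ⟨y, hy, rfl⟩
        · exact Or.inl ((mem_normalizer_iff.1 hw1 y).1 hy)
        · refine Or.inr ⟨w * y * w⁻¹, (mem_normalizer_iff.1 hw1 y).1 hy, ?_⟩
          show x * (w * y * w⁻¹) = w * (x * y) * w⁻¹
          have e := Subgroup.mem_centralizer_singleton_iff.1 hw2
          rw [← mul_assoc w x y, e]
          group) (fun y hy => by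
        obtain ⟨g, rfl⟩ := QuotientGroup.mk'_surjective _ y
        have hgc : g ∉ center G := fun hm' => hy (pr_eq_one.2 hm')
        obtain ⟨gs, g', hgg, hgsz, hg'z, hgss, hg'o⟩ := FGSBSmall.exists_prime_split hs g
        obtain ⟨t, hts, htc, htg, hor⟩ : ∃ t, IsS s t ∧ t ∉ center G ∧ g' ∈ C t ∧ (gs ∈ center G ∨ t = gs) := by
          by_cases hgsc : gs ∈ center G
          · have hg'c : g' ∉ center G := fun hm' => hgc (hgg ▸ mul_mem hgsc hm')
            obtain ⟨t, ht, hts, htc⟩ := exists_isS_notMem (show ex s (center G) < ex s (C g') by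
              rw [hc g' hg'c]; exact hzc)
            exact ⟨t, hts, htc, mem_C_comm.1 ht, Or.inl hgsc⟩
          · exact ⟨gs, hgss, hgsc, C_le_of_mem_zpowers hgsz (mem_C_part hg'z), Or.inr rfl⟩
        obtain ⟨i', hi'⟩ := hts
        obtain ⟨Q, hQ⟩ := (IsPGroup.of_card (p := s) (G := zpowers t) (n := i')
          (by rw [Nat.card_zpowers, hi'])).exists_le_sylow
        obtain ⟨γ, hγ⟩ := MulAction.exists_smul_eq G Q P
        have htP : γ * t * γ⁻¹ ∈ (P : Subgroup G) := by
          rw [← hγ, Sylow.coe_subgroup_smul]; exact ⟨t, hQ (mem_zpowers t), rfl⟩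
        have hx : pr (γ * t * γ⁻¹) ∈ D := by
          rw [hD, Finset.mem_filter]
          exact ⟨Finset.mem_univ _, hPbc ▸ mem_map_of_mem _ htP, fun e => conj_notMem_center htc γ (pr_eq_one.1 e)⟩
        obtain ⟨x, hxdef⟩ : ∃ x, x = pr (γ * t * γ⁻¹) := ⟨_, rfl⟩
        rw [← hxdef] at hx
        obtain ⟨i, -, hi⟩ := Finset.exists_min_image (Finset.range (orderOf m₂))
          (fun i => idx (m₂ ^ i * x * (m₂ ^ i)⁻¹)) ⟨0, Finset.mem_range.2 (orderOf_pos m₂)⟩
        obtain ⟨x', hx'⟩ : ∃ x', x' = m₂ ^ i * x * (m₂ ^ i)⁻¹ := ⟨_, rfl⟩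
        have hx'R : x' ∈ R := by
          rw [hR, Finset.mem_filter]
          refine ⟨hx' ▸ hconjD i x hx, fun j => ?_⟩
          have := hi ((j + i) % orderOf m₂) (Finset.mem_range.2 (Nat.mod_lt _ (orderOf_pos m₂)))
          rw [pow_mod_orderOf, ← hx'] at this
          refine this.trans (le_of_eq (congrArg idx ?_))
          rw [hx', pow_add]
          group
        obtain ⟨δ, hδdef⟩ : ∃ δ, δ = v ^ i * γ := ⟨_, rfl⟩
        have hx'D : x' ∈ D := Finset.mem_of_mem_filter x' (hR ▸ hx'R)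
        obtain ⟨hl1, -, -, hl4, -⟩ := hHb x' hx'D
        have e : pr (δ * t * δ⁻¹) = x' := by
          rw [hδdef, hx', hxdef, ← hvm]
          simp only [map_mul, map_inv, map_pow, mul_inv_rev, mul_assoc]
        have hC : C (δ * t * δ⁻¹) = C (lift x') := by
          have h1 : (lift x')⁻¹ * (δ * t * δ⁻¹) ∈ center G := pr_eq_iff.1 (hl1.trans e.symm)
          rw [← C_mul_center (x := lift x') h1, mul_inv_cancel_left]
        have hg'' : pr (δ * g' * δ⁻¹) ∈ Hb x' := by
          refine hl4 _ ?_ ?_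
          · rw [← hC, C_conj_eq]; exact mem_map_of_mem _ htg
          · rw [show orderOf (δ * g' * δ⁻¹) = orderOf g' from (MulAut.conj δ).orderOf_eq g']; exact hg'o
        refine ⟨x', hx'R, pr δ, ?_⟩
        have e' : pr δ * pr g * (pr δ)⁻¹ = pr (δ * gs * δ⁻¹) * pr (δ * g' * δ⁻¹) := by
          rw [← hgg, ← map_inv, ← map_mul, ← map_mul, ← map_mul]; congr 1; group
        rcases hor with hgsc | rfl
        · left
          rw [e', show pr (δ * gs * δ⁻¹) = 1 from pr_eq_one.2 ((conj_center hgsc δ).symm ▸ hgsc), one_mul]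
          exact hg''
        · right
          exact ⟨_, hg'', by show x' * _ = _; rw [e', e]⟩)
    -- the arithmetic
    obtain ⟨g₀, hg₀⟩ : ∃ g₀, g₀ = Nat.card (G ⧸ center G) := ⟨_, rfl⟩
    rw [← hg₀] at hcount
    have hterm : ∀ x ∈ R, s ^ 2 * ((normalizer (Hb x : Set (G ⧸ center G)) ⊓ centralizer {x}).index *
        (((Hb x : Set (G ⧸ center G)) ∪ (fun y => x * y) '' (Hb x : Set (G ⧸ center G))) \ {1}).ncard) ≤ 2 * g₀ := by
      intro x hx
      obtain ⟨-, -, -, -, h5⟩ := hHb x (Finset.mem_of_mem_filter x (hR ▸ hx))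
      have h6 : (((Hb x : Set (G ⧸ center G)) ∪ (fun y => x * y) '' (Hb x : Set (G ⧸ center G))) \ {1}).ncard
          ≤ 2 * Nat.card (Hb x) := by
        refine (Set.ncard_le_ncard Set.sdiff_subset).trans ((Set.ncard_union_le _ _).trans ?_)
        rw [two_mul, ← SetLike.coe_sort_coe, Nat.card_coe_set_eq]
        exact Nat.add_le_add_left Set.ncard_image_le _
      have h7 := Nat.mul_le_mul_left (normalizer (Hb x : Set (G ⧸ center G)) ⊓ centralizer {x}).index h5
      rw [Subgroup.index_mul_card, ← hg₀] at h7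
      calc _ ≤ s ^ 2 * ((normalizer (Hb x : Set (G ⧸ center G)) ⊓ centralizer {x}).index * (2 * Nat.card (Hb x))) :=
            Nat.mul_le_mul_left _ (Nat.mul_le_mul_left _ h6)
        _ = 2 * ((normalizer (Hb x : Set (G ⧸ center G)) ⊓ centralizer {x}).index * (s ^ 2 * Nat.card (Hb x))) := by ring
        _ ≤ 2 * g₀ := Nat.mul_le_mul_left _ h7
    have htot : s ^ 2 * (g₀ - 1) ≤ R.card * (2 * g₀) := by
      refine (Nat.mul_le_mul_left _ hcount).trans ?_
      rw [Finset.mul_sum]
      exact (Finset.sum_le_card_nsmul R _ _ hterm).trans (le_of_eq (smul_eq_mul _ _))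
    have hdvd : s ^ 2 ∣ g₀ := hg₀ ▸ hPcardb ▸ Subgroup.card_subgroup_dvd_card _
    obtain ⟨t, ht, htd, hts, -⟩ := h.three s s
    haveI := Fact.mk ht
    obtain ⟨w, hws, hwc⟩ := h.exists_noncentral ht htd
    have ht2 : t ∣ g₀ := by
      obtain ⟨e, he⟩ := isS_map (pr : G →* G ⧸ center G) hws
      rw [hg₀]
      refine (dvd_pow_self t (n := e) fun e0 => hwc (pr_eq_one.1 (orderOf_eq_one_iff.1
        (show orderOf (pr w) = 1 by rw [he, e0, pow_zero])))).trans ?_
      rw [← he]
      exact _root_.orderOf_dvd_natCard _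
    have hgt : s ^ 2 * 2 ≤ g₀ := by
      have hpos : 0 < g₀ := hg₀ ▸ Nat.card_pos
      refine le_trans (Nat.mul_le_mul_left _ ht.two_le) (Nat.le_of_dvd hpos ?_)
      exact (((Nat.coprime_primes hs ht).2 hts.symm).pow_left 2).mul_dvd_of_dvd_of_dvd hdvd ht2
    have h8 : R.card * (2 * g₀) + g₀ ≤ s ^ 2 * g₀ := by
      have h10 : 2 * R.card + 1 ≤ s ^ 2 := by omega
      have := Nat.mul_le_mul_right g₀ h10
      linarith
    have h9 : s ^ 2 * (g₀ - 1) + s ^ 2 = s ^ 2 * g₀ := by
      rw [← Nat.mul_succ, Nat.succ_eq_add_one, Nat.sub_add_cancel (hg₀ ▸ Nat.card_pos)]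
    have : 0 < s ^ 2 := pow_pos hs.pos 2
    omega

end CfsgLib.ItoSizes
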