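import Cfsg.Agent.ItoSizes.Basic
import Cfsg.Agent.ZJ.ThompsonTwo
import Cfsg.Agent.ZJ.WeakClosure

/-!
Abstract tools: fixed point free automorphisms, a counting lemma, and a criterion for a Sylow
subgroup not to be self-normalising.
-/

set_option autoImplicit false
set_option linter.unusedSectionVars false
set_option linter.style.haveILetI false

namespace CfsgLib.ItoSizes

open Subgroup CfsgLib.TwoLargest CfsgLib.CoprimeSizes

universe u

theorem norm_eq_one {W : Type*} [CommGroup W] {σ : MulAut W} {n : ℕ} (hσ : σ ^ n = 1)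
    (hf : ∀ w, σ w = w → w = 1) (w : W) : ∏ k ∈ Finset.range n, (σ ^ k) w = 1 := by
  refine hf _ ?_
  rw [map_prod]
  have e1 : ∏ k ∈ Finset.range (n + 1), (σ ^ k) w = (∏ k ∈ Finset.range n, (σ ^ (k + 1)) w) * w := by
    rw [Finset.prod_range_succ']; simp
  have e2 : ∏ k ∈ Finset.range (n + 1), (σ ^ k) w = (∏ k ∈ Finset.range n, (σ ^ k) w) * w := by
    rw [Finset.prod_range_succ, hσ]; simp
  rw [e2] at e1
  rw [mul_right_cancel e1]
  exact Finset.prod_congr rfl fun k _ => by rw [pow_succ', MulAut.mul_apply]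

/-- Fixed point free automorphisms of prime orders, one normalising the group of the other, commute. -/
theorem commute_of_fixedFree {W : Type*} [CommGroup W] [Finite W] {σ τ : MulAut W} {x y : ℕ}
    (hx : x.Prime) (hy : y.Prime) (hσ : σ ^ x = 1) (hτ : τ ^ y = 1) (hfσ : ∀ w, σ w = w → w = 1)
    (hfτ : ∀ w, τ w = w → w = 1) (hn : τ * σ * τ⁻¹ ∈ zpowers σ) {w₀ : W} (hw₀ : w₀ ≠ 1)
    (hco : (orderOf w₀).Coprime x) : Commute σ τ := by
  classical
  haveI : Finite (MulAut W) := Finite.of_injective (fun e : MulAut W => (e : W → W)) DFunLike.coe_injective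
  haveI := Fact.mk hx
  haveI := Fintype.ofFinite (zpowers σ)
  by_contra hne
  have hσ1 : σ ≠ 1 := fun e => hne (e ▸ Commute.one_left τ)
  have hσo : orderOf σ = x := orderOf_eq_prime hσ hσ1
  have hcard : Fintype.card (zpowers σ) = x := by
    rw [← Nat.card_eq_fintype_card, Nat.card_zpowers, hσo]
  have hnorm : τ ∈ normalizer (zpowers σ : Set (MulAut W)) := FGSBSmall.inv_mem_normalizer_of_conj_mem hn
  -- the norm of the cyclic group vanishes
  have hN : ∀ w, ∏ γ : zpowers σ, (γ : MulAut W) w = 1 := by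
    intro w
    refine hfσ _ ?_
    rw [map_prod]
    exact Fintype.prod_equiv (Equiv.mulLeft (⟨σ, mem_zpowers σ⟩ : zpowers σ)) _ _ fun γ => by
      simp [MulAut.mul_apply]
  have hk : ∀ k : ℕ, 0 < k → k < y →
      ∏ γ : zpowers σ, ((γ : MulAut W) * τ ^ k * (γ : MulAut W)⁻¹) w₀ = 1 := by
    intro k hk0 hky
    let ψ : zpowers σ → zpowers σ := fun γ =>
      ⟨(γ : MulAut W) * (τ ^ k * (γ : MulAut W)⁻¹ * (τ ^ k)⁻¹), mul_mem γ.2
        ((mem_normalizer_iff.1 (pow_mem hnorm k) _).1 (inv_mem γ.2))⟩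
    have hψ : Function.Injective ψ := by
      intro γ δ e
      by_contra hγδ
      have e' := congrArg Subtype.val e
      simp only [ψ] at e'
      have hc : Commute ((δ : MulAut W)⁻¹ * γ) (τ ^ k) := by
        show (δ : MulAut W)⁻¹ * γ * τ ^ k = τ ^ k * ((δ : MulAut W)⁻¹ * γ)
        calc (δ : MulAut W)⁻¹ * γ * τ ^ k
            = (δ : MulAut W)⁻¹ * (γ * (τ ^ k * (γ : MulAut W)⁻¹ * (τ ^ k)⁻¹)) * τ ^ k * γ := by group
          _ = (δ : MulAut W)⁻¹ * (δ * (τ ^ k * (δ : MulAut W)⁻¹ * (τ ^ k)⁻¹)) * τ ^ k * γ := by rw [e']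
          _ = τ ^ k * ((δ : MulAut W)⁻¹ * γ) := by group
      have hne1 : (δ⁻¹ * γ : zpowers σ) ≠ 1 := fun h => hγδ (inv_mul_eq_one.1 h).symm
      have hgen : σ ∈ zpowers ((δ : MulAut W)⁻¹ * γ) := by
        have h1 := mem_zpowers_of_prime_card (p := x) (by rw [Nat.card_zpowers, hσo]) hne1
          (g' := (⟨σ, mem_zpowers σ⟩ : zpowers σ))
        obtain ⟨i, hi⟩ := h1
        exact ⟨i, by simpa using congrArg Subtype.val hi⟩
      obtain ⟨i, hi⟩ := hgen
      have hστ : Commute σ (τ ^ k) := hi ▸ hc.zpow_left i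
      obtain ⟨l, hl⟩ := exists_pow_eq_self_of_coprime (x := τ) (n := k)
        (Nat.Coprime.coprime_dvd_right (orderOf_dvd_of_pow_eq_one hτ)
          ((hy.coprime_iff_not_dvd.2 (Nat.not_dvd_of_pos_of_lt hk0 hky)).symm))
      exact hne (hl ▸ hστ.pow_right l)
    calc ∏ γ : zpowers σ, ((γ : MulAut W) * τ ^ k * (γ : MulAut W)⁻¹) w₀
        = ∏ γ : zpowers σ, (ψ γ : MulAut W) ((τ ^ k) w₀) := by
          refine Finset.prod_congr rfl fun γ _ => ?_
          rw [← MulAut.mul_apply]
          refine DFunLike.congr_fun ?_ w₀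
          simp only [ψ]
          group
      _ = ∏ γ : zpowers σ, (γ : MulAut W) ((τ ^ k) w₀) :=
          Fintype.prod_bijective ψ (Finite.injective_iff_bijective.1 hψ) _ _ fun γ => rfl
      _ = 1 := hN _
  have htot : ∏ k ∈ Finset.range y,
      ∏ γ : zpowers σ, ((γ : MulAut W) * τ ^ k * (γ : MulAut W)⁻¹) w₀ = 1 := by
    rw [Finset.prod_comm]
    refine Finset.prod_eq_one fun γ _ => ?_
    simp only [← conj_pow]
    refine norm_eq_one ?_ (fun w hw => ?_) w₀
    · rw [conj_pow, hτ, mul_one, mul_inv_cancel]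
    · have h1 : τ ((γ : MulAut W)⁻¹ w) = (γ : MulAut W)⁻¹ w := by
        conv_rhs => rw [← hw]
        simp [MulAut.mul_apply]
      have h2 := hfτ _ h1
      rw [← map_one ((γ : MulAut W)⁻¹)] at h2
      exact ((γ : MulAut W)⁻¹).injective h2
  rw [← Finset.mul_prod_erase _ _ (Finset.mem_range.2 hy.pos), Finset.prod_eq_one (s := (Finset.range y).erase 0)
    fun k hk' => hk k (Nat.pos_of_ne_zero (Finset.mem_erase.1 hk').1)
      (Finset.mem_range.1 (Finset.mem_erase.1 hk').2)] at htot
  simp only [pow_zero, mul_one, mul_inv_cancel, MulAut.one_apply, Finset.prod_const, Finset.card_univ,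
    hcard] at htot
  exact hw₀ (orderOf_eq_one_iff.1 (Nat.eq_one_of_dvd_coprimes hco dvd_rfl (orderOf_dvd_of_pow_eq_one htot)))

/-- Counting a covering by conjugates. -/
theorem card_le_cover {X : Type*} [Group X] [Finite X] {ι : Type*} (I : Finset ι) (S : ι → Set X)
    (M : ι → Subgroup X) (hM : ∀ i ∈ I, ∀ m ∈ M i, ∀ u ∈ S i, m * u * m⁻¹ ∈ S i)
    (hcov : ∀ u : X, u ≠ 1 → ∃ i ∈ I, ∃ g : X, g * u * g⁻¹ ∈ S i) :
    Nat.card X - 1 ≤ ∑ i ∈ I, (M i).index * (S i \ {1}).ncard := by
  classical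
  haveI := Fintype.ofFinite X
  have hsub : (Finset.univ.erase (1 : X)) ⊆ I.biUnion fun i =>
      ((Finset.univ : Finset (X ⧸ M i)) ×ˢ (S i \ {1}).toFinset).image
        fun qu => qu.1.out * qu.2 * qu.1.out⁻¹ := by
    intro u hu
    have hu1 : u ≠ 1 := (Finset.mem_erase.1 hu).1
    obtain ⟨i, hi, g, hg⟩ := hcov u hu1
    refine Finset.mem_biUnion.2 ⟨i, hi, Finset.mem_image.2
      ⟨(((g⁻¹ : X) : X ⧸ M i), ((g⁻¹ : X) : X ⧸ M i).out⁻¹ * u * ((g⁻¹ : X) : X ⧸ M i).out), ?_, ?_⟩⟩
    · simp only [Finset.mem_product, Finset.mem_univ, true_and, Set.mem_toFinset, Set.mem_diff,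
        Set.mem_singleton_iff]
      obtain ⟨m, hm⟩ := QuotientGroup.mk_out_eq_mul (M i) g⁻¹
      rw [hm]
      refine ⟨?_, fun e => hu1 ?_⟩
      · rw [show (g⁻¹ * (m : X))⁻¹ * u * (g⁻¹ * m) = (m : X)⁻¹ * (g * u * g⁻¹) * (m : X)⁻¹⁻¹ by group]
        exact hM i hi _ (inv_mem m.2) _ hg
      · calc u = g⁻¹ * m * ((g⁻¹ * (m : X))⁻¹ * u * (g⁻¹ * m)) * (g⁻¹ * m : X)⁻¹ := by group
          _ = 1 := by rw [e]; group
    · group
  have h := (Finset.card_le_card hsub).trans Finset.card_biUnion_le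
  rw [Finset.card_erase_of_mem (Finset.mem_univ _), Finset.card_univ, ← Nat.card_eq_fintype_card] at h
  refine h.trans (Finset.sum_le_sum fun i _ => Finset.card_image_le.trans ?_)
  rw [Finset.card_product, Finset.card_univ, ← Nat.card_eq_fintype_card, ← Set.ncard_eq_toFinset_card']
  exact le_rfl

/-- A group is not covered by the conjugates of two proper parts of their normalisers. -/
theorem false_of_cover {X : Type*} [Group X] [Finite X] (A B : Subgroup X)
    (hA : 2 * Nat.card A ≤ Nat.card (normalizer (A : Set X)))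
    (hB : 2 * Nat.card B ≤ Nat.card (normalizer (B : Set X)))
    (hcov : ∀ u : X, u ≠ 1 → ∃ g : X, g * u * g⁻¹ ∈ A ∨ g * u * g⁻¹ ∈ B) : False := by
  classical
  have h := card_le_cover (Finset.univ : Finset Bool) (fun b => ((bif b then A else B : Subgroup X) : Set X))
    (fun b => normalizer ((bif b then A else B : Subgroup X) : Set X))
    (fun b _ m hm u hu => (mem_normalizer_iff.1 hm u).1 hu) (fun u hu => by
      obtain ⟨g, hg | hg⟩ := hcov u hu
      · exact ⟨true, Finset.mem_univ _, g, hg⟩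
      · exact ⟨false, Finset.mem_univ _, g, hg⟩)
  simp only [Fintype.sum_bool, cond_true, cond_false] at h
  have key : ∀ D : Subgroup X, 2 * Nat.card D ≤ Nat.card (normalizer (D : Set X)) →
      2 * ((normalizer (D : Set X)).index * ((D : Set X) \ {1}).ncard) +
        2 * (normalizer (D : Set X)).index ≤ Nat.card X := by
    intro D hD
    rw [Set.ncard_sdiff_singleton_of_mem (one_mem D), ← Nat.card_coe_set_eq, SetLike.coe_sort_coe,
      ← mul_add, ← Nat.mul_succ, Nat.succ_eq_add_one, Nat.sub_add_cancel Nat.card_pos]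
    refine le_trans ?_ (normalizer (D : Set X)).index_mul_card.le
    rw [mul_left_comm]
    exact Nat.mul_le_mul_left _ hD
  have h1 := key A hA
  have h2 := key B hB
  have h3 := Nat.pos_of_ne_zero (normalizer (A : Set X)).index_ne_zero_of_finite
  have h4 := Nat.pos_of_ne_zero (normalizer (B : Set X)).index_ne_zero_of_finite
  omega

theorem isPGroup_of_no_coprime {X : Type*} [Group X] [Finite X] {q : ℕ} [hq : Fact q.Prime]
    (h : ∀ g : X, (orderOf g).Coprime q → g = 1) : IsPGroup q X := by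
  refine IsPGroup.iff_orderOf.2 fun g => ?_
  obtain ⟨a, b, hab, -, -, ha, hb⟩ := FGSBSmall.exists_prime_split hq.out g
  rw [h b hb, mul_one] at hab
  exact hab ▸ ha

theorem hnpc_of_isPGroup {X : Type*} [Group X] [Finite X] {q : ℕ} [hq : Fact q.Prime]
    (h : IsPGroup q X) : Cfsg.HasNormalPComplement q X := by
  obtain ⟨k, hk⟩ := h.exists_card_eq
  exact PResidual.hasNormalPComplement_of_normal (N := (⊥ : Subgroup X)) (k := k)
    (by simp) (by rw [index_bot, hk])

/-- Normality of a Sylow subgroup when the other ones are cyclic and no element of prime power order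
normalises a cyclic subgroup of coprime order. -/
theorem sylow_normal_of_cyclic {q : ℕ} [hq : Fact q.Prime] :
    ∀ (n : ℕ) (X : Type u) [Group X] [Finite X], Nat.card X = n →
    (∀ y h : X, IsS q y → (orderOf h).Coprime q → h ≠ 1 → y * h * y⁻¹ ∈ zpowers h → y = 1) →
    (∀ t : ℕ, t.Prime → t ≠ q → ∀ S : Sylow t X, IsCyclic S) →
    ∀ P : Sylow q X, (P : Subgroup X).Normal := by
  intro n
  induction n using Nat.strong_induction_on with
  | _ n ih =>
    intro X _ _ hn hstar hcyc P
    subst hn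
    classical
    by_cases hex : ∃ t, t.Prime ∧ t ≠ q ∧ t ∣ Nat.card X
    swap
    · push Not at hex
      have hX : IsPGroup q X := isPGroup_of_no_coprime fun g hg => by
        by_contra hg1
        obtain ⟨r, hr, hrd⟩ := Nat.exists_prime_and_dvd (fun e => hg1 (orderOf_eq_one_iff.1 e))
        refine hex r hr (fun e => hr.ne_one ?_) (hrd.trans (orderOf_dvd_natCard g))
        exact Nat.eq_one_of_dvd_coprimes hg hrd (e ▸ dvd_rfl)
      have : (P : Subgroup X) = ⊤ := (P.3 (Q := ⊤) (hX.to_subgroup ⊤) le_top).symm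
      rw [this]
      infer_instance
    obtain ⟨t, ⟨ht, htq, htd⟩, hmin⟩ :
        ∃ t, (t.Prime ∧ t ≠ q ∧ t ∣ Nat.card X) ∧ ∀ r < t, ¬ (r.Prime ∧ r ≠ q ∧ r ∣ Nat.card X) :=
      ⟨Nat.find hex, Nat.find_spec hex, fun r => Nat.find_min hex⟩
    haveI := Fact.mk ht
    obtain ⟨S⟩ : Nonempty (Sylow t X) := inferInstance
    obtain ⟨h, hh⟩ := (hcyc t ht htq S).exists_generator
    have hS : zpowers (h : X) = S := by
      refine le_antisymm (zpowers_le.2 h.2) fun u hu => ?_
      obtain ⟨i, hi⟩ := hh ⟨u, hu⟩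
      exact ⟨i, by simpa using congrArg Subtype.val hi⟩
    have hSt : IsS t (h : X) := isS_of_mem S.2 h.2
    have hh1 : (h : X) ≠ 1 := fun e => by
      have := S.dvd_card_of_dvd_card htd
      rw [← hS, e, zpowers_one_eq_bot, Subgroup.card_bot] at this
      exact ht.ne_one (Nat.dvd_one.1 this)
    have hNC : normalizer ((S : Subgroup X) : Set X) ≤ centralizer ((S : Subgroup X) : Set X) := by
      intro m hm
      refine mem_of_parts fun r a hr ha hae => ?_
      have han : a ∈ normalizer ((S : Subgroup X) : Set X) := zpowers_le.2 hm ha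
      have hconj : a * h * a⁻¹ ∈ zpowers (h : X) := hS.symm ▸ (mem_normalizer_iff.1 han _).1 h.2
      rw [← hS]
      refine mem_centralizer_iff.2 ?_
      rintro _ ⟨i, rfl⟩
      refine ((?_ : Commute a (h : X)).zpow_right i).eq.symm
      rcases eq_or_ne r q with rfl | hrq
      · rw [hstar a h hae (coprime_of_isS hr ht htq hSt) hh1 hconj]
        exact Commute.one_left _
      rcases eq_or_ne r t with rfl | hrt
      · have haS : a ∈ (S : Subgroup X) := by
          have hJ := S.3 (Q := zpowers a ⊔ (S : Subgroup X))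
            ((isPGroup_zpowers hae).to_sup_of_normal_right' S.2 (zpowers_le.2 han)) le_sup_right
          exact hJ.le (mem_sup_left (mem_zpowers a))
        rw [← hS] at haS
        obtain ⟨i, rfl⟩ := haS
        exact (Commute.refl _).zpow_left i
      rcases eq_or_ne a 1 with rfl | ha1
      · exact Commute.one_left _
      have hlt : t < r := by
        refine lt_of_le_of_ne (not_lt.1 fun hlt => hmin r hlt ⟨hr, hrq, ?_⟩) hrt.symm
        obtain ⟨e, he⟩ := hae
        refine (dvd_pow_self r (fun e0 => ha1 (orderOf_eq_one_iff.1 (by rw [he, e0, pow_zero])))).trans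
          (he ▸ orderOf_dvd_natCard a)
      refine FGSBSmall.commute_of_totient hconj ?_
      obtain ⟨e, he⟩ := hae
      obtain ⟨f, hf⟩ := hSt
      rw [he, hf]
      refine Nat.Coprime.pow_left e ((hr.coprime_iff_not_dvd.2 fun hd => ?_))
      rcases f with _ | f
      · simp at hd
        exact hr.ne_one hd
      rw [Nat.totient_prime_pow ht (Nat.succ_pos f)] at hd
      rcases hr.dvd_mul.1 hd with hd | hd
      · exact hrt ((Nat.prime_dvd_prime_iff_eq hr ht).1 (hr.dvd_of_dvd_pow hd))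
      · have := Nat.le_of_dvd (by have := ht.two_le; omega) hd
        omega
    obtain ⟨hc, k, hk⟩ := PResidual.card_coprime_of_isComplement' S
      (MonoidHom.ker_transferSylow_isComplement' S hNC)
    obtain ⟨M, hM⟩ : ∃ M, M = (MonoidHom.transferSylow S hNC).ker := ⟨_, rfl⟩
    rw [← hM] at hc hk
    haveI hMn : M.Normal := hM ▸ MonoidHom.normal_ker _
    have hMlt : Nat.card M < Nat.card X := by
      refine lt_of_le_of_ne (Nat.le_of_dvd Nat.card_pos (card_subgroup_dvd_card M)) fun e => ?_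
      exact ht.ne_one (Nat.eq_one_of_dvd_coprimes hc (e ▸ htd) dvd_rfl)
    have hqM : ∀ u : X, IsS q u → u ∈ M := fun u hu => by
      have h1 : u ^ t ^ k ∈ M := hk ▸ Subgroup.pow_index_mem M u
      obtain ⟨m, hm⟩ := exists_pow_eq_self_of_coprime (x := u) (n := t ^ k)
        ((coprime_of_isS ht hq.out htq.symm hu).symm.pow_left k)
      exact hm ▸ pow_mem h1 m
    obtain ⟨Q⟩ : Nonempty (Sylow q M) := inferInstance
    have hQn : (Q : Subgroup M).Normal := ih _ hMlt M rfl
      (fun y z hy hz hz1 hc' => Subtype.ext (hstar y z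
        (by obtain ⟨e, he⟩ := hy; exact ⟨e, by rw [Subgroup.orderOf_coe, he]⟩)
        (by rwa [Subgroup.orderOf_coe]) (fun e => hz1 (Subtype.ext e)) (by
          obtain ⟨i, hi⟩ := hc'
          exact ⟨i, by simpa using congrArg Subtype.val hi⟩)))
      (fun r hr hrq R => by
        haveI := Fact.mk hr
        obtain ⟨R', hR'⟩ := (R.2.map M.subtype).exists_le_sylow
        haveI := hcyc r hr hrq R'
        exact isCyclic_of_injective
          ((Subgroup.inclusion hR').comp
            ((R : Subgroup M).equivMapOfInjective M.subtype M.subtype_injective).toMonoidHom)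
          ((Subgroup.inclusion_injective hR').comp (MulEquiv.injective _))) Q
    haveI := Sylow.unique_of_normal Q hQn
    have hchar : ∀ u : X, IsS q u → u ∈ (Q : Subgroup M).map M.subtype := by
      intro u hu
      obtain ⟨e, he⟩ := hu
      obtain ⟨R, hR⟩ := (IsPGroup.of_card (p := q) (G := zpowers (⟨u, hqM u ⟨e, he⟩⟩ : M)) (n := e)
        (by rw [Nat.card_zpowers, Subgroup.orderOf_mk, he])).exists_le_sylow
      rw [Subsingleton.elim Q R]
      exact ⟨_, hR (mem_zpowers _), rfl⟩
    have hP : (P : Subgroup X) = (Q : Subgroup M).map M.subtype := by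
      refine le_antisymm (fun u hu => hchar u (isS_of_mem P.2 hu)) ?_
      have hle : (P : Subgroup X) ≤ (Q : Subgroup M).map M.subtype := fun u hu => hchar u (isS_of_mem P.2 hu)
      rw [P.3 (Q.2.map _) hle]
    refine ⟨fun u hu g => ?_⟩
    have h1 := hchar _ (isS_conj (isS_of_mem P.2 hu) g)
    rwa [← hP] at h1

/-- Fixed point free abelian action makes a Sylow subgroup cyclic. -/
theorem isCyclic_of_fpf {X : Type*} [Group X] [Finite X] {t : ℕ} [ht : Fact t.Prime] {S W : Subgroup X}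
    (hS : IsPGroup t S) (hSW : S ≤ normalizer (W : Set X)) (hW : IsMulCommutative W) {w₀ : X}
    (hw : w₀ ∈ W) (hw1 : w₀ ≠ 1) (hwt : (orderOf w₀).Coprime t)
    (hfix : ∀ g ∈ S, g ≠ 1 → ∀ w ∈ W, Commute g w → w = 1)
    (hAB : ∀ g h : X, g ∈ S → h ∈ S → ∀ i j : ℕ, g ^ i = h ^ j → g ^ i ≠ 1 → Commute g h) :
    IsCyclic S := by
  classical
  rcases subsingleton_or_nontrivial S with hs | hs
  · exact isCyclic_of_subsingleton
  let cg : CommGroup W := { (inferInstance : Group W) with mul_comm := fun a b => hW.is_comm.comm a b }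
  let ρ : S →* MulAut W := W.normalizerMonoidHom.comp (Subgroup.inclusion hSW)
  have semi : SemiregularPair.Semi ρ (⊥ : Subgroup W) := by
    refine ⟨fun γ z hz => by rw [Subgroup.mem_bot.1 hz, map_one], fun γ hγ w hfx => ?_⟩
    have e : (γ : X) * w * (γ : X)⁻¹ = w := congrArg Subtype.val hfx
    exact Subgroup.mem_bot.2 (Subtype.ext (hfix γ γ.2 (fun h => hγ (Subtype.ext h)) w w.2
      (mul_inv_eq_iff_eq_mul.1 e)))
  haveI := hS.center_nontrivial
  obtain ⟨c, hc⟩ := exists_prime_orderOf_dvd_card' (G := center S) t (by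
    obtain ⟨j, hj⟩ := (hS.to_subgroup (center S)).exists_card_eq
    rcases j with _ | j
    · exact absurd hj (by rw [pow_zero]; exact (Finite.one_lt_card (α := center S)).ne')
    · exact hj ▸ dvd_pow_self t (Nat.succ_ne_zero j))
  have hct : orderOf (c : S) = t := by rw [Subgroup.orderOf_coe, hc]
  have huniq : ∀ d : S, d ^ t = 1 → d ∈ zpowers (c : S) := fun d hd => by
    by_contra hdc
    refine CoprimeSizes.no_two_generators semi ht.out (w := ⟨w₀, hw⟩) (by rwa [Subgroup.orderOf_mk])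
      (fun h => hw1 (congrArg Subtype.val (Subgroup.mem_bot.1 h)))
      (Subgroup.mem_center_iff.1 c.2 d).symm
      (orderOf_dvd_iff_pow_eq_one.1 hct.dvd) (fun e => ?_) hd hdc
    rw [e, orderOf_one] at hct
    exact ht.out.ne_one hct.symm
  have htop : ∀ g : S, g ≠ 1 → ∃ i : ℕ, g ^ i = (c : S) := by
    intro g hg
    obtain ⟨e, he⟩ := IsPGroup.iff_orderOf.1 hS g
    rcases e with _ | e
    · exact absurd (orderOf_eq_one_iff.1 (by simpa using he)) hg
    have h1 : (g ^ t ^ e) ^ t = 1 := by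
      rw [← pow_mul, ← pow_succ, ← he, pow_orderOf_eq_one]
    have h2 : g ^ t ^ e ≠ 1 := fun h => by
      have := orderOf_dvd_of_pow_eq_one h
      rw [he, Nat.pow_dvd_pow_iff_le_right ht.out.one_lt] at this
      omega
    obtain ⟨l, hl⟩ := mem_powers_iff_mem_zpowers.2 (huniq _ h1)
    change (c : S) ^ l = g ^ t ^ e at hl
    have hlt : l.Coprime t := (ht.out.coprime_iff_not_dvd.2 fun hd => h2 (by
      rw [← hl, ← orderOf_dvd_iff_pow_eq_one, hct]; exact hd)).symm
    obtain ⟨m, hm⟩ := exists_pow_eq_self_of_coprime (x := (c : S)) (n := l) (by rwa [hct])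
    exact ⟨t ^ e * m, by rw [pow_mul, ← hl, hm]⟩
  have hcomm : ∀ g h : S, Commute g h := by
    intro g h
    rcases eq_or_ne g 1 with rfl | hg
    · exact Commute.one_left _
    rcases eq_or_ne h 1 with rfl | hh
    · exact Commute.one_right _
    obtain ⟨i, hi⟩ := htop g hg
    obtain ⟨j, hj⟩ := htop h hh
    refine Subtype.ext (hAB g h g.2 h.2 i j ?_ ?_).eq
    · simpa using congrArg Subtype.val (hi.trans hj.symm)
    · intro e
      have : orderOf (c : S) = 1 := by
        rw [orderOf_eq_one_iff, ← hi]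
        exact Subtype.ext (by simpa using e)
      exact ht.out.ne_one (hct ▸ this)
  -- an element of maximal order generates
  haveI := Fintype.ofFinite S
  obtain ⟨x, -, hx⟩ := Finset.exists_max_image (Finset.univ : Finset S) (fun z => orderOf z) ⟨1, Finset.mem_univ _⟩
  refine ⟨⟨x, fun y => ?_⟩⟩
  have hcx : (c : S) ∈ zpowers x := by
    rcases eq_or_ne x 1 with rfl | hx1
    · have := hx c (Finset.mem_univ _)
      rw [orderOf_one, hct] at this
      exact absurd this (by have := ht.out.two_le; omega)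
    obtain ⟨i, hi⟩ := htop x hx1
    exact hi ▸ pow_mem (mem_zpowers x) i
  obtain ⟨e, he⟩ := IsPGroup.iff_orderOf.1 hS x
  suffices key : ∀ i : ℕ, ∀ y : S, y ^ t ^ i = 1 → y ∈ zpowers x by
    obtain ⟨i, hi⟩ := hS y
    exact key i y hi
  intro i
  induction i with
  | zero => intro y hy; rw [pow_zero, pow_one] at hy; rw [hy]; exact one_mem _
  | succ i ihi =>
    intro y hy
    obtain ⟨m, hm⟩ := mem_powers_iff_mem_zpowers.2 (ihi (y ^ t) (by rw [← pow_mul, ← pow_succ']; exact hy))
    change x ^ m = y ^ t at hm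
    obtain ⟨f, hf⟩ := IsPGroup.iff_orderOf.1 hS y
    have hfe : f ≤ e := by
      have := hx y (Finset.mem_univ _)
      rwa [hf, he, Nat.pow_le_pow_iff_right ht.out.one_lt] at this
    have hy' : y ^ t ^ e = 1 := orderOf_dvd_iff_pow_eq_one.1 (hf ▸ pow_dvd_pow t hfe)
    have hmt : t ∣ m := by
      rcases e with _ | e
      · rw [orderOf_eq_one_iff.1 (show orderOf x = 1 by simpa using he)] at hcx
        simp at hcx
        rw [hcx] at hct; simp at hct
        exact absurd hct.symm ht.out.ne_one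
      have : x ^ (m * t ^ e) = 1 := by rw [pow_mul, hm, ← pow_mul, ← pow_succ']; exact hy'
      rw [← orderOf_dvd_iff_pow_eq_one, he, pow_succ'] at this
      exact Nat.dvd_of_mul_dvd_mul_right (pow_pos ht.out.pos e) this
    obtain ⟨l, rfl⟩ := hmt
    have : (y * (x ^ l)⁻¹) ^ t = 1 := by
      rw [(hcomm _ _).mul_pow, inv_pow, ← pow_mul, mul_comm l t, hm, mul_inv_cancel]
    have h3 := zpowers_le.2 hcx (huniq _ this)
    simpa [mul_assoc] using mul_mem h3 (pow_mem (mem_zpowers x) l)

/-- A Sylow subgroup of a group without normal complement is not self-normalising when no element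
of its prime normalises a cyclic subgroup of coprime order. -/
theorem normalizer_ne {X : Type u} [Group X] [Finite X] {q : ℕ} [hq : Fact q.Prime] (P : Sylow q X)
    (hstar : ∀ y h : X, IsS q y → (orderOf h).Coprime q → h ≠ 1 → y * h * y⁻¹ ∈ zpowers h → y = 1)
    (hAB : ∀ g h : X, (orderOf g).Coprime q → (orderOf h).Coprime q → ∀ i j : ℕ, g ^ i = h ^ j →
      g ^ i ≠ 1 → Commute g h)
    (hnp : ¬ Cfsg.HasNormalPComplement q X) :
    normalizer ((P : Subgroup X) : Set X) ≠ (P : Subgroup X) := by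
  classical
  intro hN
  by_cases hq2 : q = 2
  · subst hq2
    have hn := FGSBSmall.sylow_two_normal_of_no_inverted (fun x g hx hg => by
      by_contra hx1
      obtain ⟨a, b, hab, ha, -, has, hb⟩ := FGSBSmall.exists_prime_split Nat.prime_two g
      have hco : (orderOf x).Coprime 2 := Nat.coprime_two_right.2 hx
      have hgn : g ∈ normalizer (zpowers x : Set X) :=
        FGSBSmall.inv_mem_normalizer_of_conj_mem (hg ▸ inv_mem (mem_zpowers x))
      have ha1 := hstar a x has hco hx1
        ((mem_normalizer_iff.1 (zpowers_le.2 hgn ha) x).1 (mem_zpowers x))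
      rw [ha1, one_mul] at hab
      subst hab
      have hconj : ∀ n : ℕ, b ^ (2 * n) * x * (b ^ (2 * n))⁻¹ = x := by
        intro n
        induction n with
        | zero => simp
        | succ n ih =>
          calc b ^ (2 * (n + 1)) * x * (b ^ (2 * (n + 1)))⁻¹
              = b * (b * (b ^ (2 * n) * x * (b ^ (2 * n))⁻¹) * b⁻¹) * b⁻¹ := by
                rw [show 2 * (n + 1) = (2 * n + 1) + 1 by ring, pow_succ', pow_succ']; group
            _ = x := by rw [ih, hg, show b * x⁻¹ * b⁻¹ = (b * x * b⁻¹)⁻¹ by group, hg, inv_inv]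
      obtain ⟨m, hm⟩ := exists_pow_eq_self_of_coprime (x := b) (n := 2) hb.symm
      have h1 := hconj m
      rw [pow_mul, hm, hg] at h1
      have h2 : x ^ 2 = 1 := by rw [pow_two]; nth_rw 1 [← h1]; exact inv_mul_cancel x
      exact hx1 (orderOf_eq_one_iff.1 (Nat.eq_one_of_dvd_coprimes hco dvd_rfl
        (orderOf_dvd_of_pow_eq_one h2)))) P
    rw [Subgroup.normalizer_eq_top_iff.2 hn] at hN
    refine hnp (hnpc_of_isPGroup ?_)
    exact (hN ▸ P.2 : IsPGroup 2 (⊤ : Subgroup X)).of_equiv Subgroup.topEquiv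
  by_cases hP1 : (P : Subgroup X) = ⊥
  · refine hnp (TransferBasic.hasNormalPComplement_of_le_centralizer P ?_)
    rw [hP1]
    exact fun m _ => mem_centralizer_iff.2 fun u hu => by
      rw [Subgroup.mem_bot.1 hu, one_mul, mul_one]
  haveI : Nontrivial (P : Subgroup X) := (nontrivial_iff_ne_bot _).2 hP1
  haveI := P.2.center_nontrivial
  obtain ⟨z, hz⟩ := exists_ne (1 : center (P : Subgroup X))
  obtain ⟨y, hy⟩ : ∃ y : X, y = ((z : (P : Subgroup X)) : X) := ⟨_, rfl⟩
  have hyP : y ∈ (P : Subgroup X) := hy ▸ (z : (P : Subgroup X)).2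
  have hyc : y ∈ centralizer ((P : Subgroup X) : Set X) := mem_centralizer_iff.2 fun u hu => by
    rw [hy]; exact congrArg Subtype.val (Subgroup.mem_center_iff.1 z.2 ⟨u, hu⟩)
  have hy1 : y ≠ 1 := fun e => hz (Subtype.ext (Subtype.ext (by rw [← hy, e]; rfl)))
  have hys : IsS q y := isS_of_mem P.2 hyP
  obtain ⟨J, hJ⟩ : ∃ J, J = Cfsg.thompsonSubgroupAOf (P : Subgroup X) := ⟨_, rfl⟩
  have hyJ : y ∈ J := hJ ▸ ZJ.center_mem_thompsonA hyP hyc
  have hJP : J ≤ P := hJ ▸ map_subtype_le _
  refine hnp (ZJ.hasNormalPComplement_thompsonA X P (Or.inl hq2) (hnpc_of_isPGroup ?_) ?_)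
  · refine isPGroup_of_no_coprime fun g hg => Subtype.ext ?_
    by_contra hg1
    refine hy1 (hstar y g hys (by rwa [Subgroup.orderOf_coe]) hg1 ?_)
    rw [(mem_centralizer_iff.1 g.2 y ⟨hyP, hyc⟩), mul_inv_cancel_right]
    exact mem_zpowers _
  rw [← hJ]
  obtain ⟨L, hL⟩ : ∃ L, L = normalizer (J : Set X) := ⟨_, rfl⟩
  rw [← hL]
  have hPL : (P : Subgroup X) ≤ L := by
    rw [hL, hJ]
    exact fun u hu => (ZJ.jkind_abelian (p := q)).normalizer_le _ (le_normalizer hu)
  obtain ⟨W, hW⟩ : ∃ W, W = J ⊓ centralizer (J : Set X) := ⟨_, rfl⟩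
  have hyW : y ∈ W := hW ▸ ⟨hyJ, mem_centralizer_iff.2 fun u hu => mem_centralizer_iff.1 hyc u (hJP hu)⟩
  have hWc : IsMulCommutative W := ⟨⟨fun a b => Subtype.ext (by
    exact mem_centralizer_iff.1 (Subgroup.mem_inf.1 (hW.le b.2)).2 a (Subgroup.mem_inf.1 (hW.le a.2)).1)⟩⟩
  have hLW : L ≤ normalizer (W : Set X) := by
    rw [hL, hW]
    intro g hg
    have key : ∀ h ∈ normalizer (J : Set X), ∀ u ∈ J ⊓ centralizer (J : Set X),
        h * u * h⁻¹ ∈ J ⊓ centralizer (J : Set X) := by
      intro h hh u hu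
      refine ⟨(mem_normalizer_iff.1 hh u).1 hu.1, mem_centralizer_iff.2 fun v hv => ?_⟩
      have h1 := mem_centralizer_iff.1 hu.2 (h⁻¹ * v * h)
        (by simpa using (mem_normalizer_iff.1 (inv_mem hh) v).1 hv)
      calc v * (h * u * h⁻¹) = h * (h⁻¹ * v * h * u) * h⁻¹ := by group
        _ = _ := by rw [h1]; group
    exact mem_normalizer_iff.2 fun u => ⟨key g hg u, fun hu => by
      simpa [mul_assoc] using key _ (inv_mem hg) _ hu⟩
  obtain ⟨P', hP'⟩ : ∃ P' : Sylow q L, P' = P.subtype hPL := ⟨_, rfl⟩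
  have hn : (P' : Subgroup L).Normal := by
    refine sylow_normal_of_cyclic _ L rfl (fun a b ha hb hb1 hc => Subtype.ext (hstar a b
      (by obtain ⟨e, he⟩ := ha; exact ⟨e, by rw [Subgroup.orderOf_coe, he]⟩)
      (by rwa [Subgroup.orderOf_coe]) (fun e => hb1 (Subtype.ext e)) ?_)) (fun t ht htq S => ?_) P'
    · obtain ⟨i, hi⟩ := hc
      exact ⟨i, by simpa using congrArg Subtype.val hi⟩
    haveI := Fact.mk ht
    obtain ⟨T, hT⟩ : ∃ T, T = (S : Subgroup L).map L.subtype := ⟨_, rfl⟩
    have hTp : IsPGroup t T := hT ▸ S.2.map _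
    have hTco : ∀ g ∈ T, (orderOf g).Coprime q := fun g hg =>
      coprime_of_isS hq.out ht htq (isS_of_mem hTp hg)
    haveI : IsCyclic T := by
      refine isCyclic_of_fpf hTp ((hT ▸ map_subtype_le _ : T ≤ L).trans hLW) hWc hyW hy1
        (coprime_of_isS ht hq.out htq.symm hys) (fun g hg hg1 w hw hc => ?_)
        (fun g h hg hh => hAB g h (hTco g hg) (hTco h hh))
      refine hstar w g (isS_of_mem P.2 (hJP (hW ▸ hw : w ∈ J ⊓ centralizer (J : Set X)).1))
        (hTco g hg) hg1 ?_
      rw [hc.symm.eq, mul_inv_cancel_right]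
      exact mem_zpowers _
    subst hT
    exact isCyclic_of_surjective
      ((S : Subgroup L).equivMapOfInjective L.subtype L.subtype_injective).symm.toMonoidHom
      (MulEquiv.surjective _)
  have hLP : L ≤ (P : Subgroup X) := fun g hg => hN.le (by
    refine mem_normalizer_iff.2 fun u => ?_
    have key : ∀ m : L, ∀ v ∈ (P : Subgroup X), (m : X) * v * (m : X)⁻¹ ∈ (P : Subgroup X) := by
      intro m v hv
      have := hn.conj_mem ⟨v, hPL hv⟩ (by rw [hP']; exact hv) m
      rw [hP'] at this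
      exact this
    exact ⟨key ⟨g, hg⟩ u, fun hu => by simpa [mul_assoc] using key ⟨g, hg⟩⁻¹ _ hu⟩)
  exact hnpc_of_isPGroup (P.2.to_le hLP)

end CfsgLib.ItoSizes
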