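import Cfsg.Agent.CoprimeSizes.Shared
import Cfsg.Agent.Transfer.PResidual
import Cfsg.Agent.Transfer.Basic

/-!
Finite groups with three class sizes (Ito): elementary tools about elements of prime power order
modulo the centre.
-/

set_option autoImplicit false
set_option linter.unusedSectionVars false
set_option linter.style.haveILetI false

namespace CfsgLib.ItoSizes

open Subgroup CfsgLib.TwoLargest CfsgLib.CoprimeSizes

variable {G : Type*} [Group G] [Finite G] {q s t : ℕ}

/-- The exponent of `s` in the order of a subgroup. -/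
noncomputable abbrev ex (s : ℕ) (H : Subgroup G) : ℕ := (Nat.card H).factorization s

theorem isS_one (s : ℕ) : IsS s (1 : G) := ⟨0, by simp⟩

theorem isS_of_dvd [hs : Fact s.Prime] {x y : G} (hx : IsS s x) (h : orderOf y ∣ orderOf x) : IsS s y := by
  obtain ⟨e, he⟩ := hx
  obtain ⟨j, -, hj⟩ := (Nat.dvd_prime_pow hs.out).1 (he ▸ h)
  exact ⟨j, hj⟩

theorem isS_map [Fact s.Prime] {H : Type*} [Group H] [Finite H] (f : G →* H) {x : G} (hx : IsS s x) :
    IsS s (f x) := by
  obtain ⟨e, he⟩ := hx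
  obtain ⟨j, -, hj⟩ := (Nat.dvd_prime_pow (Fact.out : s.Prime)).1 (he ▸ orderOf_map_dvd f x)
  exact ⟨j, hj⟩

theorem coprime_isS {x y : G} (hs : s.Prime) (ht : t.Prime) (hne : s ≠ t) (hx : IsS s x)
    (hy : IsS t y) : (orderOf x).Coprime (orderOf y) :=
  coprime_orders hx (coprime_of_isS hs ht hne.symm hy)

/-- An element outside a subgroup has a prime power part outside it. -/
theorem exists_part_notMem {H : Subgroup G} {g : G} (hg : g ∉ H) :
    ∃ (r : ℕ) (a : G), r.Prime ∧ a ∈ zpowers g ∧ IsS r a ∧ a ∉ H := by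
  by_contra hc
  push Not at hc
  exact hg (mem_of_parts fun r a hr ha he => hc r a hr ha he)

theorem exists_part (g : G) (hg : g ∉ center G) :
    ∃ (r : ℕ) (a : G), r.Prime ∧ a ∈ zpowers g ∧ IsS r a ∧ a ∉ center G :=
  exists_part_notMem hg

theorem C_le_of_mem_zpowers {g a : G} (ha : a ∈ zpowers g) : C g ≤ C a := by
  intro z hz
  obtain ⟨i, rfl⟩ := ha
  exact mem_C.2 ((mem_C.1 hz).zpow_left i)

theorem mem_C_comm {x y : G} : y ∈ C x ↔ x ∈ C y := by rw [mem_C, mem_C]; exact ⟨Commute.symm, Commute.symm⟩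

theorem commute_of_isComm {A : Subgroup G} (hA : IsMulCommutative A) {x y : G} (hx : x ∈ A)
    (hy : y ∈ A) : Commute x y :=
  congrArg Subtype.val (hA.is_comm.comm ⟨x, hx⟩ ⟨y, hy⟩)

theorem le_C_of_isComm {A : Subgroup G} (hA : IsMulCommutative A) {x : G} (hx : x ∈ A) : A ≤ C x :=
  fun _ hy => mem_C.2 (commute_of_isComm hA hx hy)

/-- Elements of coprime orders commuting modulo the centre commute. -/
theorem commute_of_mod {b g : G} (hz : b⁻¹ * (g * b * g⁻¹) ∈ center G)
    (hco : (orderOf g).Coprime (orderOf b)) : Commute g b := by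
  set ζ := b⁻¹ * (g * b * g⁻¹) with hζ
  have h1 : orderOf ζ ∣ orderOf b := orderOf_dvd_of_pow_eq_one
    (zeta_pow hz (by rw [pow_orderOf_eq_one]; exact one_mem _))
  have h2 : orderOf ζ ∣ orderOf g := orderOf_dvd_of_pow_eq_one (by
    have h := conj_pow_eq hz (orderOf g)
    rw [pow_orderOf_eq_one, one_mul, inv_one, mul_one] at h
    exact (left_eq_mul.1 h))
  have h3 : ζ = 1 := orderOf_eq_one_iff.1 (Nat.eq_one_of_dvd_coprimes hco h2 h1)
  rw [hζ, inv_mul_eq_one, eq_comm, mul_inv_eq_iff_eq_mul] at h3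
  exact h3

/-- Whatever conjugates a point of a centraliser to a point with the same centraliser normalises it. -/
theorem mem_normalizer_of_C_eq {a g : G} (h : C (g * a * g⁻¹) = C a) :
    g ∈ normalizer ((C a : Subgroup G) : Set G) := by
  refine mem_normalizer_iff.2 fun v => ?_
  conv_rhs => rw [← h]
  rw [mem_C, mem_C]
  constructor
  · intro hv
    simpa [mul_assoc] using hv.map (MulAut.conj g).toMonoidHom
  · intro hv
    simpa [mul_assoc] using hv.map (MulAut.conj g⁻¹).toMonoidHom

theorem C_conj_eq (a g : G) : C (g * a * g⁻¹) = (C a).map (MulAut.conj g).toMonoidHom := by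
  ext v
  constructor
  · intro hv
    refine ⟨g⁻¹ * v * g, mem_C.2 ?_, by simp [mul_assoc]⟩
    simpa [mul_assoc] using (mem_C.1 hv).map (MulAut.conj g⁻¹).toMonoidHom
  · rintro ⟨w, hw, rfl⟩
    exact mem_C.2 (by simpa [mul_assoc] using (mem_C.1 hw).map (MulAut.conj g).toMonoidHom)

theorem conj_center {z : G} (hz : z ∈ center G) (g : G) : g * z * g⁻¹ = z := by
  rw [Subgroup.mem_center_iff.1 hz g, mul_inv_cancel_right]

theorem conj_notMem_center {a : G} (ha : a ∉ center G) (g : G) : g * a * g⁻¹ ∉ center G := fun h => by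
  have := conj_center h g⁻¹
  rw [show g⁻¹ * (g * a * g⁻¹) * g⁻¹⁻¹ = a by group] at this
  exact ha (this.symm ▸ h)

/-- A subgroup with more than the central `s`-part has a noncentral `s`-element. -/
theorem exists_isS_notMem [hs : Fact s.Prime] {H Z : Subgroup G} (h : ex s Z < ex s H) :
    ∃ a ∈ H, IsS s a ∧ a ∉ Z := by
  obtain ⟨P⟩ : Nonempty (Sylow s H) := inferInstance
  by_contra hc
  push Not at hc
  have h1 : (P : Subgroup H).map H.subtype ≤ Z := by
    rintro _ ⟨u, hu, rfl⟩
    exact hc u u.2 (isS_of_mem (P.2.map H.subtype) (mem_map_of_mem _ hu))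
  have h2 := Subgroup.card_dvd_of_le h1
  rw [card_map_of_injective H.subtype_injective, P.card_eq_multiplicity] at h2
  exact absurd ((hs.out.pow_dvd_iff_le_factorization Nat.card_pos.ne').1 h2) (not_le.2 h)

/-- A noncentral `s`-element makes the `s`-part bigger than the central one. -/
theorem ex_center_lt [hs : Fact s.Prime] {H : Subgroup G} (hZ : center G ≤ H) {a : G} (haH : a ∈ H)
    (ha : IsS s a) (hac : a ∉ center G) : ex s (center G) < ex s H := by
  obtain ⟨Q⟩ : Nonempty (Sylow s (center G)) := inferInstance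
  obtain ⟨S, hS⟩ : ∃ S, S = (Q : Subgroup (center G)).map (center G).subtype := ⟨_, rfl⟩
  have hSp : IsPGroup s S := hS ▸ Q.2.map _
  have hSc : S ≤ center G := hS ▸ map_subtype_le _
  have hn : zpowers a ≤ normalizer (S : Set G) := zpowers_le.2 (mem_normalizer_iff.2 fun u => by
    constructor
    · intro hu; rwa [conj_center (hSc hu)]
    · intro hu
      have := conj_center (hSc hu) a⁻¹
      rw [show a⁻¹ * (a * u * a⁻¹) * a⁻¹⁻¹ = u by group] at this
      rwa [this])
  have hJ : IsPGroup s ↥(zpowers a ⊔ S) := (isPGroup_zpowers ha).to_sup_of_normal_right' hSp hn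
  have hle : zpowers a ⊔ S ≤ H := sup_le (zpowers_le.2 haH) (hSc.trans hZ)
  have hlt : Nat.card S < Nat.card ↥(zpowers a ⊔ S) := by
    refine lt_of_le_of_ne (Nat.le_of_dvd Nat.card_pos (Subgroup.card_dvd_of_le le_sup_right))
      fun e => hac (hSc ?_)
    rw [Subgroup.eq_of_le_of_card_ge le_sup_right e.ge]
    exact mem_sup_left (mem_zpowers a)
  obtain ⟨j, hj⟩ := hJ.exists_card_eq
  rw [hS, card_map_of_injective (center G).subtype_injective, Q.card_eq_multiplicity] at hlt
  rw [← hS, hj] at hlt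
  have h1 := (hs.out.pow_dvd_iff_le_factorization Nat.card_pos.ne').1 (hj ▸ Subgroup.card_dvd_of_le hle)
  have h2 := (Nat.pow_lt_pow_iff_right hs.out.one_lt).1 hlt
  show (Nat.card (center G)).factorization s < (Nat.card H).factorization s
  omega

theorem ex_mono (s : ℕ) {A B : Subgroup G} (h : A ≤ B) : ex s A ≤ ex s B :=
  (Nat.factorization_le_iff_dvd Nat.card_pos.ne' Nat.card_pos.ne').2 (Subgroup.card_dvd_of_le h) s

/-- The `s`-elements of an abelian subgroup. -/
def part (s : ℕ) (A : Subgroup G) : Subgroup G := closure {a | a ∈ A ∧ IsS s a}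

theorem part_le (s : ℕ) (A : Subgroup G) : part s A ≤ A := (closure_le _).2 fun _ h => h.1

theorem mem_part {A : Subgroup G} {a : G} (ha : a ∈ A) (hs : IsS s a) : a ∈ part s A :=
  subset_closure ⟨ha, hs⟩

theorem part_spec [hs : Fact s.Prime] {A : Subgroup G} (hA : IsMulCommutative A) :
    IsPGroup s (part s A) ∧ Nat.card (part s A) = s ^ ex s A := by
  haveI := hA
  obtain ⟨P⟩ : Nonempty (Sylow s A) := inferInstance
  have hn : (P : Subgroup A).Normal :=
    ⟨fun u hu g => by rwa [mul_comm' g u, mul_inv_cancel_right]⟩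
  have e : part s A = (P : Subgroup A).map A.subtype := by
    refine le_antisymm ((closure_le _).2 ?_) ?_
    · rintro a ⟨haA, ha⟩
      obtain ⟨i, hi⟩ := ha
      obtain ⟨R, hR⟩ := (IsPGroup.of_card (p := s) (G := zpowers (⟨a, haA⟩ : A)) (n := i)
        (by rw [Nat.card_zpowers, Subgroup.orderOf_mk, hi])).exists_le_sylow
      haveI := Sylow.unique_of_normal P hn
      rw [Subsingleton.elim P R]
      exact ⟨_, hR (mem_zpowers _), rfl⟩
    · rintro _ ⟨u, hu, rfl⟩
      exact mem_part u.2 (isS_of_mem (P.2.map A.subtype) (mem_map_of_mem _ hu))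
  rw [e]
  exact ⟨P.2.map _, by rw [card_map_of_injective A.subtype_injective, P.card_eq_multiplicity]⟩

theorem mem_normalizer_part {A : Subgroup G} {g : G} (hg : g ∈ normalizer (A : Set G)) (s : ℕ) :
    g ∈ normalizer ((part s A : Subgroup G) : Set G) := by
  have key : ∀ h ∈ normalizer (A : Set G), ∀ a ∈ part s A, h * a * h⁻¹ ∈ part s A := by
    intro h hh a ha
    induction ha using closure_induction with
    | mem a ha => exact mem_part ((mem_normalizer_iff.1 hh a).1 ha.1) (isS_conj ha.2 h)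
    | one => simp
    | mul u w _ _ hu hw =>
      rw [show h * (u * w) * h⁻¹ = (h * u * h⁻¹) * (h * w * h⁻¹) by group]
      exact mul_mem hu hw
    | inv u _ hu =>
      rw [show h * u⁻¹ * h⁻¹ = (h * u * h⁻¹)⁻¹ by group]
      exact inv_mem hu
  refine mem_normalizer_iff.2 fun v => ⟨key g hg v, fun hv => ?_⟩
  simpa [mul_assoc] using key _ (inv_mem hg) _ hv

/-! ### The quotient by the centre -/

/-- The projection to the quotient by the centre. -/
abbrev pr : G →* G ⧸ center G := QuotientGroup.mk' (center G)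

theorem pr_eq_one {x : G} : pr x = 1 ↔ x ∈ center G := QuotientGroup.eq_one_iff x

theorem pr_eq_iff {x y : G} : pr x = pr y ↔ x⁻¹ * y ∈ center G := QuotientGroup.eq

theorem pr_comm_mod {x y : G} (h : Commute (pr x) (pr y)) : y⁻¹ * (x * y * x⁻¹) ∈ center G := by
  refine pr_eq_one.1 ?_
  rw [map_mul, map_mul, map_mul, map_inv, map_inv, h.eq, mul_inv_cancel_right, inv_mul_cancel]

theorem commute_of_pr {x y : G} (hco : (orderOf x).Coprime (orderOf y)) (h : Commute (pr x) (pr y)) :
    Commute x y :=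
  commute_of_mod (pr_comm_mod h) hco

theorem exists_lift_isS [hs : Fact s.Prime] {y : G ⧸ center G} (hy : IsS s y) :
    ∃ x : G, IsS s x ∧ pr x = y := by
  obtain ⟨g, rfl⟩ := QuotientGroup.mk'_surjective (center G) y
  obtain ⟨a, b, hab, -, hbg, ha, hb⟩ := FGSBSmall.exists_prime_split hs.out g
  refine ⟨a, ha, ?_⟩
  have hb1 : pr b = 1 := by
    refine eq_one_of_isS ?_ (hb.coprime_dvd_left (orderOf_map_dvd _ _))
    obtain ⟨k, hk⟩ := hy
    refine isS_of_dvd (x := pr g) ⟨k, hk⟩ (orderOf_dvd_of_mem_zpowers ?_)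
    rw [← MonoidHom.map_zpowers]
    exact mem_map_of_mem _ hbg
  rw [← hab, map_mul, hb1, mul_one]

theorem exists_lift_coprime (hq : q.Prime) {y : G ⧸ center G} (hy : (orderOf y).Coprime q) :
    ∃ x : G, (orderOf x).Coprime q ∧ pr x = y := by
  obtain ⟨x, hx, hxπ⟩ := FGSBSmall.exists_pi_lift (center G) (fun r => r ≠ q) y
    fun r hr hd e => hq.ne_one (Nat.eq_one_of_dvd_coprimes hy (e ▸ hd) dvd_rfl)
  exact ⟨x, (hq.coprime_iff_not_dvd.2 fun hd => hxπ q hq hd rfl).symm, hx⟩

/-- A normal complement lifts through the centre. -/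
theorem hnpc_of_pr [hq : Fact q.Prime] (h : Cfsg.HasNormalPComplement q (G ⧸ center G)) :
    Cfsg.HasNormalPComplement q G := by
  rw [PResidual.hasNormalPComplement_iff] at h
  obtain ⟨M, hM⟩ : ∃ M, M = (Cfsg.pResidual q (G ⧸ center G)).comap pr := ⟨_, rfl⟩
  have hres : Cfsg.pResidual q G ≤ M := by
    rw [hM, ← map_le_iff_le_comap]
    exact PResidual.map_pResidual_le _
  obtain ⟨P⟩ : Nonempty (Sylow q M) := inferInstance
  have hPc : ∀ u ∈ (P : Subgroup M), (u : G) ∈ center G := by
    intro u hu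
    refine pr_eq_one.1 (eq_one_of_isS (isS_map pr (isS_of_mem (P.2.map M.subtype) (mem_map_of_mem _ hu))) ?_)
    exact h.coprime_dvd_left (Subgroup.orderOf_dvd_natCard _ (Subgroup.mem_comap.1 (hM ▸ u.2)))
  have hMc : Cfsg.HasNormalPComplement q M :=
    TransferBasic.hasNormalPComplement_of_le_centralizer P fun m _ =>
      mem_centralizer_iff.2 fun u hu => Subtype.ext (Subgroup.mem_center_iff.1 (hPc u hu) m).symm
  rw [PResidual.hasNormalPComplement_iff] at hMc ⊢
  refine hMc.coprime_dvd_left ?_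
  rw [← Nat.card_congr (Subgroup.subgroupOfEquivOfLe hres).toEquiv]
  refine Subgroup.card_dvd_of_le ?_
  rw [← Subgroup.map_le_map_iff_of_injective M.subtype_injective, subgroupOf_map_subtype, inf_eq_left.2 hres]
  refine (closure_le _).2 fun g hg => ?_
  exact ⟨⟨g, hres (subset_closure hg)⟩, subset_closure (by show Nat.Coprime _ _; rwa [Subgroup.orderOf_mk]), rfl⟩

end CfsgLib.ItoSizes
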