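import Cfsg.Agent.ItoSizes.Basic

/-!
Abelian centralisers of elements of prime power order: normalisers and conjugacy.
-/

set_option autoImplicit false
set_option linter.unusedSectionVars false
set_option linter.style.haveILetI false

namespace CfsgLib.ItoSizes

open Subgroup CfsgLib.TwoLargest CfsgLib.CoprimeSizes

variable {G : Type*} [Group G] [Finite G]

/-- The centralisers of the noncentral elements of prime power order for the primes in `Π` are
abelian, and contain noncentral elements for a second such prime. -/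
structure AbCent (G : Type*) [Group G] (π : ℕ → Prop) : Prop where
  prime : ∀ s, π s → s.Prime
  comm : ∀ (s : ℕ) (e : G), π s → IsS s e → e ∉ center G → IsMulCommutative (C e)
  other : ∀ (s : ℕ) (e : G), π s → IsS s e → e ∉ center G →
    ∃ (t : ℕ) (a : G), π t ∧ t ≠ s ∧ IsS t a ∧ a ∈ C e ∧ a ∉ center G

/-- A component: the centraliser of such an element. -/
def IsComp (π : ℕ → Prop) (A : Subgroup G) : Prop :=
  ∃ (s : ℕ) (e : G), π s ∧ IsS s e ∧ e ∉ center G ∧ A = C e

variable {π : ℕ → Prop} {s t : ℕ} {A B : Subgroup G}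

theorem IsComp.center_le (hA : IsComp π A) : center G ≤ A := by
  obtain ⟨_, e, _, _, _, rfl⟩ := hA
  exact center_le_C e

theorem IsComp.comm (h : AbCent G π) (hA : IsComp π A) : IsMulCommutative A := by
  obtain ⟨s, e, hs, hes, hec, rfl⟩ := hA
  exact h.comm s e hs hes hec

theorem IsComp.C_eq (h : AbCent G π) (hA : IsComp π A) {a : G} (ha : a ∈ A) (ht : π t) (has : IsS t a)
    (hac : a ∉ center G) : C a = A := by
  obtain ⟨s, e, hs, hes, hec, rfl⟩ := hA
  refine le_antisymm ?_ (le_C_of_isComm (h.comm s e hs hes hec) ha)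
  exact le_C_of_isComm (h.comm t a ht has hac) (mem_C_comm.1 ha)

theorem isComp_C {e : G} (hs : π s) (hes : IsS s e) (hec : e ∉ center G) : IsComp π (C e) :=
  ⟨s, e, hs, hes, hec, rfl⟩

theorem IsComp.conj (hA : IsComp π A) (g : G) : IsComp π (A.map (MulAut.conj g).toMonoidHom) := by
  obtain ⟨s, e, hs, hes, hec, rfl⟩ := hA
  exact ⟨s, g * e * g⁻¹, hs, isS_conj hes g, conj_notMem_center hec g, (C_conj_eq e g).symm⟩

theorem IsComp.exists_other (h : AbCent G π) (hA : IsComp π A) (s : ℕ) :
    ∃ (t : ℕ) (a : G), π t ∧ t ≠ s ∧ IsS t a ∧ a ∈ A ∧ a ∉ center G := by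
  obtain ⟨r, e, hr, hes, hec, rfl⟩ := hA
  by_cases hrs : r = s
  · subst hrs
    exact h.other r e hr hes hec
  · exact ⟨r, e, hr, hrs, hes, self_mem_C e, hec⟩

/-- An abelian subgroup equal to the centraliser of each of its noncentral elements of prime power
order for the primes in `π`. -/
structure Good (π : ℕ → Prop) (A : Subgroup G) : Prop where
  prime : ∀ s, π s → s.Prime
  comm : IsMulCommutative A
  center_le : center G ≤ A
  C_eq : ∀ {a : G} {t : ℕ}, a ∈ A → π t → IsS t a → a ∉ center G → C a = A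
  exists_other : ∀ s : ℕ, ∃ (t : ℕ) (a : G), π t ∧ t ≠ s ∧ IsS t a ∧ a ∈ A ∧ a ∉ center G

theorem IsComp.good (h : AbCent G π) (hA : IsComp π A) : Good π A :=
  ⟨h.prime, hA.comm h, hA.center_le, fun ha ht has hac => hA.C_eq h ha ht has hac, hA.exists_other h⟩

theorem Good.mem_normalizer (hA : Good π A) {a g : G} (ha : a ∈ A) (ht : π t)
    (has : IsS t a) (hac : a ∉ center G) (hg : g * a * g⁻¹ ∈ A) : g ∈ normalizer (A : Set G) := by
  have h1 := hA.C_eq ha ht has hac
  rw [← h1]
  exact mem_normalizer_of_C_eq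
    ((hA.C_eq hg ht (isS_conj has g) (conj_notMem_center hac g)).trans h1.symm)

/-- An element outside `A` whose `x`-th power lies in `A` moves the `u`-elements of `A`. -/
theorem Good.mem_of_fix (hA : Good π A) {x u : ℕ} (hx : x.Prime) (hu : π u)
    (hxu : x ≠ u) {γ l : G} (hγ : γ ^ x ∈ A) (hl : l ∈ A) (hls : IsS u l) (hlc : l ∉ center G)
    (hfix : Commute (pr γ) (pr l)) : γ ∈ A := by
  by_contra hγA
  obtain ⟨r, a, hr, ha, har, haA⟩ := exists_part_notMem hγA
  obtain ⟨i, rfl⟩ := ha
  have hax : (γ ^ i) ^ x ∈ A := by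
    rw [← zpow_natCast, ← zpow_mul, mul_comm, zpow_mul, zpow_natCast]
    exact zpow_mem hγ i
  rcases eq_or_ne r x with rfl | hrx
  · have hc : Commute (pr (γ ^ i)) (pr l) := by rw [map_zpow]; exact hfix.zpow_left i
    have hc' := commute_of_pr (coprime_isS hr (hA.prime u hu) hxu har hls) hc
    exact haA ((hA.C_eq hl hu hls hlc).le (mem_C.2 hc'.symm))
  · obtain ⟨m, hm⟩ := exists_pow_eq_self_of_coprime (x := γ ^ i) (n := x)
      (coprime_of_isS hx hr hrx har).symm
    have h1 := pow_mem hax m
    rw [hm] at h1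
    exact haA h1

/-- A prime power subgroup normalising a component has index at most the prime over it. -/
theorem Good.card_le (hA : Good π A) [hs : Fact s.Prime] (hπ : π s)
    {S : Subgroup G} (hS : IsPGroup s S) (hle : part s A ≤ S) (hn : S ≤ normalizer (A : Set G))
    (hnc : ¬ part s A ≤ center G) : Nat.card S ≤ s * Nat.card (part s A) := by
  have hab := hA.comm
  by_cases heq : part s A = S
  · rw [← heq]; exact Nat.le_mul_of_pos_left _ hs.out.pos
  obtain ⟨t, l₀, ht, hts, hlt, hlA, hlc⟩ := hA.exists_other s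
  haveI := Fact.mk (hA.prime t ht)
  have hnB : S ≤ normalizer ((part s A : Subgroup G) : Set G) := fun g hg => mem_normalizer_part (hn hg) s
  have hidx : (part s A).relIndex S = s := by
    refine CoprimeSizes.relIndex_eq_prime (L := part t A) hS hle hnB heq
      (fun g hg => mem_normalizer_part (hn hg) t)
      (fun u hu v hv => commute_of_isComm hab (part_le t A hu) (part_le t A hv))
      (fun u hu v hv => commute_of_isComm hab (part_le s A hu) (part_le t A hv)) ?_ ?_
      (mem_part hlA hlt) hlc (coprime_of_isS hs.out (hA.prime t ht) hts hlt)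
    · intro u hu huB l hl huc
      by_contra hlc'
      refine huB (mem_part ?_ (isS_of_mem hS hu))
      rw [← hA.C_eq (part_le t A hl) ht (isS_of_mem (part_spec hab).1 hl) hlc']
      exact mem_C.2 huc.symm
    · intro u hu
      obtain ⟨v, hv, hvc, hvs, hcomm⟩ := exists_commutator_central hS hle hnB hnc
      refine mem_part ?_ (isS_of_mem hS (pow_mem hu s))
      rw [← hA.C_eq (part_le s A hv) hπ (isS_of_mem (part_spec hab).1 hv) hvc]
      exact pow_mem_C (hcomm u hu) hvs
  have e := ((part s A).subgroupOf S).card_mul_index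
  rw [Nat.card_congr (Subgroup.subgroupOfEquivOfLe hle).toEquiv] at e
  change Nat.card (part s A) * (part s A).relIndex S = _ at e
  rw [hidx, mul_comm] at e
  exact e.ge

theorem part_not_le_center [hs : Fact s.Prime] :
    ex s (center G) < ex s A → ¬ part s A ≤ center G := by
  intro hlt hle
  obtain ⟨a, ha, has, hac⟩ := exists_isS_notMem hlt
  exact hac (hle (mem_part ha has))

theorem IsComp.exists_part_notMem' (h : AbCent G π) (hA : IsComp π A) [hs : Fact s.Prime]
    (hle : ¬ part s A ≤ center G) : ∃ a ∈ A, IsS s a ∧ a ∉ center G := by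
  obtain ⟨a, ha, hac⟩ := SetLike.not_le_iff_exists.1 hle
  exact ⟨a, part_le s A ha, isS_of_mem (part_spec (hA.comm h)).1 ha, hac⟩

/-- Every Sylow subgroup for a prime in `Π` normalises a component. -/
theorem exists_layer (h : AbCent G π) [hs : Fact s.Prime] (hπ : π s) (R : Sylow s G)
    (hR : ¬ (R : Subgroup G) ≤ center G) :
    ∃ B : Subgroup G, IsComp π B ∧ (R : Subgroup G) ≤ normalizer (B : Set G) ∧
      part s B ≤ (R : Subgroup G) ∧ ¬ part s B ≤ center G ∧
      Nat.card (R : Subgroup G) ≤ s * Nat.card (part s B) := by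
  obtain ⟨v, hv, hvc, -, hcomm⟩ := exists_commutator_central R.2 le_rfl le_normalizer hR
  have hvs := isS_of_mem R.2 hv
  have hB : IsComp π (C v) := isComp_C hπ hvs hvc
  have hn : (R : Subgroup G) ≤ normalizer ((C v : Subgroup G) : Set G) :=
    fun g hg => mem_normalizer_C (hcomm g hg)
  have hle : part s (C v) ≤ (R : Subgroup G) := by
    rw [← R.3 ((R.2).to_sup_of_normal_right' (part_spec (hB.comm h)).1
      fun g hg => mem_normalizer_part (hn hg) s) le_sup_left]
    exact le_sup_right
  have hnc : ¬ part s (C v) ≤ center G := fun hl => hvc (hl (mem_part (self_mem_C v) hvs))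
  exact ⟨C v, hB, hn, hle, hnc, (hB.good h).card_le hπ R.2 hle hn hnc⟩

theorem ex_le_top (s : ℕ) (H : Subgroup G) : ex s H ≤ (Nat.card G).factorization s :=
  (Nat.factorization_le_iff_dvd Nat.card_pos.ne' Nat.card_pos.ne').2 H.card_subgroup_dvd_card s

/-- A component without a full Sylow subgroup is normalised by an element outside it. -/
theorem Good.exists_normalizing (hA : Good π A) [hs : Fact s.Prime] (hπ : π s)
    (hlt : ex s A < (Nat.card G).factorization s) (hnc : ex s (center G) < ex s A) :
    ∃ g ∈ normalizer (A : Set G), IsS s g ∧ g ∉ A := by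
  have hab := hA.comm
  obtain ⟨hp, hcard⟩ := part_spec (s := s) hab
  have h1 : s ^ (ex s A + 1) ∣ Nat.card (normalizer ((part s A : Subgroup G) : Set G)) :=
    Sylow.prime_pow_dvd_card_normalizer
      ((hs.out.pow_dvd_iff_le_factorization Nat.card_pos.ne').2 hlt) hcard
  have h2 : ex s (part s A) < ex s (normalizer ((part s A : Subgroup G) : Set G)) := by
    have e : ex s (part s A) = ex s A := by
      show (Nat.card (part s A)).factorization s = _
      rw [hcard, hs.out.factorization_pow, Finsupp.single_eq_same]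
    rw [e]
    exact (hs.out.pow_dvd_iff_le_factorization Nat.card_pos.ne').1 h1
  obtain ⟨g, hg, hgs, hgp⟩ := exists_isS_notMem h2
  obtain ⟨a, ha, has, hac⟩ := exists_isS_notMem hnc
  refine ⟨g, hA.mem_normalizer ha hπ has hac ?_, hgs, fun hgA => hgp (mem_part hgA hgs)⟩
  exact part_le s A ((mem_normalizer_iff.1 hg a).1 (mem_part ha has))

theorem ex_conj (A : Subgroup G) (g : G) (s : ℕ) : ex s (A.map (MulAut.conj g).toMonoidHom) = ex s A := by
  show (Nat.card _).factorization s = _
  rw [card_map_of_injective (MulEquiv.injective _)]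

/-- A component with a large or full `s`-part is conjugate to the layer component. -/
theorem IsComp.conj_layer (h : AbCent G π) (hA : IsComp π A) (hB : IsComp π B) [hs : Fact s.Prime]
    (hπ : π s) (R : Sylow s G) (hBR : (R : Subgroup G) ≤ normalizer (B : Set G))
    (hBle : part s B ≤ (R : Subgroup G)) (hBnc : ¬ part s B ≤ center G)
    (hcard : Nat.card (R : Subgroup G) ≤ s * Nat.card (part s B))
    (hnc : ex s (center G) < ex s A)
    (hbig : ex s (center G) + 2 ≤ ex s A ∨ ex s A = (Nat.card G).factorization s) :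
    ∃ g : G, A.map (MulAut.conj g).toMonoidHom = B := by
  obtain ⟨hp, hpc⟩ := part_spec (s := s) (hA.comm h)
  obtain ⟨R', hR'⟩ := hp.exists_le_sylow
  obtain ⟨g, hg⟩ := MulAction.exists_smul_eq G R' R
  refine ⟨g, ?_⟩
  obtain ⟨A', hA'⟩ : ∃ A', A' = A.map (MulAut.conj g).toMonoidHom := ⟨_, rfl⟩
  rw [← hA']
  have hA'c : IsComp π A' := hA' ▸ hA.conj g
  obtain ⟨hp', hpc'⟩ := part_spec (s := s) (hA'c.comm h)
  have hex : ex s A' = ex s A := hA' ▸ ex_conj A g s
  have hle : part s A' ≤ (R : Subgroup G) := by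
    refine (closure_le _).2 ?_
    rintro _ ⟨hv, hvs⟩
    rw [hA'] at hv
    obtain ⟨a, ha, rfl⟩ := hv
    rw [← hg, Sylow.coe_subgroup_smul]
    refine Subgroup.mem_map_of_mem _ (hR' (mem_part ha ?_))
    obtain ⟨i, hi⟩ := hvs
    exact ⟨i, by rw [← hi, (MulAut.conj g).toMonoidHom_eq_coe]; exact ((MulAut.conj g).orderOf_eq a).symm⟩
  by_cases hint : part s A' ⊓ part s B ≤ center G
  · exfalso
    rcases hbig with hbig | hfull
    · have hn : part s A' ≤ normalizer ((part s B : Subgroup G) : Set G) :=
        fun u hu => mem_normalizer_part (hBR (hle hu)) s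
      have h1 := Solvable.card_sup_mul_card_inf hn
      have h2 : Nat.card ↥(part s A' ⊔ part s B) ≤ s * Nat.card (part s B) :=
        (Nat.le_of_dvd Nat.card_pos (Subgroup.card_dvd_of_le (sup_le hle hBle))).trans hcard
      have h3 : Nat.card ↥(part s A' ⊓ part s B) ≤ s ^ ex s (center G) := by
        obtain ⟨j, hj⟩ := (hp'.to_le (inf_le_left (b := part s B))).exists_card_eq
        rw [hj]
        exact Nat.pow_le_pow_right hs.out.pos
          ((hs.out.pow_dvd_iff_le_factorization Nat.card_pos.ne').1 (hj ▸ Subgroup.card_dvd_of_le hint))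
      have h4 : Nat.card (part s A') * Nat.card (part s B) ≤
          s ^ (ex s (center G) + 1) * Nat.card (part s B) := by
        rw [← h1, pow_succ, mul_assoc, mul_comm (s ^ _)]
        exact Nat.mul_le_mul h2 h3
      have h5 := Nat.le_of_mul_le_mul_right h4 Nat.card_pos
      rw [hpc', hex, Nat.pow_le_pow_iff_right hs.out.one_lt] at h5
      omega
    · refine hBnc (le_trans ?_ hint)
      refine le_inf (le_of_le_of_eq hBle ?_) le_rfl
      exact (Subgroup.eq_of_le_of_card_ge hle (by
        rw [hpc', hex, hfull, R.card_eq_multiplicity])).symm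
  obtain ⟨a, ha, hac⟩ := SetLike.not_le_iff_exists.1 hint
  obtain ⟨ha1, ha2⟩ := Subgroup.mem_inf.1 ha
  have has := isS_of_mem hp' ha1
  rw [← hA'c.C_eq h (part_le s A' ha1) hπ has hac, hB.C_eq h (part_le s B ha2) hπ has hac]

/-- The image of an element normalising a component with a cyclic `t`-part of order `t`. -/
theorem IsComp.prime_le (h : AbCent G π) (hA : IsComp π A) [hs : Fact s.Prime] [ht : Fact t.Prime]
    (hπt : π t) (hts : t < s) (hsmall : ex t A = ex t (center G) + 1) {g : G}
    (hgn : g ∈ normalizer (A : Set G)) (hgs : IsS s g) : g ∈ A := by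
  obtain ⟨a, ha, hat, hac⟩ := exists_isS_notMem (s := t) (H := A) (Z := center G) (by omega)
  obtain ⟨Q, hQ⟩ : ∃ Q, Q = (part t A).map (pr : G →* G ⧸ center G) := ⟨_, rfl⟩
  have hQc : Nat.card Q ≤ t := by
    obtain ⟨hp, hpc⟩ := part_spec (s := t) (hA.comm h)
    have hZc : IsMulCommutative (center G) := inferInstance
    obtain ⟨hpz, hpzc⟩ := part_spec (s := t) hZc
    have hle : part t (center G) ≤ part t A := (closure_le _).2 fun z hz =>
      mem_part (hA.center_le hz.1) hz.2
    have e1 : Nat.card Q = (center G).relIndex (part t A) := by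
      rw [hQ, ← Subgroup.relIndex_bot_left, ← Subgroup.map_bot (pr : G →* G ⧸ center G),
        Subgroup.relIndex_map_map]
      simp [QuotientGroup.ker_mk']
    have e2 : Nat.card ↥((center G).subgroupOf (part t A)) * Nat.card Q = Nat.card (part t A) := by
      rw [e1]; exact ((center G).subgroupOf (part t A)).card_mul_index
    have h3 : Nat.card (part t (center G)) ≤ Nat.card ↥((center G).subgroupOf (part t A)) := by
      rw [← Nat.card_congr (Subgroup.subgroupOfEquivOfLe hle).toEquiv]
      exact Nat.le_of_dvd Nat.card_pos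
        (Subgroup.card_dvd_of_le (Subgroup.comap_mono (part_le t (center G))))
    have h4 := Nat.mul_le_mul_right (Nat.card Q) h3
    rw [e2, hpzc, hpc, hsmall, pow_succ] at h4
    exact Nat.le_of_mul_le_mul_left h4 (pow_pos ht.out.pos _)
  have haQ : pr a ∈ Q := hQ ▸ mem_map_of_mem _ (mem_part ha hat)
  have ha1 : pr a ≠ 1 := fun e => hac (pr_eq_one.1 e)
  have hzQ : zpowers (pr a) = Q := by
    refine Subgroup.eq_of_le_of_card_ge (zpowers_le.2 haQ) (hQc.trans ?_)
    rw [Nat.card_zpowers]
    obtain ⟨i, hi⟩ := isS_map (pr : G →* G ⧸ center G) hat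
    rw [hi]
    exact Nat.le_of_dvd (pow_pos ht.out.pos i) (dvd_pow_self t fun i0 => ha1 (orderOf_eq_one_iff.1 (by
      rw [hi, i0, pow_zero])))
  have hconj : pr g * pr a * (pr g)⁻¹ ∈ zpowers (pr a) := by
    rw [hzQ, hQ, ← map_inv, ← map_mul, ← map_mul]
    exact mem_map_of_mem _ (mem_part ((mem_normalizer_iff.1 hgn a).1 ha) (isS_conj hat g))
  have hord : orderOf (pr a) = t := by
    refine orderOf_eq_prime (orderOf_dvd_iff_pow_eq_one.1 ?_) ha1
    rw [← Nat.card_zpowers, hzQ]
    obtain ⟨j, hj⟩ := (hQ ▸ (part_spec (hA.comm h)).1.map _ : IsPGroup t Q).exists_card_eq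
    rw [hj] at hQc ⊢
    have : j ≤ 1 := by rwa [← Nat.pow_le_pow_iff_right ht.out.one_lt, pow_one]
    exact (pow_dvd_pow t this).trans (by rw [pow_one])
  have hc : Commute (pr g) (pr a) := by
    refine FGSBSmall.commute_of_totient hconj ?_
    rw [hord, Nat.totient_prime ht.out]
    obtain ⟨i, hi⟩ := isS_map (pr : G →* G ⧸ center G) hgs
    rw [hi]
    refine Nat.Coprime.pow_left i (hs.out.coprime_iff_not_dvd.2 fun hd => ?_)
    have := Nat.le_of_dvd (by have := ht.out.two_le; omega) hd
    omega
  rw [← hA.C_eq h ha hπt hat hac]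
  exact mem_C.2 (commute_of_pr (coprime_isS hs.out ht.out hts.ne' hgs hat) hc).symm

/-- Components with the same order are conjugate. -/
theorem exists_conj (h : AbCent G π) (hA : IsComp π A) (hB : IsComp π B)
    (hcard : Nat.card A = Nat.card B) (hs : π s) (ht : π t) (hst : s ≠ t)
    (hsA : ex s (center G) < ex s A) (htA : ex t (center G) < ex t A) :
    ∃ g : G, A.map (MulAut.conj g).toMonoidHom = B := by
  haveI := Fact.mk (h.prime s hs)
  haveI := Fact.mk (h.prime t ht)
  have key : ∀ r, π r → ex r (center G) < ex r A →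
      (ex r (center G) + 2 ≤ ex r A ∨ ex r A = (Nat.card G).factorization r) →
      ∃ g : G, A.map (MulAut.conj g).toMonoidHom = B := by
    intro r hr hrA hbig
    haveI := Fact.mk (h.prime r hr)
    obtain ⟨R⟩ : Nonempty (Sylow r G) := inferInstance
    have hR : ¬ (R : Subgroup G) ≤ center G := fun hle => by
      have h1 := (Fact.out : r.Prime).pow_dvd_iff_le_factorization (n := Nat.card (center G))
        (k := (Nat.card G).factorization r) Nat.card_pos.ne'
      have h2 := ex_le_top r A
      have h3 := h1.1 (R.card_eq_multiplicity ▸ Subgroup.card_dvd_of_le hle)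
      have : (Nat.card (center G)).factorization r = ex r (center G) := rfl
      omega
    obtain ⟨L, hL, h1, h2, h3, h4⟩ := exists_layer h hr R hR
    obtain ⟨g, hg⟩ := hA.conj_layer h hL hr R h1 h2 h3 h4 hrA hbig
    have e : ex r B = ex r A := by show (Nat.card B).factorization r = _; rw [← hcard]
    obtain ⟨g', hg'⟩ := hB.conj_layer h hL hr R h1 h2 h3 h4 (e ▸ hrA) (e ▸ hbig)
    refine ⟨g'⁻¹ * g, ?_⟩
    rw [← hg] at hg'
    refine Subgroup.map_injective (f := (MulAut.conj g').toMonoidHom) (MulEquiv.injective _) ?_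
    rw [hg', Subgroup.map_map]
    congr 1
    ext z
    simp [mul_assoc]
  by_contra hno
  have hs2 : ¬ (ex s (center G) + 2 ≤ ex s A ∨ ex s A = (Nat.card G).factorization s) :=
    fun hb => hno (key s hs hsA hb)
  have ht2 : ¬ (ex t (center G) + 2 ≤ ex t A ∨ ex t A = (Nat.card G).factorization t) :=
    fun hb => hno (key t ht htA hb)
  push Not at hs2 ht2
  have h1 := ex_le_top s A
  have h2 := ex_le_top t A
  rcases lt_or_gt_of_ne hst with hlt | hlt
  · obtain ⟨g, hg, hgs, hgA⟩ := (hA.good h).exists_normalizing ht (lt_of_le_of_ne h2 ht2.2) htA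
    exact hgA (hA.prime_le h hs hlt (by omega) hg hgs)
  · obtain ⟨g, hg, hgs, hgA⟩ := (hA.good h).exists_normalizing hs (lt_of_le_of_ne h1 hs2.2) hsA
    exact hgA (hA.prime_le h ht hlt (by omega) hg hgs)

/-- With one class of components the index of the normaliser avoids `Π`. -/
theorem IsComp.not_dvd_index (h : AbCent G π) (hA : IsComp π A)
    (hone : ∀ B, IsComp π B → ∃ g : G, A.map (MulAut.conj g).toMonoidHom = B) [hs : Fact s.Prime]
    (hπ : π s) (hnc : ex s (center G) < (Nat.card G).factorization s) :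
    ¬ s ∣ (normalizer (A : Set G)).index := by
  obtain ⟨R⟩ : Nonempty (Sylow s G) := inferInstance
  have hR : ¬ (R : Subgroup G) ≤ center G := fun hle => absurd
    ((hs.out.pow_dvd_iff_le_factorization Nat.card_pos.ne').1
      (R.card_eq_multiplicity ▸ Subgroup.card_dvd_of_le hle)) (not_le.2 hnc)
  obtain ⟨B, hB, hn, -, -, -⟩ := exists_layer h hπ R hR
  obtain ⟨g, hg⟩ := hone B hB
  intro hd
  refine R.not_dvd_index (hd.trans ?_)
  have e : (normalizer (B : Set G)).index = (normalizer (A : Set G)).index := by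
    rw [← hg]
    show (normalizer ((A.map (MulAut.conj g).toMonoidHom : Subgroup G) : Set G)).index = _
    rw [← Subgroup.map_equiv_normalizer_eq A (MulAut.conj g),
      Subgroup.index_map_of_bijective (MulEquiv.bijective (MulAut.conj g))]
  exact e ▸ Subgroup.index_dvd_of_le hn

end CfsgLib.ItoSizes
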