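import Cfsg.Agent.ItoSizes.Sub

/-!
Three class sizes: the divisible case.
-/

set_option autoImplicit false
set_option linter.unusedSectionVars false
set_option linter.style.haveILetI false

namespace CfsgLib.ItoSizes

open Subgroup CfsgLib.TwoLargest CfsgLib.CoprimeSizes

universe u

variable {G : Type u} [Group G] [Finite G] {a b q r s t : ℕ}

/-- The nontrivial class sizes `a`, `b` with `b / a` divisible by every prime divisor of `|G|`. -/
structure Div (G : Type u) [Group G] (a b : ℕ) : Prop where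
  red : Red G a b
  ha : 0 < a
  dvd : a ∣ b
  lt : ∀ s : ℕ, s.Prime → s ∣ Nat.card G → a.factorization s < b.factorization s

/-- The primes dividing the order, without `q`. -/
abbrev away (G : Type u) [Group G] (q : ℕ) : ℕ → Prop := fun s => s.Prime ∧ s ≠ q ∧ s ∣ Nat.card G

theorem prime_dvd_of_isS (hs : s.Prime) {w : G} (hws : IsS s w) (hw : w ≠ 1) : s ∣ Nat.card G := by
  obtain ⟨e, he⟩ := hws
  refine (dvd_pow_self s (n := e) fun e0 => hw (orderOf_eq_one_iff.1
    (show orderOf w = 1 by rw [he, e0, pow_zero]))).trans ?_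
  rw [← he]
  exact _root_.orderOf_dvd_natCard w

theorem away_of_isS (hs : s.Prime) (hsq : s ≠ q) {w : G} (hws : IsS s w) (hwc : w ∉ center G) :
    away G q s :=
  ⟨hs, hsq, prime_dvd_of_isS hs hws fun e => hwc (e ▸ one_mem _)⟩

namespace Div

variable (h : Div G a b)

include h

theorem ne : a ≠ b := by
  obtain ⟨s, hs, hd, -, -⟩ := h.red.three 0 0
  intro e
  exact absurd (e ▸ h.lt s hs hd) (lt_irrefl _)

theorem ex_lt {x y : G} (hx : k x = a) (hy : k y = b) (hs : s.Prime) (hd : s ∣ Nat.card G) :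
    ex s (C y) < ex s (C x) := by
  have h1 := ex_C_add x s
  have h2 := ex_C_add y s
  have h3 := h.lt s hs hd
  rw [hx] at h1
  rw [hy] at h2
  omega

theorem k_small {x y : G} (hy : k y = a) (hx : x ∉ center G) (hle : C y ≤ C x) :
    k x = a ∧ C x = C y := by
  have hd := k_dvd hle
  rw [hy] at hd
  have hxa : k x = a := (h.red.sizes x hx).resolve_right fun e => h.ne (Nat.dvd_antisymm h.dvd (e ▸ hd))
  exact ⟨hxa, (C_eq_of_le hle (by rw [hxa, hy])).symm⟩

theorem prod {u e : G} (hu : k u = a) (huc : u ∉ center G) (he : e ∈ C u)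
    (hco : (orderOf u).Coprime (orderOf e)) (hne : ¬ C u ≤ C e) :
    k (u * e) = b ∧ C (u * e) = C u ⊓ C e ∧ u * e ∉ center G := by
  have hc : Commute u e := mem_C.1 he
  have hC := C_mul hc hco
  have hnc : u * e ∉ center G := fun hm => huc (mem_center_of_k (Nat.dvd_one.1
    (k_of_center hm ▸ k_dvd_mul_left hc hco)))
  refine ⟨(h.red.sizes _ hnc).resolve_left fun e' => hne ?_, hC, hnc⟩
  have h1 := C_eq_of_le (hC ▸ inf_le_left : C (u * e) ≤ C u) (by rw [e', hu])
  rw [← h1, hC]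
  exact inf_le_right

/-- Every prime has an element in the centraliser of the product that is not central for `u`. -/
theorem rich {u e : G} (hu : k u = a) (huc : u ∉ center G) (hqu : IsS q u) (hq : q.Prime)
    (he : e ∈ C u) (hco : (orderOf u).Coprime (orderOf e)) (hne : ¬ C u ≤ C e)
    (hs : s.Prime) (hsq : s ≠ q) (hd : s ∣ Nat.card G) :
    ∃ w ∈ C (u * e), IsS s w ∧ ¬ C u ≤ C w := by
  haveI := Fact.mk hs
  obtain ⟨hkb, hC, -⟩ := h.prod hu huc he hco hne
  have hlt := h.ex_lt hu hkb hs hd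
  have hDu : C (u * e) ≤ C u := hC ▸ inf_le_left
  obtain ⟨Q⟩ : Nonempty (Sylow s (C (u * e))) := inferInstance
  obtain ⟨S, hS⟩ : ∃ S, S = (Q : Subgroup (C (u * e))).map (C (u * e)).subtype := ⟨_, rfl⟩
  have hSp : IsPGroup s S := hS ▸ Q.2.map _
  have hSD : S ≤ C (u * e) := hS ▸ map_subtype_le _
  have hScard : Nat.card S = s ^ ex s (C (u * e)) := by
    rw [hS, card_map_of_injective (C (u * e)).subtype_injective, Q.card_eq_multiplicity]
  by_contra hall
  push Not at hall
  -- an element outside the centre of `C u`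
  obtain ⟨w₀, hw₀u, hw₀s, hw₀⟩ : ∃ w₀ ∈ C u, IsS s w₀ ∧ ¬ C u ≤ C w₀ := by
    by_contra hall'
    push Not at hall'
    obtain ⟨Q'⟩ : Nonempty (Sylow s (C u)) := inferInstance
    have h1 := card_le_of_isPGroup (Q'.2.map (C u).subtype) (K := C (u * e)) (by
      rintro _ ⟨v, hv, rfl⟩
      rw [hC]
      exact Subgroup.mem_inf.2 ⟨v.2, mem_C_comm.1
        (hall' v v.2 (isS_of_mem (Q'.2.map (C u).subtype) (mem_map_of_mem _ hv)) he)⟩)
    rw [card_map_of_injective (C u).subtype_injective, Q'.card_eq_multiplicity,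
      Nat.pow_le_pow_iff_right hs.one_lt] at h1
    change ex s (C u) ≤ _ at h1
    omega
  obtain ⟨hkb', hC', -⟩ := h.prod hu huc hw₀u (coprime_isS hq hs hsq.symm hqu hw₀s) hw₀
  have hcomm : ∀ v ∈ S, Commute v w₀ := fun v hv =>
    mem_C.1 (hall v (hSD hv) (isS_of_mem hSp hv) hw₀u)
  have hn : zpowers w₀ ≤ normalizer (S : Set G) := zpowers_le.2 (mem_normalizer_iff.2 fun v => by
    constructor
    · intro hv
      rwa [(hcomm v hv).symm.eq, mul_inv_cancel_right]
    · intro hv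
      have e1 := (hcomm _ hv).eq
      have : v = w₀ * v * w₀⁻¹ := by
        calc v = w₀⁻¹ * (w₀ * v * w₀⁻¹ * w₀) := by group
          _ = w₀⁻¹ * (w₀ * (w₀ * v * w₀⁻¹)) := by rw [e1]
          _ = _ := by group
      rwa [this])
  have hle : zpowers w₀ ⊔ S ≤ C (u * w₀) := by
    rw [hC']
    refine sup_le (zpowers_le.2 (Subgroup.mem_inf.2 ⟨hw₀u, self_mem_C w₀⟩)) fun v hv => ?_
    exact Subgroup.mem_inf.2 ⟨hDu (hSD hv), mem_C.2 (hcomm v hv).symm⟩
  have h1 := card_le_of_isPGroup ((isPGroup_zpowers hw₀s).to_sup_of_normal_right' hSp hn) hle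
  rw [ex_C_eq (hkb'.trans hkb.symm), ← hScard] at h1
  have hwS : w₀ ∈ S := (Subgroup.eq_of_le_of_card_ge le_sup_right h1).ge (mem_sup_left (mem_zpowers w₀))
  exact hw₀ (hall w₀ (hSD hwS) hw₀s)

/-- The centraliser of a large product is central on the elements for a third prime. -/
theorem mid {u e : G} (hu : k u = a) (huc : u ∉ center G) (hqu : IsS q u) (hq : q.Prime)
    (he : e ∈ C u) (hr : r.Prime) (hre : IsS r e) (hqr : r ≠ q) (hne : ¬ C u ≤ C e)
    {t : G} (hs : s.Prime) (hsq : s ≠ q) (hsr : s ≠ r) (hts : IsS s t) (ht : t ∈ C (u * e)) :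
    C (u * e) ≤ C t := by
  obtain ⟨hkb, -, hnc⟩ := h.prod hu huc he (coprime_isS hq hr hqr.symm hqu hre) hne
  have hc : Commute (u * e) t := mem_C.1 ht
  have hco : (orderOf (u * e)).Coprime (orderOf t) := by
    rw [(mem_C.1 he).orderOf_mul_eq_mul_orderOf_of_coprime (coprime_isS hq hr hqr.symm hqu hre)]
    exact Nat.Coprime.mul_left (coprime_isS hq hs hsq.symm hqu hts) (coprime_isS hr hs hsr.symm hre hts)
  have hC := C_mul hc hco
  have hd := k_dvd_mul_left hc hco
  rw [hkb] at hd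
  have hnc' : u * e * t ∉ center G := fun hm => hnc (mem_center_of_k (Nat.dvd_one.1
    (k_of_center hm ▸ k_dvd_mul_left hc hco)))
  have hk : k (u * e * t) = b := (h.red.sizes _ hnc').resolve_left fun e' => h.ne
    (Nat.dvd_antisymm h.dvd (e' ▸ hd))
  rw [← C_eq_of_le (hC ▸ inf_le_left : C (u * e * t) ≤ C (u * e)) (by rw [hk, hkb]), hC]
  exact inf_le_right

/-- The centraliser of a large product is abelian. -/
theorem abelian {u e : G} (hu : k u = a) (huc : u ∉ center G) (hqu : IsS q u) (hq : q.Prime)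
    (he : e ∈ C u) (hr : r.Prime) (hre : IsS r e) (hqr : r ≠ q) (hne : ¬ C u ≤ C e) :
    IsMulCommutative (C (u * e)) := by
  have hco := coprime_isS hq hr hqr.symm hqu hre
  obtain ⟨hkb, hC, -⟩ := h.prod hu huc he hco hne
  obtain ⟨s, hs, hsd, hsq, hsr⟩ := h.red.three q r
  -- through a third prime
  have third : ∀ {u e : G} {q r : ℕ}, k u = a → u ∉ center G → IsS q u → q.Prime → e ∈ C u → r.Prime →
      IsS r e → r ≠ q → ¬ C u ≤ C e → s ≠ q → s ≠ r →
      ∀ t ∈ C (u * e), IsS r t → C (u * e) ≤ C t := by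
    intro u e q r hu huc hqu hq he hr hre hqr hne hsq hsr t ht htr
    have hco := coprime_isS hq hr hqr.symm hqu hre
    obtain ⟨hkb, hC, -⟩ := h.prod hu huc he hco hne
    obtain ⟨w, hwD, hws, hw⟩ := h.rich hu huc hqu hq he hco hne hs hsq hsd
    have hwle := h.mid hu huc hqu hq he hr hre hqr hne hs hsq hsr hws hwD
    have hDu : C (u * e) ≤ C u := hC ▸ inf_le_left
    obtain ⟨hkb', hC', -⟩ := h.prod hu huc (hDu hwD) (coprime_isS hq hs hsq.symm hqu hws) hw
    have heq : C (u * e) = C (u * w) :=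
      C_eq_of_le (hC'.symm ▸ le_inf hDu hwle) (by rw [hkb, hkb'])
    rw [heq] at ht ⊢
    exact h.mid hu huc hqu hq (hDu hwD) hs hws hsq hw hr hqr hsr.symm htr ht
  have hparts : ∀ (p : ℕ) (t : G), p.Prime → IsS p t → t ∈ C (u * e) → C (u * e) ≤ C t := by
    intro p t hp hpt ht
    rcases eq_or_ne p r with rfl | hpr
    · exact third hu huc hqu hq he hr hre hqr hne hsq hsr t ht hpt
    rcases eq_or_ne p q with rfl | hpq
    swap
    · exact h.mid hu huc hqu hq he hr hre hqr hne hp hpq hpr hpt ht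
    have hec : e ∉ center G := fun hm => hne fun g _ => mem_C.2 (Subgroup.mem_center_iff.1 hm g).symm
    rcases h.red.sizes e hec with hka | hkb'
    · have hne' : ¬ C e ≤ C u := fun hle => hne ((h.k_small hka huc hle).2 ▸ le_rfl)
      have hcomm : Commute u e := mem_C.1 he
      rw [hcomm.eq] at ht ⊢
      exact third hka hec hre hr (mem_C_comm.1 he) hq hqu hqr.symm hne' hsr hsq t ht hpt
    · have hDe : C (u * e) ≤ C e := hC ▸ inf_le_right
      have heq := C_eq_of_le hDe (by rw [hkb, hkb'])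
      rw [heq] at ht ⊢
      have hc' : Commute e t := mem_C.1 ht
      have hco' := coprime_isS hr hp hqr hre hpt
      have hd := k_dvd_mul_left hc' hco'
      rw [hkb'] at hd
      have hnc' : e * t ∉ center G := fun hm => hec (mem_center_of_k (Nat.dvd_one.1
        (k_of_center hm ▸ k_dvd_mul_left hc' hco')))
      have hk : k (e * t) = b := (h.red.sizes _ hnc').resolve_left fun e' => h.ne
        (Nat.dvd_antisymm h.dvd (e' ▸ hd))
      rw [← C_eq_of_le ((C_mul hc' hco').symm ▸ inf_le_left : C (e * t) ≤ C e) (by rw [hk, hkb']),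
        C_mul hc' hco']
      exact inf_le_right
  refine ⟨⟨fun g g' => Subtype.ext ?_⟩⟩
  have hle : (g : G) ∈ C (u * e) ⊓ centralizer ((C (u * e) : Subgroup G) : Set G) := by
    refine mem_of_parts fun p t hp htg hts => ?_
    have htD : t ∈ C (u * e) := zpowers_le.2 g.2 htg
    exact Subgroup.mem_inf.2 ⟨htD, mem_centralizer_iff.2 fun v hv => (mem_C.1 (hparts p t hp hts htD hv)).eq.symm⟩
  exact (mem_centralizer_iff.1 (Subgroup.mem_inf.1 hle).2 g' g'.2).symm

/-! ### Inside the centraliser of a small element -/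

variable {u : G} {H : Subgroup G}

theorem sub_elem (hu : k u = a) (huc : u ∉ center G) (hqu : IsS q u) (hq : q.Prime) (hH : C u = H)
    {e : H} (hs : away G q s) (hes : IsS s (e : G)) (hec : e ∉ center H) :
    (e : G) ∈ C u ∧ ¬ C u ≤ C (e : G) ∧ C e = (C (u * e)).subgroupOf H ∧
      IsMulCommutative (C (u * (e : G))) ∧ Nat.card (C e) = Nat.card (C (u * (e : G))) ∧ k (u * (e : G)) = b := by
  have he : (e : G) ∈ C u := hH.ge e.2
  have hne : ¬ C u ≤ C (e : G) := fun hle => hec (center_sub.2 (hH ▸ hle))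
  obtain ⟨hkb, hC, -⟩ := h.prod hu huc he (coprime_isS hq hs.1 hs.2.1.symm hqu hes) hne
  have e1 : C e = (C (u * e)).subgroupOf H := by
    rw [C_sub, hC, hH]
    ext g
    simp [Subgroup.mem_subgroupOf]
  refine ⟨he, hne, e1, h.abelian hu huc hqu hq he hs.1 hes hs.2.1 hne, ?_, hkb⟩
  rw [e1]
  exact Nat.card_congr (Subgroup.subgroupOfEquivOfLe (hH ▸ hC ▸ inf_le_left)).toEquiv

theorem sub_rich (hu : k u = a) (huc : u ∉ center G) (hqu : IsS q u) (hq : q.Prime) (hH : C u = H)
    {e : H} (hs : away G q s) (hes : IsS s (e : G)) (hec : e ∉ center H) (ht : away G q t) :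
    ∃ w : H, w ∈ C e ∧ IsS t w ∧ w ∉ center H := by
  obtain ⟨he, hne, e1, -, -, -⟩ := h.sub_elem hu huc hqu hq hH hs hes hec
  have hco := coprime_isS hq hs.1 hs.2.1.symm hqu hes
  obtain ⟨w, hwD, hws, hw⟩ := h.rich hu huc hqu hq he hco hne ht.1 ht.2.1 ht.2.2
  have hwH : w ∈ H := hH ▸ ((C_mul (mem_C.1 he) hco).le hwD).1
  exact ⟨⟨w, hwH⟩, e1 ▸ hwD, isS_coe.1 hws, fun hc => hw (hH ▸ center_sub.1 hc)⟩

theorem sub_abCent (hu : k u = a) (huc : u ∉ center G) (hqu : IsS q u) (hq : q.Prime) (hH : C u = H) :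
    AbCent H (away G q) := by
  refine ⟨fun s hs => hs.1, fun s e hs hes hec => ?_, fun s e hs hes hec => ?_⟩
  · obtain ⟨-, -, e1, hab, -, -⟩ := h.sub_elem hu huc hqu hq hH hs (isS_coe.2 hes) hec
    rw [e1]
    exact comm_sub hab H
  · obtain ⟨t, ht, htd, hts, htq⟩ := h.red.three s q
    obtain ⟨w, h1, h2, h3⟩ := h.sub_rich hu huc hqu hq hH hs (isS_coe.2 hes) hec (t := t) ⟨ht, htq, htd⟩
    exact ⟨t, w, ⟨ht, htq, htd⟩, hts, h2, h1, h3⟩

theorem sub_comp (hu : k u = a) (huc : u ∉ center G) (hqu : IsS q u) (hq : q.Prime) (hH : C u = H)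
    {A : Subgroup H} (hA : IsComp (away G q) A) :
    (∀ x : ℕ, ex x A + b.factorization x = (Nat.card G).factorization x) ∧
    (∀ x : ℕ, (Nat.card H).factorization x + a.factorization x = (Nat.card G).factorization x) ∧
    (∀ t, away G q t → ex t (center H) < ex t A ∧ ex t A < (Nat.card H).factorization t) ∧
    (∀ B : Subgroup H, IsComp (away G q) B → ∃ g : H, A.map (MulAut.conj g).toMonoidHom = B) := by
  obtain ⟨s, e, hs, hes, hec, rfl⟩ := hA
  obtain ⟨-, -, -, -, hcard, hkb⟩ := h.sub_elem hu huc hqu hq hH hs (isS_coe.2 hes) hec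
  have h1 : ∀ x : ℕ, ex x (C e) + b.factorization x = (Nat.card G).factorization x := fun x => by
    show (Nat.card (C e)).factorization x + _ = _
    rw [hcard, ← hkb]
    exact ex_C_add _ x
  have h2 : ∀ x : ℕ, (Nat.card H).factorization x + a.factorization x = (Nat.card G).factorization x :=
    fun x => by
      rw [← hH, ← hu]
      exact ex_C_add _ x
  have hex : ∀ t, away G q t → ex t (center H) < ex t (C e) := fun t ht => by
    haveI := Fact.mk ht.1
    obtain ⟨w, hwA, hws, hwc⟩ := h.sub_rich hu huc hqu hq hH hs (isS_coe.2 hes) hec ht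
    exact ex_center_lt (center_le_C e) hwA hws hwc
  refine ⟨h1, h2, fun t ht => ⟨hex t ht, ?_⟩, ?_⟩
  · have := h.lt t ht.1 ht.2.2
    have := h1 t
    have := h2 t
    omega
  · rintro _ ⟨t, e', ht, hts', hec', rfl⟩
    obtain ⟨-, -, -, -, hcard', hkb'⟩ := h.sub_elem hu huc hqu hq hH ht (isS_coe.2 hts') hec'
    obtain ⟨t', ht', htd', hts'', htq⟩ := h.red.three s q
    exact exists_conj (h.sub_abCent hu huc hqu hq hH) (isComp_C hs hes hec) (isComp_C ht hts' hec')
      (by rw [hcard, hcard', card_C_eq (hkb.trans hkb'.symm)]) hs (⟨ht', htq, htd'⟩ : away G q t')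
      hts''.symm (hex s hs) (hex t' ⟨ht', htq, htd'⟩)

/-- The index of the normaliser of a component is a power of `q`. -/
theorem sub_index (hu : k u = a) (huc : u ∉ center G) (hqu : IsS q u) (hq : q.Prime) (hH : C u = H)
    {A : Subgroup H} (hA : IsComp (away G q) A) {x : ℕ} (hx : x.Prime) (hxq : x ≠ q) :
    ¬ x ∣ (normalizer (A : Set H)).index := by
  intro hd
  haveI := Fact.mk hx
  obtain ⟨-, -, hex, hone⟩ := h.sub_comp hu huc hqu hq hH hA
  have hxG : x ∣ Nat.card G := hd.trans ((Subgroup.index_dvd_card _).trans H.card_subgroup_dvd_card)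
  obtain ⟨h1, h2⟩ := hex x ⟨hx, hxq, hxG⟩
  exact hA.not_dvd_index (h.sub_abCent hu huc hqu hq hH) hone (⟨hx, hxq, hxG⟩ : away G q x) (h1.trans h2) hd

/-- The quotient of the class sizes is squarefree away from `q`. -/
theorem sub_bound (hu : k u = a) (huc : u ∉ center G) (hqu : IsS q u) (hq : q.Prime) (hH : C u = H)
    {A : Subgroup H} (hA : IsComp (away G q) A) (hs : away G q s) :
    b.factorization s ≤ a.factorization s + 1 := by
  haveI := Fact.mk hs.1
  obtain ⟨h1, h2, hex, hone⟩ := h.sub_comp hu huc hqu hq hH hA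
  obtain ⟨R⟩ : Nonempty (Sylow s H) := inferInstance
  obtain ⟨hz, hf⟩ := hex s hs
  have hR : ¬ (R : Subgroup H) ≤ center H := fun hle => absurd
    ((hs.1.pow_dvd_iff_le_factorization Nat.card_pos.ne').1
      (R.card_eq_multiplicity ▸ Subgroup.card_dvd_of_le hle)) (not_le.2 (hz.trans hf))
  obtain ⟨B, hB, -, -, -, hcard⟩ := exists_layer (h.sub_abCent hu huc hqu hq hH) hs R hR
  obtain ⟨g, hg⟩ := hone B hB
  rw [R.card_eq_multiplicity, (part_spec (hB.comm (h.sub_abCent hu huc hqu hq hH))).2, ← pow_succ',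
    Nat.pow_le_pow_iff_right hs.1.one_lt, ← hg, ex_conj] at hcard
  have := h1 s
  have := h2 s
  omega

/-- Two commuting small elements of coprime orders have the same centraliser. -/
theorem pair {u w : G} (hu : k u = a) (huc : u ∉ center G) (hqu : IsS q u) (hq : q.Prime)
    (hw : k w = a) (hwc : w ∉ center G) (hrw : IsS r w) (hr : r.Prime) (hqr : q ≠ r)
    (hcm : Commute u w) : C u = C w := by
  by_contra hne
  have main : ∀ {u w : G} {q r : ℕ}, k u = a → u ∉ center G → IsS q u → q.Prime → k w = a →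
      w ∉ center G → IsS r w → r.Prime → q ≠ r → Commute u w → C u ≠ C w → r < q := by
    intro u w q r hu huc hqu hq hw hwc hrw hr hqr hcm hne
    have hnle : ¬ C u ≤ C w := fun hle => hne (h.k_small hu hwc hle).2.symm
    have hrq : away G q r := away_of_isS hr hqr.symm hrw hwc
    have hwu : w ∈ C u := mem_C.2 hcm
    have hA := isComp_C (π := away G q) hrq (isS_coe.1 (show IsS r (((⟨w, hwu⟩ : C u)) : G) from hrw))
      (fun hc => hnle (center_sub.1 hc))
    obtain ⟨h1, h2, hex, hone⟩ := h.sub_comp hu huc hqu hq rfl hA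
    -- the bound on `q`
    have hnle' : ¬ C w ≤ C u := fun hle => hne (h.k_small hw huc hle).2
    have hqr' : away G r q := away_of_isS hq hqr hqu huc
    have huw : u ∈ C w := mem_C.2 hcm.symm
    have hA' := isComp_C (π := away G r) hqr' (isS_coe.1 (show IsS q (((⟨u, huw⟩ : C w)) : G) from hqu))
      (fun hc => hnle' (center_sub.1 hc))
    have hbq := h.sub_bound hw hwc hrw hr rfl hA' hqr'
    -- the orbit
    obtain ⟨s, hs, hsd, hsq, hsr⟩ := h.red.three q r
    have hsπ : away G q s := ⟨hs, hsq, hsd⟩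
    have horb := orbit_bound (h.sub_abCent hu huc hqu hq rfl) hA hone hsπ hrq hsr (hex s hsπ).2
      (hex s hsπ).1 (hex r hrq).1
    obtain ⟨A, hAdef⟩ : ∃ A, A = C (⟨w, hwu⟩ : C u) := ⟨_, rfl⟩
    rw [← hAdef] at hA horb h1
    have hidx0 : (normalizer (A : Set (C u))).index ≠ 0 := Subgroup.index_ne_zero_of_finite
    have hle : (normalizer (A : Set (C u))).index ≤ q := by
      refine Nat.le_of_dvd hq.pos ?_
      rw [← Nat.factorization_le_iff_dvd hidx0 hq.ne_zero, hq.factorization]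
      intro x
      by_cases hx : x.Prime
      swap
      · simp [Nat.factorization_eq_zero_of_not_prime _ hx]
      rcases eq_or_ne x q with rfl | hxq
      · rw [Finsupp.single_eq_same]
        have hd := Subgroup.index_dvd_of_le (le_normalizer : A ≤ normalizer (A : Set (C u)))
        have h3 := (Nat.factorization_le_iff_dvd hidx0 Subgroup.index_ne_zero_of_finite).2 hd x
        have h4 : ex x A + A.index.factorization x = (Nat.card (C u)).factorization x := by
          rw [← A.card_mul_index, Nat.factorization_mul Nat.card_pos.ne' Subgroup.index_ne_zero_of_finite,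
            Finsupp.add_apply]
        have := h1 x
        have := h2 x
        omega
      · rw [Nat.factorization_eq_zero_of_not_dvd (h.sub_index hu huc hqu hq rfl hA hx hxq)]
        exact Nat.zero_le _
    omega
  have h1 := main hu huc hqu hq hw hwc hrw hr hqr hcm hne
  have h2 := main hw hwc hrw hr hu huc hqu hq hqr.symm hcm.symm (Ne.symm hne)
  omega

/-- A small element with a nonabelian centraliser centralises no small element of another prime. -/
theorem small_central {v x w : G} (hv : k v = a) (hvc : v ∉ center G) (hvs : IsS r v) (hr : r.Prime)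
    (hx : x ∈ C v) (hxs : IsS q x) (hq : q.Prime) (hqr : q ≠ r) (hne : ¬ C v ≤ C x)
    (hs : s.Prime) (hsr : s ≠ r) (hws : IsS s w) (hle : C v ≤ C w) : w ∈ center G := by
  by_contra hwc
  obtain ⟨hwa, hCw⟩ := h.k_small hv hwc hle
  obtain ⟨t, ht, htd, htr, hts⟩ := h.red.three r s
  obtain ⟨e, heD, hes, hene⟩ := h.rich hv hvc hvs hr hx (coprime_isS hr hq hqr.symm hvs hxs) hne ht htr htd
  have heH : e ∈ C v := ((C_mul (mem_C.1 hx) (coprime_isS hr hq hqr.symm hvs hxs)).le heD).1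
  obtain ⟨e', he'⟩ : ∃ e' : C v, e' = ⟨e, heH⟩ := ⟨_, rfl⟩
  have hec : e' ∉ center (C v) := fun hc => hene (by rw [he'] at hc; exact center_sub.1 hc)
  have hes' : IsS t e' := he' ▸ isS_coe.1 (show IsS t (((⟨e, heH⟩ : C v)) : G) from hes)
  have hA1 := isComp_C (π := away G r) ⟨ht, htr, htd⟩ hes' hec
  have hA2 := isComp_C (π := away G s) ⟨ht, hts, htd⟩ hes' hec
  obtain ⟨-, -, hex, hone⟩ := h.sub_comp hv hvc hvs hr rfl hA1
  obtain ⟨t', ht', htd', htr', htt⟩ := h.red.three r t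
  have horb := orbit_bound (h.sub_abCent hv hvc hvs hr rfl) hA1 hone
    (⟨ht', htr', htd'⟩ : away G r t') (⟨ht, htr, htd⟩ : away G r t) htt
    (hex t' ⟨ht', htr', htd'⟩).2 (hex t' ⟨ht', htr', htd'⟩).1 (hex t ⟨ht, htr, htd⟩).1
  have hone1 : (normalizer ((C e' : Subgroup (C v)) : Set (C v))).index = 1 := by
    by_contra hne1
    obtain ⟨p, hp, hpd⟩ := Nat.exists_prime_and_dvd hne1
    rcases eq_or_ne p r with rfl | hpr
    · exact h.sub_index hwa hwc hws hs hCw hA2 hp hsr.symm hpd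
    · exact h.sub_index hv hvc hvs hr rfl hA1 hp hpr hpd
  have := ht.two_le
  omega

/-- No small element centralises a large one of another prime. -/
theorem no_mixed {v x : G} (hv : k v = a) (hvc : v ∉ center G) (hvs : IsS r v) (hr : r.Prime)
    (hx : x ∈ C v) (hxs : IsS q x) (hq : q.Prime) (hqr : q ≠ r) (hne : ¬ C v ≤ C x) : False := by
  classical
  haveI := Fact.mk hr
  have hxc : x ∉ center G := fun hm => hne fun g _ => mem_C.2 (Subgroup.mem_center_iff.1 hm g).symm
  -- elements of other primes commuting with a small `r`-element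
  have hlarge : ∀ (y : G), k y = a → y ∉ center G → IsS r y →
      ∀ (q' : ℕ) (x' : G), q'.Prime → q' ≠ r → IsS q' x' → x' ∈ C y → ¬ C y ≤ C x' →
      ∀ (s : ℕ) (e : G), s.Prime → s ≠ r → IsS s e → e ∈ C y → e ∉ center G →
        ¬ C y ≤ C e ∧ k e = b ∧ C e = C (y * e) ∧ IsMulCommutative (C e) := by
    intro y hy hyc hys q' x' hq' hqr' hxs' hx' hne' s e hs hsr hes he hec
    have hnle : ¬ C y ≤ C e := fun hle =>
      hec (h.small_central hy hyc hys hr hx' hxs' hq' hqr' hne' hs hsr hes hle)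
    have hkb : k e = b := (h.red.sizes e hec).resolve_left fun e' => hnle
      (h.pair hy hyc hys hr e' hec hes hs hsr.symm (mem_C.1 he)).le
    obtain ⟨hkye, hC, -⟩ := h.prod hy hyc he (coprime_isS hr hs hsr.symm hys hes) hnle
    have heq : C e = C (y * e) := (C_eq_of_le (hC ▸ inf_le_right) (by rw [hkye, hkb])).symm
    exact ⟨hnle, hkb, heq, heq ▸ h.abelian hy hyc hys hr he hs hes hsr hnle⟩
  obtain ⟨-, hxb, -, hDab⟩ := hlarge v hv hvc hvs q x hq hqr hxs hx hne q x hq hqr hxs hx hxc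
  obtain ⟨D, hD⟩ : ∃ D, D = C x := ⟨_, rfl⟩
  rw [← hD] at hDab
  have hvD : v ∈ D := hD ▸ mem_C_comm.1 hx
  have hxD : x ∈ D := hD ▸ self_mem_C x
  have hDv : D ≤ C v := le_C_of_isComm hDab hvD
  -- the other elements of `D`
  have hDC : ∀ (s : ℕ) (e : G), s.Prime → s ≠ r → IsS s e → e ∈ D → e ∉ center G → C e = D ∧ k e = b := by
    intro s e hs hsr hes he hec
    obtain ⟨-, hkb, -, -⟩ := hlarge v hv hvc hvs q x hq hqr hxs hx hne s e hs hsr hes (hDv he) hec
    refine ⟨(C_eq_of_le ?_ ?_).symm.trans hD.symm, hkb⟩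
    · rw [← hD]; exact le_C_of_isComm hDab he
    · rw [hxb, hkb]
  have hrichD : ∀ s, away G r s → ∃ e ∈ D, IsS s e ∧ e ∉ center G ∧ ¬ C v ≤ C e := by
    intro s hs
    obtain ⟨e, he, hes, hene⟩ := h.rich hv hvc hvs hr hx (coprime_isS hr hq hqr.symm hvs hxs) hne hs.1 hs.2.1 hs.2.2
    refine ⟨e, ?_, hes, fun hm => hene fun g _ => mem_C.2 (Subgroup.mem_center_iff.1 hm g).symm, hene⟩
    rw [hD]
    exact ((C_mul (mem_C.1 hx) (coprime_isS hr hq hqr.symm hvs hxs)).le he).2
  have hpart : ∀ s, away G r s → ex s (center G) < ex s D ∧ ¬ part s D ≤ center G := by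
    intro s hs
    haveI := Fact.mk hs.1
    obtain ⟨e, he, hes, hec, -⟩ := hrichD s hs
    exact ⟨ex_center_lt (hD ▸ center_le_C x) he hes hec, fun hle => hec (hle (mem_part he hes))⟩
  have hgood : Good (away G r) D := by
    refine ⟨fun s hs => hs.1, hDab, hD ▸ center_le_C x, fun he hs hes hec => (hDC _ _ hs.1 hs.2.1 hes he hec).1,
      fun s => ?_⟩
    obtain ⟨t, ht, htd, htr, hts⟩ := h.red.three r s
    obtain ⟨e, he, hes, hec, -⟩ := hrichD t ⟨ht, htr, htd⟩
    exact ⟨t, e, ⟨ht, htr, htd⟩, hts, hes, he, hec⟩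
  -- normalising elements centralising a small element of `D`
  obtain ⟨Y, hY⟩ : ∃ Y : Set G, Y = {y | y ∈ D ∧ IsS r y ∧ k y = a} := ⟨_, rfl⟩
  have hYc : ∀ y ∈ Y, y ∉ center G := fun y hy hm => by
    rw [hY] at hy
    have h1 := k_of_center hm
    rw [hy.2.2] at h1
    obtain ⟨t, ht, htd, -, -⟩ := h.red.three 0 0
    have := h.lt t ht htd
    have h2 := h.red.sizes v hvc
    exact hvc (mem_center_of_k (hv.trans h1))
  have hYout : ∀ y ∈ Y, ∀ s, away G r s → ∃ g ∈ normalizer (D : Set G), IsS s g ∧ g ∈ C y ∧ g ∉ D := by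
    intro y hy s hs
    haveI := Fact.mk hs.1
    have hyc := hYc y hy
    rw [hY] at hy
    obtain ⟨hyD, hys, hya⟩ := hy
    have hxy : x ∈ C y := mem_C.2 (commute_of_isComm hDab hyD hxD)
    have hnle : ¬ C y ≤ C x := fun hle => h.ne ((h.k_small hya hxc hle).1.symm.trans hxb)
    have hec : (⟨x, hxy⟩ : C y) ∉ center (C y) := fun hc => hnle (center_sub.1 hc)
    have hqπ : away G r q := away_of_isS hq hqr hxs hxc
    have hes : IsS q (⟨x, hxy⟩ : C y) := isS_coe.1 hxs
    have hA := isComp_C (π := away G r) hqπ hes hec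
    obtain ⟨-, -, hex, -⟩ := h.sub_comp hya hyc hys hr rfl hA
    obtain ⟨g, hg, hgs, hgA⟩ := (hA.good (h.sub_abCent hya hyc hys hr rfl)).exists_normalizing hs
      (hex s hs).2 (hex s hs).1
    have e1 : C (⟨x, hxy⟩ : C y) = D.subgroupOf (C y) := by rw [hD]; exact C_sub _ _
    have hDy : D ≤ C y := le_C_of_isComm hDab hyD
    refine ⟨g, mem_normalizer_iff.2 fun z => ?_, isS_coe.2 hgs, g.2, fun hgD => hgA (e1 ▸ hgD)⟩
    rw [e1] at hg
    constructor
    · intro hz
      exact (mem_normalizer_iff.1 hg ⟨z, hDy hz⟩).1 hz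
    · intro hz
      have hz' : z ∈ C y := by
        have := mul_mem (mul_mem (inv_mem g.2) (hDy hz)) g.2
        simpa [mul_assoc] using this
      exact (mem_normalizer_iff.1 hg ⟨z, hz'⟩).2 hz
  have hvY : v ∈ Y := hY ▸ ⟨hvD, hvs, hv⟩
  -- the induced group has a normal Sylow subgroup
  obtain ⟨t, htπ, hnormal⟩ : ∃ t, away G r t ∧ ∀ S : Sylow t (Ind D), (S : Subgroup (Ind D)).Normal := by
    obtain ⟨s₀, hs₀, hs₀d, hs₀r, -⟩ := h.red.three r r
    obtain ⟨t, htmem, htmax⟩ := (Finset.filter (fun p => p ≠ r) (Nat.card G).primeFactors).exists_max_image id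
      ⟨s₀, by simp [hs₀, hs₀d, hs₀r, Nat.card_pos.ne']⟩
    rw [Finset.mem_filter, Nat.mem_primeFactors] at htmem
    have htπ : away G r t := ⟨htmem.1.1, htmem.2, htmem.1.2.1⟩
    refine ⟨t, htπ, fun S => ?_⟩
    haveI := Fact.mk htπ.1
    -- pairs
    have hbad : ∀ {p p' : ℕ} {α β : Ind D}, away G r p → p'.Prime → p ≠ p' → orderOf α = p →
        orderOf β = p' → β * α * β⁻¹ ∈ zpowers α → ((p' = r) ∨ p < p') → False := by
      intro p p' α β hp hp' hne' hα hβ hn hcase
      haveI := Fact.mk hp.1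
      haveI := Fact.mk hp'
      have hα1 : α ≠ 1 := fun e => hp.1.ne_one (by rw [← hα, e, orderOf_one])
      have hβ1 : β ≠ 1 := fun e => hp'.ne_one (by rw [← hβ, e, orderOf_one])
      have hc : Commute α β := by
        rcases hcase with rfl | hlt
        · obtain ⟨u', hu', hu'd, hu'r, hu'p⟩ := h.red.three p' p
          exact hgood.ind_commute hp.1 hp' ⟨hu', hu'r, hu'd⟩ hu'p.symm hu'r.symm
            (hpart u' ⟨hu', hu'r, hu'd⟩).2 (hα ▸ pow_orderOf_eq_one α) (hβ ▸ pow_orderOf_eq_one β) hn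
        · refine (FGSBSmall.commute_of_totient hn ?_).symm
          rw [hα, hβ, Nat.totient_prime hp.1]
          refine hp'.coprime_iff_not_dvd.2 fun hd => ?_
          have := Nat.le_of_dvd (by have := hp.1.two_le; omega) hd
          omega
      exact hgood.ind_absurd hp (hpart p hp).2 hne' ⟨1, by rw [pow_one, hα]⟩ ⟨1, by rw [pow_one, hβ]⟩ hα1 hβ1 hc
    have hprimes : ∀ {p : ℕ}, p.Prime → p ∣ Nat.card (Ind D) → p ≠ r → away G r p := fun hp hpd hpr =>
      ⟨hp, hpr, hpd.trans ((Subgroup.index_dvd_card _).trans (normalizer (D : Set G)).card_subgroup_dvd_card)⟩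
    -- the star condition
    have hstar : ∀ (p' : ℕ), p'.Prime → (p' = r ∨ p' = t) → ∀ y z : Ind D, IsS p' y →
        (orderOf z).Coprime p' → (∀ p, p ∣ orderOf z → p ≠ r) → z ≠ 1 → y * z * y⁻¹ ∈ zpowers z → y = 1 := by
      intro p' hp' hcase y z hy hz hzr hz1 hn
      by_contra hy1
      obtain ⟨p, hp, hpd⟩ := Nat.exists_prime_and_dvd (fun e => hz1 (orderOf_eq_one_iff.1 e))
      have hpp : p ≠ p' := fun e => hp.ne_one (Nat.eq_one_of_dvd_coprimes hz hpd (e ▸ dvd_rfl))
      have hπp := hprimes hp (hpd.trans (_root_.orderOf_dvd_natCard z)) (hzr p hpd)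
      obtain ⟨α, hα⟩ : ∃ α, α = z ^ (orderOf z / p) := ⟨_, rfl⟩
      have hαo : orderOf α = p := hα ▸ orderOf_pow_orderOf_div (orderOf_pos z).ne' hpd
      obtain ⟨e, he⟩ := hy
      rcases e with _ | e
      · exact hy1 (orderOf_eq_one_iff.1 (by simpa using he))
      obtain ⟨β, hβ⟩ : ∃ β, β = y ^ p' ^ e := ⟨_, rfl⟩
      have hβo : orderOf β = p' := by
        rw [hβ, orderOf_pow_of_dvd (pow_ne_zero _ hp'.ne_zero) (he ▸ pow_dvd_pow p' e.le_succ), he, pow_succ,
          Nat.mul_div_cancel_left _ (pow_pos hp'.pos e)]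
      have hyn : y ∈ normalizer (zpowers z : Set (Ind D)) := FGSBSmall.inv_mem_normalizer_of_conj_mem hn
      have hn' : β * α * β⁻¹ ∈ zpowers α := by
        obtain ⟨i, hi⟩ := (mem_normalizer_iff.1 (hβ ▸ pow_mem hyn _ : β ∈ normalizer (zpowers z : Set (Ind D))) z).1
          (mem_zpowers z)
        refine ⟨i, ?_⟩
        show α ^ i = β * α * β⁻¹
        rw [hα, ← conj_pow, ← hi, ← zpow_natCast, ← zpow_natCast, ← zpow_mul, ← zpow_mul, mul_comm]
      refine hbad hπp hp' hpp hαo hβo hn' ?_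
      rcases hcase with e' | e'
      · exact Or.inl e'
      · refine Or.inr (lt_of_le_of_ne (e' ▸ htmax p ?_) hpp)
        rw [Finset.mem_filter, Nat.mem_primeFactors]
        exact ⟨⟨hp, hπp.2.2, Nat.card_pos.ne'⟩, hπp.2.1⟩
    have hcyc : ∀ p : ℕ, p.Prime → p ≠ r → ∀ T : Sylow p (Ind D), IsCyclic T := by
      intro p hp hpr T
      haveI := Fact.mk hp
      by_cases hpd : p ∣ Nat.card (Ind D)
      · have hπp := hprimes hp hpd hpr
        have := hgood.card_sylow_ind hπp (hpart p hπp).2 T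
        exact isCyclic_of_prime_card (p := p)
          (le_antisymm this (Nat.le_of_dvd Nat.card_pos (T.dvd_card_of_dvd_card hpd)))
      · haveI : Subsingleton (T : Subgroup (Ind D)) := by
          refine (Nat.card_eq_one_iff_unique.1 ?_).1
          rw [T.card_eq_multiplicity, Nat.factorization_eq_zero_of_not_dvd hpd, pow_zero]
        exact isCyclic_of_subsingleton
    have hnoR : ¬ r ∣ Nat.card (Ind D) := by
      intro hrd
      obtain ⟨R⟩ : Nonempty (Sylow r (Ind D)) := inferInstance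
      have hRn : (R : Subgroup (Ind D)).Normal := sylow_normal_of_cyclic _ (Ind D) rfl
        (fun y z hy hz hz1 hn => hstar r hr (Or.inl rfl) y z hy hz
          (fun p hpd e => hr.ne_one (Nat.eq_one_of_dvd_coprimes hz (e ▸ hpd) dvd_rfl)) hz1 hn) hcyc R
      obtain ⟨s, hs, hsd, hsr, hst⟩ := h.red.three r t
      have hsπ : away G r s := ⟨hs, hsr, hsd⟩
      have hR1 : (R : Subgroup (Ind D)) ≠ ⊥ := fun e => by
        have := R.dvd_card_of_dvd_card hrd
        rw [e, Subgroup.card_bot] at this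
        exact hr.ne_one (Nat.dvd_one.1 this)
      obtain ⟨β, hβ, hinv⟩ := hgood.exists_invariant hr hsπ hsr.symm (hpart s hsπ).2 R.2 hR1
      obtain ⟨g, hgn, hgs, -, hgD⟩ := hYout v hvY t htπ
      obtain ⟨e, he⟩ := isS_map (ind D) (isS_coe.1 (show IsS t (((⟨g, hgn⟩ : normalizer (D : Set G))) : G) from hgs))
      rcases e with _ | e
      · exact hgD ((ind_eq_one (x := ⟨g, hgn⟩)).1 (orderOf_eq_one_iff.1 (by simpa using he)))
      obtain ⟨α, hα⟩ : ∃ α, α = (ind D ⟨g, hgn⟩) ^ t ^ e := ⟨_, rfl⟩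
      have hαo : orderOf α = t := by
        rw [hα, orderOf_pow_of_dvd (pow_ne_zero _ htπ.1.ne_zero) (he ▸ pow_dvd_pow t e.le_succ), he, pow_succ,
          Nat.mul_div_cancel_left _ (pow_pos htπ.1.pos e)]
      haveI := Fact.mk hs
      have hc := hgood.ind_commute hr htπ.1 hsπ hsr.symm hst.symm (hpart s hsπ).2
        (hβ ▸ pow_orderOf_eq_one β) (hαo ▸ pow_orderOf_eq_one α)
        (hinv α ((Subgroup.normalizer_eq_top_iff.2 hRn).ge (mem_top α)))
      exact hgood.ind_absurd htπ (hpart t htπ).2 htπ.2.1 ⟨1, by rw [pow_one, hαo]⟩ ⟨1, by rw [pow_one, hβ]⟩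
        (fun e' => htπ.1.ne_one (by rw [← hαo, e', orderOf_one]))
        (fun e' => hr.ne_one (by rw [← hβ, e', orderOf_one])) hc.symm
    refine sylow_normal_of_cyclic _ (Ind D) rfl
      (fun y z hy hz hz1 hn => hstar t htπ.1 (Or.inr rfl) y z hy hz
        (fun p hpd e => hnoR (e ▸ hpd.trans (_root_.orderOf_dvd_natCard z))) hz1 hn)
      (fun p hp _ T => ?_) S
    rcases eq_or_ne p r with rfl | hpr
    · haveI := Fact.mk hp
      haveI : Subsingleton (T : Subgroup (Ind D)) := by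
        refine (Nat.card_eq_one_iff_unique.1 ?_).1
        rw [T.card_eq_multiplicity, Nat.factorization_eq_zero_of_not_dvd hnoR, pow_zero]
      exact isCyclic_of_subsingleton
    · exact hcyc p hp hpr T
  haveI := Fact.mk htπ.1
  obtain ⟨g₀, hg₀n, hg₀s, -, hg₀D⟩ := hYout v hvY t htπ
  obtain ⟨S⟩ : Nonempty (Sylow t (Ind D)) := inferInstance
  have hScard := hgood.card_sylow_ind htπ (hpart t htπ).2 S
  have hmemS : ∀ {g : G} (hg : g ∈ normalizer (D : Set G)), IsS t g →
      ind D ⟨g, hg⟩ ∈ (S : Subgroup (Ind D)) := by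
    intro g hg hgs
    obtain ⟨e, he⟩ := isS_map (ind D) (isS_coe.1 (show IsS t (((⟨g, hg⟩ : normalizer (D : Set G))) : G) from hgs))
    obtain ⟨R, hR⟩ := (IsPGroup.of_card (p := t) (G := zpowers (ind D ⟨g, hg⟩)) (n := e)
      (by rw [Nat.card_zpowers, he])).exists_le_sylow
    haveI := Sylow.unique_of_normal S (hnormal S)
    rw [Subsingleton.elim S R]
    exact hR (mem_zpowers _)
  have hg₀Y : ∀ y ∈ Y, Commute y g₀ := by
    intro y hy
    obtain ⟨g, hgn, hgs, hgy, hgD⟩ := hYout y hy t htπ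
    have hgen : zpowers (ind D ⟨g, hgn⟩) = (S : Subgroup (Ind D)) := by
      refine Subgroup.eq_of_le_of_card_ge (zpowers_le.2 (hmemS hgn hgs)) (hScard.trans ?_)
      rw [Nat.card_zpowers]
      obtain ⟨e, he⟩ := isS_map (ind D) (isS_coe.1 (show IsS t (((⟨g, hgn⟩ : normalizer (D : Set G))) : G) from hgs))
      rw [he]
      refine Nat.le_of_dvd (pow_pos htπ.1.pos e) (dvd_pow_self t fun e0 => hgD ?_)
      exact (ind_eq_one (x := ⟨g, hgn⟩)).1 (orderOf_eq_one_iff.1
        (show orderOf (ind D ⟨g, hgn⟩) = 1 by rw [he, e0, pow_zero]))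
    obtain ⟨i, hi⟩ := hgen.ge (hmemS hg₀n hg₀s)
    change (ind D ⟨g, hgn⟩) ^ i = ind D ⟨g₀, hg₀n⟩ at hi
    have h1 : ind D ((⟨g, hgn⟩ ^ i)⁻¹ * ⟨g₀, hg₀n⟩) = 1 := by
      rw [map_mul, map_inv, map_zpow, hi, inv_mul_cancel]
    have h2 : (g ^ i)⁻¹ * g₀ ∈ C y := by
      have h3 := ind_eq_one.1 h1
      simp only [Subgroup.coe_mul, Subgroup.coe_inv, SubgroupClass.coe_zpow] at h3
      rw [hY] at hy
      exact le_C_of_isComm hDab hy.1 h3
    have h4 := mul_mem (zpow_mem hgy i) h2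
    rw [mul_inv_cancel_left] at h4
    exact mem_C.1 h4
  -- the centraliser of the small elements of `D`
  obtain ⟨K, hK⟩ : ∃ K, K = centralizer Y := ⟨_, rfl⟩
  have hg₀K : g₀ ∈ K := hK ▸ mem_centralizer_iff.2 fun y hy => (hg₀Y y hy).eq
  have hDK : D ≤ K := fun g hg => hK ▸ mem_centralizer_iff.2 fun y hy => by
    rw [hY] at hy
    exact (commute_of_isComm hDab hy.1 hg).eq
  have hKy : ∀ y ∈ Y, K ≤ C y := fun y hy g hg => mem_C.2 (mem_centralizer_iff.1 (hK.le hg) y hy)
  have hYK : ∀ y, (hy : y ∈ Y) → (⟨y, hDK (show y ∈ D by rw [hY] at hy; exact hy.1)⟩ : K) ∈ center K :=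
    fun y hy => center_sub.2 (hKy y hy)
  -- elements of other primes in `K`
  have hKelem : ∀ (s : ℕ) (e : K), s.Prime → s ≠ r → IsS s e → e ∉ center K →
      C (e : G) ≤ K ∧ IsMulCommutative (C (e : G)) ∧ k (e : G) = b := by
    intro s e hs hsr hes hec
    have hecG : (e : G) ∉ center G := fun hm => hec (center_sub.2 fun g _ => mem_C.2 (Subgroup.mem_center_iff.1 hm g).symm)
    obtain ⟨-, hkb, -, hab⟩ := hlarge v hv hvc hvs q x hq hqr hxs hx hne s e hs hsr (isS_coe.2 hes)
      (hKy v hvY e.2) hecG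
    refine ⟨fun g hg => hK ▸ mem_centralizer_iff.2 fun y hy => ?_, hab, hkb⟩
    exact (commute_of_isComm hab (mem_C_comm.1 (hKy y hy e.2)) hg).eq
  have hKrich : ∀ (s' : ℕ) (e : K), s'.Prime → s' ≠ r → IsS s' e → e ∉ center K →
      ∀ s, away G r s → ∃ w : K, w ∈ C e ∧ IsS s w ∧ w ∉ center K := by
    intro s' e hs' hsr' hes hec s hs
    obtain ⟨hle, hab, hkb⟩ := hKelem s' e hs' hsr' hes hec
    have hecG : (e : G) ∉ center G := fun hm => hec (center_sub.2 fun g _ => mem_C.2 (Subgroup.mem_center_iff.1 hm g).symm)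
    obtain ⟨hnle, -, heq, -⟩ := hlarge v hv hvc hvs q x hq hqr hxs hx hne s' e hs' hsr' (isS_coe.2 hes)
      (hKy v hvY e.2) hecG
    obtain ⟨w, hw, hws, hwne⟩ := h.rich hv hvc hvs hr (hKy v hvY e.2)
      (coprime_isS hr hs' hsr'.symm hvs (isS_coe.2 hes)) hnle hs.1 hs.2.1 hs.2.2
    rw [← heq] at hw
    refine ⟨⟨w, hle hw⟩, by rw [C_sub]; exact hw, isS_coe.1 hws, fun hc => hg₀D ?_⟩
    -- otherwise `K` is abelian
    have hwc : w ∉ center G := fun hm => hwne fun g _ => mem_C.2 (Subgroup.mem_center_iff.1 hm g).symm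
    have hwD : w ∈ D := hD ▸ mem_C_comm.1 ((center_sub.1 hc) (hDK hxD))
    rw [← (hDC s w hs.1 hs.2.1 hws hwD hwc).1]
    exact (center_sub.1 hc) hg₀K
  -- the subgroup `D` inside `K`
  obtain ⟨e₀, he₀⟩ : ∃ e₀ : K, e₀ = ⟨x, hDK hxD⟩ := ⟨_, rfl⟩
  have he₀c : e₀ ∉ center K := fun hc => hg₀D (by
    rw [hD]; have := (center_sub.1 hc) hg₀K; rw [he₀] at this; exact this)
  have he₀s : IsS q e₀ := he₀ ▸ isS_coe.1 (show IsS q (((⟨x, hDK hxD⟩ : K)) : G) from hxs)
  have hKdvd : ∀ p, p ∣ Nat.card K → p ∣ Nat.card G := fun p hp => hp.trans K.card_subgroup_dvd_card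
  have hKaway : ∀ s, other' K r s → away G r s := fun s hs => ⟨hs.1, hs.2.1, hKdvd s
    (Nat.dvd_of_mem_primeFactors (Nat.support_factorization _ ▸ Finsupp.mem_support_iff.2
      (by have := hs.2.2; omega)))⟩
  have hawayK : ∀ s, away G r s → other' K r s := fun s hs => by
    obtain ⟨w, -, hws, hwc⟩ := hKrich q e₀ hq hqr he₀s he₀c s hs
    exact other'_of_isS hs.1 hs.2.1 hws hwc
  have hab : AbCent K (other' K r) := by
    refine ⟨fun s hs => hs.1, fun s e hs hes hec => ?_, fun s e hs hes hec => ?_⟩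
    · rw [C_sub]
      exact comm_sub (hKelem s e hs.1 hs.2.1 hes hec).2.1 K
    · obtain ⟨t', ht', ht'd, ht'r, ht's⟩ := h.red.three r s
      obtain ⟨w, hw, hws, hwc⟩ := hKrich s e hs.1 hs.2.1 hes hec t' ⟨ht', ht'r, ht'd⟩
      exact ⟨t', w, hawayK t' ⟨ht', ht'r, ht'd⟩, ht's, hws, hw, hwc⟩
  have hcardK : ∀ A : Subgroup K, IsComp (other' K r) A → Nat.card A = Nat.card D := by
    rintro _ ⟨s, e, hs, hes, hec, rfl⟩
    obtain ⟨hle, -, hkb⟩ := hKelem s e hs.1 hs.2.1 hes hec
    rw [card_C_sub hle, hD, card_C_eq (hkb.trans hxb.symm)]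
  have hrichK : ∀ A : Subgroup K, IsComp (other' K r) A → ∀ s, other' K r s → ex s (center K) < ex s A := by
    rintro _ ⟨s', e, hs', hes, hec, rfl⟩ s hs
    haveI := Fact.mk hs.1
    obtain ⟨w, hw, hws, hwc⟩ := hKrich s' e hs'.1 hs'.2.1 hes hec s (hKaway s hs)
    exact ex_center_lt (center_le_C e) hw hws hwc
  have hA0 : IsComp (other' K r) (C e₀) := isComp_C (hawayK q (away_of_isS hq hqr hxs hxc)) he₀s he₀c
  have hA0D : C e₀ = D.subgroupOf K := by rw [C_sub, he₀, hD]
  have hO : OneFam K r := by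
    refine ⟨hab, hr, ?_, fun A B hA hB => (hcardK A hA).trans (hcardK B hB).symm, hrichK, ?_⟩
    · obtain ⟨s₁, hs₁, hs₁d, hs₁r, -⟩ := h.red.three r r
      obtain ⟨t₁, ht₁, ht₁d, ht₁r, ht₁s⟩ := h.red.three r s₁
      exact ⟨s₁, t₁, hawayK s₁ ⟨hs₁, hs₁r, hs₁d⟩, hawayK t₁ ⟨ht₁, ht₁r, ht₁d⟩, ht₁s.symm⟩
    intro s g e hgc hs hes hec heg
    -- conjugate to `D`
    obtain ⟨t₁, ht₁, ht₁d, ht₁r, ht₁q⟩ := h.red.three r q
    have hqK := hawayK q (away_of_isS hq hqr hxs hxc)
    obtain ⟨κ, hκ⟩ := exists_conj hab hA0 (isComp_C hs hes hec)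
      ((hcardK _ hA0).trans (hcardK _ (isComp_C hs hes hec)).symm) hqK (hawayK t₁ ⟨ht₁, ht₁r, ht₁d⟩)
      ht₁q.symm (hrichK _ hA0 q hqK) (hrichK _ hA0 t₁ (hawayK t₁ ⟨ht₁, ht₁r, ht₁d⟩))
    obtain ⟨p, g', hp, hg'g, hg's, hg'c⟩ := exists_part g hgc
    refine (C_le_of_mem_zpowers hg'g).trans ?_
    have hg'e : g' ∈ C e := zpowers_le.2 (mem_C_comm.1 heg) hg'g
    have hge' : C e ≤ C g' := le_C_of_isComm (hab.comm s e hs hes hec) hg'e
    rcases eq_or_ne p r with rfl | hpr
    swap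
    · haveI := Fact.mk hp
      exact ((isComp_C hs hes hec).C_eq hab hg'e (other'_of_isS hp hpr hg's hg'c) hg's hg'c).le
    have hg'G : (g' : G) ∉ center G := fun hm => hg'c (center_sub.2 fun z _ => mem_C.2 (Subgroup.mem_center_iff.1 hm z).symm)
    rcases h.red.sizes (g' : G) hg'G with hka | hkb
    · exfalso
      rw [← hκ] at hg'e
      obtain ⟨d, hd, hde⟩ := hg'e
      have hdD : (d : G) ∈ D := by rw [hA0D] at hd; exact hd
      have he' : (κ : G) * d * (κ : G)⁻¹ = (g' : G) := congrArg Subtype.val hde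
      have hdY : (d : G) ∈ Y := by
        rw [hY]
        refine ⟨hdD, ?_, ?_⟩
        · obtain ⟨i, hi⟩ := isS_coe.2 hg's
          refine ⟨i, ?_⟩
          rw [← hi, ← he']
          exact ((MulAut.conj (κ : G)).orderOf_eq (d : G)).symm
        · rw [← k_conj (d : G) (κ : G), he', hka]
      have hdc : d ∈ center K := center_sub.2 (hKy _ hdY)
      refine hg'c ?_
      rw [← hde]
      show κ * d * κ⁻¹ ∈ center K
      rw [conj_center hdc κ]
      exact hdc
    · obtain ⟨hle, -, hke⟩ := hKelem s e hs.1 hs.2.1 hes hec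
      intro z hz
      rw [C_sub, Subgroup.mem_subgroupOf] at hz ⊢
      have hle' : C (e : G) ≤ C (g' : G) := fun z hz =>
        (by
          have := hge' (show (⟨z, hle hz⟩ : K) ∈ C e by rw [C_sub]; exact hz)
          rw [C_sub] at this
          exact this)
      rw [C_eq_of_le hle' (by rw [hke, hkb])]
      exact hz
  -- the contradiction
  have htK := hawayK t htπ
  have hfull := hO.full hA0 htK
  have hg₀n' : (⟨g₀, hg₀K⟩ : K) ∈ normalizer ((C e₀ : Subgroup K) : Set K) := by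
    rw [hA0D]
    refine mem_normalizer_iff.2 fun z => ?_
    exact mem_normalizer_iff.1 hg₀n (z : G)
  obtain ⟨hp, hpc⟩ := part_spec (s := t) (hA0.comm hab)
  have hJ := (isPGroup_zpowers (isS_coe.1 (show IsS t (((⟨g₀, hg₀K⟩ : K)) : G) from hg₀s))).to_sup_of_normal_right' hp
    (zpowers_le.2 (mem_normalizer_part hg₀n' t))
  have h1 := card_le_of_isPGroup hJ (le_top : _ ≤ (⊤ : Subgroup K))
  have e : ex t (⊤ : Subgroup K) = ex t (C e₀) := by
    rw [hfull]; show (Nat.card (⊤ : Subgroup K)).factorization t = _; rw [Subgroup.card_top]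
  rw [e, ← hpc] at h1
  have := (Subgroup.eq_of_le_of_card_ge le_sup_right h1).ge (mem_sup_left (mem_zpowers (⟨g₀, hg₀K⟩ : K)))
  have := part_le t _ this
  rw [hA0D] at this
  exact hg₀D this

end Div

end CfsgLib.ItoSizes
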