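import Cfsg.Agent.ItoSizes.OneFamily
import Cfsg.Agent.CentMax.Basic

/-!
Three class sizes: the free case.
-/

set_option autoImplicit false
set_option linter.unusedSectionVars false
set_option linter.style.haveILetI false

namespace CfsgLib.ItoSizes

open Subgroup CfsgLib.TwoLargest CfsgLib.CoprimeSizes

universe u

variable {G : Type u} [Group G] [Finite G] {a b q s t : ℕ}

/-- The reduced situation: two class sizes besides `1`, at least three primes, no normal complements. -/
structure Red (G : Type u) [Group G] (a b : ℕ) : Prop where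
  sizes : ∀ x : G, x ∉ center G → k x = a ∨ k x = b
  three : ∀ p q : ℕ, ∃ s : ℕ, s.Prime ∧ s ∣ Nat.card G ∧ s ≠ p ∧ s ≠ q
  nc : ∀ q : ℕ, q.Prime → q ∣ Nat.card G → ¬ Cfsg.HasNormalPComplement q G

/-- Centralisers of noncentral elements are not comparable. -/
def Free (G : Type u) [Group G] : Prop :=
  ∀ x y : G, x ∉ center G → y ∉ center G → C x ≤ C y → C x = C y

theorem ex_C_add (x : G) (s : ℕ) : ex s (C x) + (k x).factorization s = (Nat.card G).factorization s := by
  rw [← (C x).card_mul_index, Nat.factorization_mul Nat.card_pos.ne' (k_pos x).ne', Finsupp.add_apply]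

theorem ex_C_eq {x y : G} (h : k x = k y) (s : ℕ) : ex s (C x) = ex s (C y) := by
  have h1 := ex_C_add x s
  have h2 := ex_C_add y s
  rw [h] at h1
  omega

theorem card_C_eq {x y : G} (h : k x = k y) : Nat.card (C x) = Nat.card (C y) := by
  have h1 := (C x).card_mul_index
  rw [show (C x).index = k y from h, ← (C y).card_mul_index] at h1
  exact Nat.eq_of_mul_eq_mul_right (k_pos y) h1

/-- A Sylow subgroup of a group without normal complement is not central. -/
theorem Red.noncentral (h : Red G a b) (hs : s.Prime) (hd : s ∣ Nat.card G) :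
    ex s (center G) < (Nat.card G).factorization s := by
  haveI := Fact.mk hs
  refine lt_of_le_of_ne (ex_le_top s _) fun e => ?_
  obtain ⟨P⟩ : Nonempty (Sylow s G) := inferInstance
  refine h.nc s hs hd (TransferBasic.hasNormalPComplement_of_le_centralizer P fun m _ => ?_)
  obtain ⟨hp, hpc⟩ := part_spec (s := s) (A := center G) inferInstance
  obtain ⟨R, hR⟩ := hp.exists_le_sylow
  obtain ⟨g, hg⟩ := MulAction.exists_smul_eq G R P
  have hRc : (R : Subgroup G) = part s (center G) := (Subgroup.eq_of_le_of_card_ge hR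
    (by rw [hpc, e, R.card_eq_multiplicity])).symm
  refine mem_centralizer_iff.2 fun u hu => ?_
  rw [← hg, Sylow.coe_subgroup_smul, hRc] at hu
  obtain ⟨w, hw, rfl⟩ := hu
  have hwc := part_le s (center G) hw
  show g * w * g⁻¹ * m = m * (g * w * g⁻¹)
  rw [conj_center hwc g, Subgroup.mem_center_iff.1 hwc m]

theorem Red.exists_noncentral (h : Red G a b) (hs : s.Prime) (hd : s ∣ Nat.card G) :
    ∃ w : G, IsS s w ∧ w ∉ center G := by
  haveI := Fact.mk hs
  have h1 := h.noncentral hs hd
  rw [← Subgroup.card_top (G := G)] at h1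
  obtain ⟨w, -, hw⟩ := exists_isS_notMem (H := (⊤ : Subgroup G)) h1
  exact ⟨w, hw⟩

/-- Only noncentral elements of the prime `q` are in `C x`. -/
def Mono (x : G) (q : ℕ) : Prop := ∀ (s : ℕ) (w : G), s.Prime → s ≠ q → IsS s w → w ∈ C x → w ∈ center G

theorem Free.eq_part (hf : Free G) {g w : G} (hg : g ∉ center G) (hw : w ∈ zpowers g)
    (hwc : w ∉ center G) : C g = C w :=
  hf g w hg hwc (C_le_of_mem_zpowers hw)

theorem Free.eq_coprime (hf : Free G) {u v : G} (hu : u ∉ center G) (hv : v ∉ center G)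
    (hc : Commute u v) (hco : (orderOf u).Coprime (orderOf v)) : C u = C v := by
  have e := C_mul hc hco
  have h1 : u * v ∉ center G := fun hm => hu (mem_center_of_k (Nat.dvd_one.1
    (k_of_center hm ▸ k_dvd_mul_left hc hco)))
  rw [← hf (u * v) u h1 hu (e ▸ inf_le_left), hf (u * v) v h1 hv (e ▸ inf_le_right)]

theorem Free.C_eq_of_mem (hf : Free G) {x g : G} (hx : x ∉ center G)
    (hm : ∀ q : ℕ, q.Prime → ¬ Mono x q) (hg : g ∈ C x) (hgc : g ∉ center G) : C g = C x := by
  obtain ⟨r, g', hr, hg'm, hg's, hg'c⟩ := exists_part g hgc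
  obtain ⟨t, x', ht, hx'm, hx's, hx'c⟩ := exists_part x hx
  rw [hf.eq_part hgc hg'm hg'c, hf.eq_part hx hx'm hx'c]
  have hc : Commute g' x' := by
    obtain ⟨i, rfl⟩ := hg'm
    obtain ⟨j, rfl⟩ := hx'm
    exact (mem_C.1 hg).symm.zpow_zpow i j
  rcases eq_or_ne r t with rfl | hrt
  · have hm' := hm r hr
    simp only [Mono, not_forall] at hm'
    obtain ⟨s, w, hs, hsr, hws, hwx, hwc⟩ := hm'
    have hwx' : Commute w x' := (mem_C.1 (C_le_of_mem_zpowers hx'm hwx)).symm
    have e1 := hf.eq_coprime hwc hx'c hwx' (coprime_isS hs hr hsr hws hx's)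
    have hwg : w ∈ C g' := by
      refine mem_C_comm.1 ?_
      rw [e1]
      exact mem_C.2 hc.symm
    exact (hf.eq_coprime hwc hg'c (mem_C.1 hwg).symm (coprime_isS hs hr hsr hws hg's)).symm.trans e1
  · exact hf.eq_coprime hg'c hx'c hc (coprime_isS hr ht hrt hg's hx's)

theorem Free.comm (hf : Free G) {x : G} (hx : x ∉ center G) (hm : ∀ q : ℕ, q.Prime → ¬ Mono x q) :
    IsMulCommutative (C x) := by
  refine ⟨⟨fun g g' => Subtype.ext ?_⟩⟩
  show (g : G) * g' = g' * g
  by_cases hgc : (g : G) ∈ center G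
  · exact (Subgroup.mem_center_iff.1 hgc g').symm
  exact (mem_C.1 ((hf.C_eq_of_mem hx hm g.2 hgc).symm ▸ g'.2 : (g' : G) ∈ C (g : G))).eq

theorem isSolvable_sup {N M : Subgroup G} [N.Normal] [Group.IsSolvable N] [Group.IsSolvable M] :
    Group.IsSolvable (N ⊔ M : Subgroup G) := by
  haveI : Group.IsSolvable (M.map (QuotientGroup.mk' N)) :=
    Group.isSolvable_of_surjective ((QuotientGroup.mk' N).subgroupMap_surjective M)
  have hmap : (N ⊔ M).map (QuotientGroup.mk' N) = M.map (QuotientGroup.mk' N) := by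
    rw [Subgroup.map_sup, (Subgroup.map_eq_bot_iff N).2 (QuotientGroup.ker_mk' N).ge, bot_sup_eq]
  haveI : Group.IsSolvable ((N ⊔ M).map (QuotientGroup.mk' N)) := hmap ▸ inferInstance
  refine Group.isSolvable_of_ker_le_range (Subgroup.inclusion (le_sup_left : N ≤ N ⊔ M))
    ((QuotientGroup.mk' N).subgroupMap (N ⊔ M)) fun z hz => ?_
  have : (z : G) ∈ N := (QuotientGroup.eq_one_iff _).1 (congrArg Subtype.val (MonoidHom.mem_ker.1 hz))
  exact ⟨⟨(z : G), this⟩, rfl⟩

/-- All elements of prime power order for primes other than `q` having `q`-power class sizes forces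
solvability. -/
theorem solvable_of_prime_power_k [hq : Fact q.Prime]
    (h : ∀ (s : ℕ) (w : G), s.Prime → s ≠ q → IsS s w → ∃ e, k w = q ^ e) : Group.IsSolvable G := by
  classical
  obtain ⟨N, ⟨hNn, hNs⟩, hmax⟩ := (Set.toFinite {N : Subgroup G | N.Normal ∧ Group.IsSolvable N}).exists_maximal
    ⟨⊥, inferInstance, inferInstance⟩
  haveI := hNn
  haveI := hNs
  have hmem : ∀ (s : ℕ) (w : G), s.Prime → s ≠ q → IsS s w → w ∈ N := by
    intro s w hs hsq hws
    obtain ⟨e, he⟩ := h s w hs hsq hws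
    haveI := Kazarin.isSolvable_normalClosure hq.out w he
    have := hmax (y := N ⊔ normalClosure {w}) ⟨inferInstance, isSolvable_sup⟩ le_sup_left
    exact this (mem_sup_right (subset_normalClosure (Set.mem_singleton w)))
  have hQ : IsPGroup q (G ⧸ N) := fun v => by
    obtain ⟨g, rfl⟩ := QuotientGroup.mk'_surjective N v
    obtain ⟨x, y, hxy, -, -, ⟨e, he⟩, hy⟩ := FGSBSmall.exists_prime_split hq.out g
    refine ⟨e, ?_⟩
    have hyN : y ∈ N := mem_of_parts fun s w hs hw hws => by
      rcases eq_or_ne s q with rfl | hsq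
      · rw [eq_one_of_isS hws (hy.coprime_dvd_left (orderOf_dvd_of_mem_zpowers hw))]
        exact one_mem _
      · exact hmem s w hs hsq hws
    have h1 : QuotientGroup.mk' N y = 1 := (QuotientGroup.eq_one_iff y).2 hyN
    rw [← hxy, map_mul, h1, mul_one, ← map_pow, ← he, pow_orderOf_eq_one, map_one]
  haveI := hQ.isNilpotent
  exact CentMax.solvable_ext N

theorem isSolvable_of_free (h : Red G a b) (hf : Free G) : Group.IsSolvable G := by
  classical
  by_cases hmono : ∃ (x : G) (q : ℕ), x ∉ center G ∧ q.Prime ∧ Mono x q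
  · obtain ⟨x, q, hx, hq, hm⟩ := hmono
    haveI := Fact.mk hq
    have hbig : ∀ s w, other' G q s → IsS s w → w ∉ center G → k w ≠ k x ∧
        ex s (center G) < ex s (C w) := by
      intro s w hs hws hwc
      haveI := Fact.mk hs.1
      have h1 := ex_center_lt (center_le_C w) (self_mem_C w) hws hwc
      refine ⟨fun e => ?_, h1⟩
      rw [ex_C_eq e] at h1
      obtain ⟨u, hu, hus, huc⟩ := exists_isS_notMem h1
      exact huc (hm s u hs.1 hs.2.1 hus hu)
    have hk : ∀ s w t v, other' G q s → IsS s w → w ∉ center G → other' G q t → IsS t v →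
        v ∉ center G → k w = k v := by
      intro s w t v hs hws hwc ht hvs hvc
      have h1 := (hbig s w hs hws hwc).1
      have h2 := (hbig t v ht hvs hvc).1
      rcases h.sizes x hx with e | e <;> rcases h.sizes w hwc with e' | e' <;>
        rcases h.sizes v hvc with e'' | e'' <;> omega
    have hex : ∀ (s : ℕ), s.Prime → s ∣ Nat.card G → s ≠ q → other' G q s := fun s hs hd hsq =>
      ⟨hs, hsq, h.noncentral hs hd⟩
    have hrich : ∀ s w t, other' G q s → IsS s w → w ∉ center G → other' G q t →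
        ex t (center G) < ex t (C w) := by
      intro s w t hs hws hwc ht
      haveI := Fact.mk ht.1
      obtain ⟨v, hvs, hvc⟩ := h.exists_noncentral ht.1
        (Nat.dvd_of_mem_primeFactors (Nat.support_factorization _ ▸ Finsupp.mem_support_iff.2
          (by have := ht.2.2; omega)))
      rw [ex_C_eq (hk s w t v hs hws hwc ht hvs hvc)]
      exact (hbig t v ht hvs hvc).2
    have hnm : ∀ s w, other' G q s → IsS s w → w ∉ center G → ∀ p : ℕ, p.Prime → ¬ Mono w p := by
      intro s w hs hws hwc p hp hmp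
      obtain ⟨t, ht, htd, htp, htq⟩ := h.three p q
      haveI := Fact.mk ht
      obtain ⟨v, hv, hvs, hvc⟩ := exists_isS_notMem (hrich s w t hs hws hwc (hex t ht htd htq))
      exact hvc (hmp t v ht htp hvs hv)
    have hO : OneFam G q := by
      refine ⟨⟨fun s hs => hs.1, fun s w hs hws hwc => hf.comm hwc (hnm s w hs hws hwc), ?_⟩, hq, ?_, ?_, ?_, ?_⟩
      · intro s w hs hws hwc
        obtain ⟨t, ht, htd, hts, htq⟩ := h.three s q
        haveI := Fact.mk ht
        obtain ⟨v, hv, hvs, hvc⟩ := exists_isS_notMem (hrich s w t hs hws hwc (hex t ht htd htq))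
        exact ⟨t, v, hex t ht htd htq, hts, hvs, hv, hvc⟩
      · obtain ⟨s, hs, hsd, hsq, -⟩ := h.three q q
        obtain ⟨t, ht, htd, htq, hts⟩ := h.three q s
        exact ⟨s, t, hex s hs hsd hsq, hex t ht htd htq, hts.symm⟩
      · rintro _ _ ⟨s, w, hs, hws, hwc, rfl⟩ ⟨t, v, ht, hvs, hvc, rfl⟩
        exact card_C_eq (hk s w t v hs hws hwc ht hvs hvc)
      · rintro _ ⟨s, w, hs, hws, hwc, rfl⟩ t ht
        exact hrich s w t hs hws hwc ht
      · intro s g w hgc hs hws hwc hwg
        exact (hf.C_eq_of_mem hwc (hnm s w hs hws hwc) (mem_C_comm.1 hwg) hgc).le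
    refine solvable_of_prime_power_k (q := q) fun s w hs hsq hws => ?_
    by_cases hwc : w ∈ center G
    · exact ⟨0, by rw [k_of_center hwc, pow_zero]⟩
    refine ⟨(k w).primeFactorsList.length, Nat.eq_prime_pow_of_unique_prime_dvd (k_pos w).ne' fun {d} hd hdk => ?_⟩
    by_contra hne
    have hdG : d ∣ Nat.card G := hdk.trans ((C w).index_dvd_card)
    have h1 := hO.full (isComp_C (other'_of_isS hs hsq hws hwc) hws hwc) (hex d hd hdG hne)
    have h2 := ex_C_add w d
    have h3 := hd.factorization_pos_of_dvd (k_pos w).ne' hdk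
    omega
  exfalso
  replace hmono : ∀ x : G, x ∉ center G → ∀ q : ℕ, q.Prime → ¬ Mono x q :=
    fun x hx q hq hm => hmono ⟨x, q, hx, hq, hm⟩
  have hcomm : ∀ x : G, x ∉ center G → IsMulCommutative (C x) := fun x hx => hf.comm hx (hmono x hx)
  obtain ⟨s₀, hs₀, hs₀d, -, -⟩ := h.three 0 0
  obtain ⟨x₀, -, hx₀⟩ := h.exists_noncentral hs₀ hs₀d
  have hab : AbCent G Nat.Prime := by
    refine ⟨fun s hs => hs, fun s w _ _ hwc => hcomm w hwc, fun s w hs hws hwc => ?_⟩
    have hm := hmono w hwc s hs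
    simp only [Mono, not_forall] at hm
    obtain ⟨t, v, ht, hts, hvs, hvw, hvc⟩ := hm
    exact ⟨t, v, ht, hts, hvs, hvw, hvc⟩
  have hcomp : ∀ g : G, g ∉ center G → IsComp Nat.Prime (C g) := by
    intro g hg
    obtain ⟨r, w, hr, hwm, hws, hwc⟩ := exists_part g hg
    rw [hf.eq_part hg hwm hwc]
    exact isComp_C hr hws hwc
  -- a component and its normaliser
  have htwo : ∀ A : Subgroup G, IsComp Nat.Prime A →
      2 * Nat.card (A.map (pr : G →* G ⧸ center G)) ≤
        Nat.card (normalizer ((A.map (pr : G →* G ⧸ center G) : Subgroup _) : Set (G ⧸ center G))) := by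
    intro A hA
    obtain ⟨s, w, hs, -, hws, hwA, hwc⟩ :
        ∃ s w, s.Prime ∧ True ∧ IsS s w ∧ w ∈ A ∧ w ∉ center G := by
      obtain ⟨s, w, hs, hws, hwc, rfl⟩ := hA
      exact ⟨s, w, hs, trivial, hws, self_mem_C w, hwc⟩
    haveI := Fact.mk hs
    have hlt := ex_center_lt hA.center_le hwA hws hwc
    obtain ⟨g, hg, hgA⟩ : ∃ g ∈ normalizer (A : Set G), g ∉ A := by
      rcases lt_or_eq_of_le (ex_le_top s A) with hnf | hfull
      · obtain ⟨g, hg, -, hgA⟩ := (hA.good hab).exists_normalizing hs hnf hlt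
        exact ⟨g, hg, hgA⟩
      by_contra hno
      push Not at hno
      obtain ⟨hp, hpc⟩ := part_spec (s := s) (hA.comm hab)
      obtain ⟨P, hP⟩ := hp.exists_le_sylow
      have heq : part s A = (P : Subgroup G) := Subgroup.eq_of_le_of_card_ge hP
        (by rw [hpc, hfull, P.card_eq_multiplicity])
      have hd : s ∣ Nat.card G := by
        obtain ⟨e, he⟩ := hws
        exact (dvd_pow_self s (n := e) (fun e0 => hwc ((orderOf_eq_one_iff.1
          (show orderOf w = 1 by rw [he, e0, pow_zero])) ▸ one_mem _))).trans (he ▸ orderOf_dvd_natCard w)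
      refine h.nc s hs hd (TransferBasic.hasNormalPComplement_of_le_centralizer P fun m hm => ?_)
      rw [← heq] at hm ⊢
      have hmA := hno m ((hA.good hab).mem_normalizer hwA hs hws hwc
        (part_le s A ((mem_normalizer_iff.1 hm w).1 (mem_part hwA hws))))
      exact mem_centralizer_iff.2 fun u hu => (commute_of_isComm (hA.comm hab) (part_le s A hu) hmA).eq
    refine two_mul_card_le le_normalizer (b := pr g) ?_ ?_
    · exact Subgroup.le_normalizer_map pr (mem_map_of_mem _ hg)
    · rintro ⟨v, hv, e⟩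
      exact hgA (by simpa using mul_mem hv (hA.center_le (pr_eq_iff.1 e)))
  have hconj : ∀ g g' : G, g ∉ center G → g' ∉ center G → k g = k g' →
      ∃ c, (C g).map (MulAut.conj c).toMonoidHom = C g' := by
    intro g g' hg hg' e
    have hA := hcomp g hg
    obtain ⟨s, w, hs, hws, hwc, hA'⟩ := hcomp g hg
    obtain ⟨t, v, ht, hts, hvs, hvA, hvc⟩ := hA.exists_other hab s
    haveI := Fact.mk hs
    haveI := Fact.mk ht
    exact exists_conj hab hA (hcomp g' hg') (card_C_eq e) ht hs hts
      (ex_center_lt (center_le_C g) hvA hvs hvc)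
      (ex_center_lt (center_le_C g) (hA' ▸ self_mem_C w) hws hwc)
  -- two representatives
  obtain ⟨y₀, hy₀, hy₀'⟩ : ∃ y : G, y ∉ center G ∧ ∀ g, g ∉ center G → k g = k x₀ ∨ k g = k y := by
    by_cases hex : ∃ y : G, y ∉ center G ∧ k y ≠ k x₀
    · obtain ⟨y, hy, hne⟩ := hex
      refine ⟨y, hy, fun g hg => ?_⟩
      rcases h.sizes x₀ hx₀ with e | e <;> rcases h.sizes y hy with e' | e' <;>
        rcases h.sizes g hg with e'' | e'' <;> omega
    · push Not at hex
      exact ⟨x₀, hx₀, fun g hg => Or.inl (hex g hg)⟩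
  refine false_of_cover _ _ (htwo _ (hcomp x₀ hx₀)) (htwo _ (hcomp y₀ hy₀)) fun v hv => ?_
  obtain ⟨g, rfl⟩ := QuotientGroup.mk'_surjective _ v
  have hg : g ∉ center G := fun hc => hv (pr_eq_one.2 hc)
  have hmemc : ∀ z, z ∉ center G → k g = k z → ∃ c : G ⧸ center G, c * pr g * c⁻¹ ∈ (C z).map pr := by
    intro z hz e
    obtain ⟨c, hc⟩ := hconj g z hg hz e
    refine ⟨pr c, ?_⟩
    rw [← map_inv, ← map_mul, ← map_mul, ← hc]
    exact mem_map_of_mem _ ⟨g, self_mem_C g, rfl⟩
  rcases hy₀' g hg with e | e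
  · obtain ⟨c, hc⟩ := hmemc x₀ hx₀ e
    exact ⟨c, Or.inl hc⟩
  · obtain ⟨c, hc⟩ := hmemc y₀ hy₀ e
    exact ⟨c, Or.inr hc⟩

end CfsgLib.ItoSizes
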