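import Cfsg.Agent.ItoSizes.Divisible
import Cfsg.Agent.ItoSizes.Equal
import Cfsg.Agent.CentMax.Basic
import Cfsg.Agent.Char.Burnside
import Cfsg.Agent.S4134
import Cfsg.Prelude.Def_Transfer

/-!
Three class sizes imply solvability.
-/

set_option autoImplicit false
set_option linter.unusedSectionVars false
set_option linter.style.haveILetI false

namespace CfsgLib.ItoSizes

open Subgroup CfsgLib.TwoLargest CfsgLib.CoprimeSizes

universe u

variable {G : Type u} [Group G] [Finite G] {a b q : ℕ}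

theorem isSolvable_of_red (h : Red G a b) : Group.IsSolvable G := by
  classical
  by_cases hf : Free G
  · exact isSolvable_of_free h hf
  exfalso
  obtain ⟨g, y, hgc, hyc, hle, hne⟩ : ∃ g y : G, g ∉ center G ∧ y ∉ center G ∧ C g ≤ C y ∧ C g ≠ C y := by
    simpa only [Free, not_forall, exists_prop] using hf
  have hne' : k g ≠ k y := fun e => hne (C_eq_of_le hle e.le)
  have hsizes : ∀ z : G, z ∉ center G → k z = k y ∨ k z = k g := fun z hz => by
    rcases h.sizes g hgc with e | e <;> rcases h.sizes y hyc with e' | e' <;>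
      rcases h.sizes z hz with e'' | e'' <;> omega
  have h' : Red G (k y) (k g) := ⟨hsizes, h.three, h.nc⟩
  have hdvd : k y ∣ k g := k_dvd hle
  have hlt : ∀ s : ℕ, s.Prime → s ∣ Nat.card G → (k y).factorization s < (k g).factorization s := by
    intro s hs hd
    refine lt_of_le_of_ne ((Nat.factorization_le_iff_dvd (k_pos y).ne' (k_pos g).ne').2 hdvd s) fun e => hf ?_
    refine free_of_const h' hs hd fun z z' hz hz' => ?_
    have h1 := ex_C_add z s
    have h2 := ex_C_add z' s
    rcases hsizes z hz with e1 | e1 <;> rcases hsizes z' hz' with e2 | e2 <;>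
      rw [e1] at h1 <;> rw [e2] at h2 <;> omega
  have hD : Div G (k y) (k g) := ⟨h', k_pos y, hdvd, hlt⟩
  obtain ⟨r, v, hr, hvy, hvs, hvc⟩ := exists_part y hyc
  obtain ⟨hkv, hCv⟩ := hD.k_small rfl hvc (C_le_of_mem_zpowers hvy)
  have hgv : g ∈ C v := hCv.ge (hle (self_mem_C g))
  obtain ⟨s, hs, hsd, hsr, -⟩ := h.three r r
  haveI := Fact.mk hs
  obtain ⟨x, hx, hxs, hxne⟩ : ∃ x ∈ C v, IsS s x ∧ ¬ C v ≤ C x := by
    by_contra hall
    push Not at hall
    obtain ⟨Q⟩ : Nonempty (Sylow s (C v)) := inferInstance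
    have h1 := card_le_of_isPGroup (Q.2.map (C v).subtype) (K := C g) (by
      rintro _ ⟨w, hw, rfl⟩
      exact mem_C_comm.1
        (hall w w.2 (isS_of_mem (Q.2.map (C v).subtype) (mem_map_of_mem _ hw)) hgv))
    rw [card_map_of_injective (C v).subtype_injective, Q.card_eq_multiplicity,
      Nat.pow_le_pow_iff_right hs.one_lt] at h1
    have h2 := hD.ex_lt hkv rfl hs hsd (y := g)
    change ex s (C v) ≤ _ at h1
    omega
  exact hD.no_mixed hkv hvc hvs hr hx hxs hs hsr hxne

theorem isSolvable_of_const (x₀ : G) (hx₀ : x₀ ∉ center G)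
    (h : ∀ x : G, x ∉ center G → k x = k x₀) : Group.IsSolvable G := by
  have hn : 1 < k x₀ := by
    have := k_pos x₀
    have : k x₀ ≠ 1 := fun e => hx₀ (mem_center_of_k e)
    omega
  obtain ⟨p, hp, -, -, hP⟩ := Cfsg.Agent.S4134.result (k x₀) hn
    (fun x => (em (x ∈ center G)).imp k_of_center (h x)) ⟨x₀, rfl⟩
  obtain ⟨P⟩ : Nonempty (Sylow p G) := inferInstance
  obtain ⟨-, ⟨N, hNn, hc, hNc, -⟩, -⟩ := hP P
  haveI : Group.IsSolvable N := Group.isSolvable_of_comm fun u v => hNc.is_comm.comm u v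
  obtain ⟨j, hj⟩ := P.2.exists_card_eq
  have hQ : IsPGroup p (G ⧸ N) := IsPGroup.of_card (n := j) (by
    have h1 := hc.card_mul
    rw [← N.card_mul_index] at h1
    rw [← Subgroup.index_eq_card, ← Nat.eq_of_mul_eq_mul_left Nat.card_pos h1, hj])
  haveI := hQ.isNilpotent
  exact CentMax.solvable_ext N

/-- The sizes in a normal `q`-complement. -/
theorem k_complement [Fact q.Prime] {N : Subgroup G} [N.Normal] {P : Sylow q G}
    (hc : N.IsComplement' (P : Subgroup G)) {x y : N} (he : k (x : G) = k (y : G)) : k x = k y := by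
  obtain ⟨j, hj⟩ := P.2.exists_card_eq
  have hindex : N.index = q ^ j := by
    rw [← hj]
    have h1 := hc.card_mul
    rw [← N.card_mul_index] at h1
    exact (Nat.eq_of_mul_eq_mul_left Nat.card_pos h1).symm
  have hco : (Nat.card N).Coprime q := by
    refine ((Fact.out : q.Prime).coprime_iff_not_dvd.2 fun hd => P.not_dvd_index ?_).symm
    have h1 := hc.card_mul
    rw [← (P : Subgroup G).card_mul_index, mul_comm] at h1
    rwa [← Nat.eq_of_mul_eq_mul_left Nat.card_pos h1]
  have main : ∀ u w : N, k (u : G) = k (w : G) → k u ∣ k w := fun u w e => by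
    have h1 : k u = (C (u : G)).relIndex N := by rw [Subgroup.relIndex, ← C_sub]
    have h2 : k w = (C (w : G)).relIndex N := by rw [Subgroup.relIndex, ← C_sub]
    refine ((hco.coprime_dvd_left (C u).index_dvd_card).pow_right j).dvd_of_dvd_mul_right ?_
    show k u ∣ k w * q ^ j
    rw [h1, h2, ← hindex]
    exact (relIndex_dvd_k N (u : G)).trans (e ▸ k_dvd_relIndex_mul N (w : G))
  exact Nat.dvd_antisymm (main x y he) (main y x he.symm)

theorem isSolvable_of_three {G : Type u} [Group G] [Finite G] (a b : ℕ)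
    (h : ∀ x : G, x ∉ center G → k x = a ∨ k x = b) : Group.IsSolvable G := by
  induction hn : Nat.card G using Nat.strong_induction_on generalizing G a b with
  | _ n IH =>
    classical
    by_cases hex : ∃ x₀ : G, x₀ ∉ center G
    swap
    · push Not at hex
      exact Group.isSolvable_of_comm fun u v => (Subgroup.mem_center_iff.1 (hex u) v).symm
    obtain ⟨x₀, hx₀⟩ := hex
    by_cases hconst : ∀ x : G, x ∉ center G → k x = k x₀
    · exact isSolvable_of_const x₀ hx₀ hconst
    by_cases hnc : ∃ q : ℕ, q.Prime ∧ q ∣ Nat.card G ∧ Cfsg.HasNormalPComplement q G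
    · obtain ⟨q, hq, hqd, P, N, hNn, hc⟩ := hnc
      haveI := Fact.mk hq
      haveI := hNn
      have hlt : Nat.card N < n := by
        have hP : 1 < Nat.card (P : Subgroup G) :=
          lt_of_lt_of_le hq.one_lt (Nat.le_of_dvd Nat.card_pos (P.dvd_card_of_dvd_card hqd))
        rw [← hn, ← hc.card_mul]
        exact lt_mul_of_one_lt_right Nat.card_pos hP
      have hsel : ∀ c : ℕ, ∃ c' : ℕ, ∀ x : N, k (x : G) = c → k x = c' := fun c => by
        by_cases hx : ∃ x : N, k (x : G) = c
        · obtain ⟨x, hx⟩ := hx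
          exact ⟨k x, fun y hy => k_complement hc (hy.trans hx.symm)⟩
        · exact ⟨0, fun y hy => absurd ⟨y, hy⟩ hx⟩
      obtain ⟨a', ha'⟩ := hsel a
      obtain ⟨b', hb'⟩ := hsel b
      haveI : Group.IsSolvable N := IH _ hlt a' b' (fun x hx => (h (x : G) fun hm => hx
        (Subgroup.mem_center_iff.2 fun g => Subtype.ext (Subgroup.mem_center_iff.1 hm g))).imp (ha' x) (hb' x)) rfl
      obtain ⟨j, hj⟩ := P.2.exists_card_eq
      have hQ : IsPGroup q (G ⧸ N) := IsPGroup.of_card (n := j) (by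
        have h1 := hc.card_mul
        rw [← N.card_mul_index] at h1
        rw [← Subgroup.index_eq_card, ← Nat.eq_of_mul_eq_mul_left Nat.card_pos h1, hj])
      haveI := hQ.isNilpotent
      exact CentMax.solvable_ext N
    by_cases hthree : ∀ p q : ℕ, ∃ s : ℕ, s.Prime ∧ s ∣ Nat.card G ∧ s ≠ p ∧ s ≠ q
    · exact isSolvable_of_red (a := a) (b := b) ⟨h, hthree, fun q hq hd hh => hnc ⟨q, hq, hd, hh⟩⟩
    push Not at hthree
    obtain ⟨p, q, hpq⟩ := hthree
    have hone : Nat.card G ≠ 1 := fun e => hx₀ (by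
      haveI := (Nat.card_eq_one_iff_unique.1 e).1
      exact Subsingleton.elim (1 : G) x₀ ▸ one_mem _)
    obtain ⟨p', hp', hp'd⟩ := Nat.exists_prime_and_dvd hone
    obtain ⟨q', hq', hall⟩ : ∃ q' : ℕ, q'.Prime ∧ ∀ s, s.Prime → s ∣ Nat.card G → s = p' ∨ s = q' := by
      by_cases hother : ∃ s : ℕ, s.Prime ∧ s ∣ Nat.card G ∧ s ≠ p'
      · obtain ⟨q', hq', hq'd, hne⟩ := hother
        refine ⟨q', hq', fun s hs hd => ?_⟩
        have h1 := hpq p' hp' hp'd
        have h2 := hpq q' hq' hq'd
        have h3 := hpq s hs hd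
        omega
      · push Not at hother
        exact ⟨p', hp', fun s hs hd => Or.inl (hother s hs hd)⟩
    refine CfsgLib.Char.isSolvable_of_card_eq p' q' ((Nat.card G).factorization p')
      ((Nat.card G / p' ^ (Nat.card G).factorization p').primeFactorsList.length) hp' hq' ?_
    conv_lhs => rw [← Nat.ordProj_mul_ordCompl_eq_self (Nat.card G) p']
    congr 1
    refine Nat.eq_prime_pow_of_unique_prime_dvd (Nat.ordCompl_pos p' Nat.card_pos.ne').ne' fun {d} hd hdd => ?_
    exact (hall d hd (hdd.trans (Nat.ordCompl_dvd _ _))).resolve_left fun e =>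
      Nat.not_dvd_ordCompl hp' Nat.card_pos.ne' (e ▸ hdd)

end CfsgLib.ItoSizes
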