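import Cfsg.Agent.ItoSizes.Pairs
import Cfsg.Agent.Kazarin.Main

/-!
One family of abelian centralisers for all primes but one: they contain full Sylow subgroups.
-/

set_option autoImplicit false
set_option linter.unusedSectionVars false
set_option linter.style.haveILetI false

namespace CfsgLib.ItoSizes

open Subgroup CfsgLib.TwoLargest CfsgLib.CoprimeSizes

variable {G : Type*} [Group G] [Finite G] {π : ℕ → Prop} {q s t : ℕ} {A : Subgroup G}

/-- The primes other than `q` whose Sylow subgroups are not central. -/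
abbrev other' (G : Type*) [Group G] (q : ℕ) : ℕ → Prop := fun s =>
  s.Prime ∧ s ≠ q ∧ (Nat.card (center G)).factorization s < (Nat.card G).factorization s

/-- The centralisers of the noncentral `q'`-elements form one family. -/
structure OneFam (G : Type*) [Group G] (q : ℕ) : Prop where
  ab : AbCent G (other' G q)
  prime : q.Prime
  two : ∃ s t, other' G q s ∧ other' G q t ∧ s ≠ t
  card_eq : ∀ A B : Subgroup G, IsComp (other' G q) A → IsComp (other' G q) B → Nat.card A = Nat.card B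
  rich : ∀ A : Subgroup G, IsComp (other' G q) A → ∀ s, other' G q s → ex s (center G) < ex s A
  le : ∀ (s : ℕ) (g a : G), g ∉ center G → other' G q s → IsS s a → a ∉ center G → a ∈ C g → C g ≤ C a

theorem other'_of_isS (hs : s.Prime) (hsq : s ≠ q) {a : G} (ha : IsS s a) (hac : a ∉ center G) :
    other' G q s := by
  haveI := Fact.mk hs
  refine ⟨hs, hsq, ?_⟩
  have := ex_center_lt (H := (⊤ : Subgroup G)) le_top (mem_top a) ha hac
  show (Nat.card (center G)).factorization s < _
  rw [← Nat.card_congr (Subgroup.topEquiv (G := G)).toEquiv]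
  exact this

theorem two_mul_card_le {A B : Subgroup G} (hle : A ≤ B) {b : G} (hb : b ∈ B) (hbA : b ∉ A) :
    2 * Nat.card A ≤ Nat.card B := by
  obtain ⟨k, hk⟩ := Subgroup.card_dvd_of_le hle
  rw [hk, mul_comm]
  refine Nat.mul_le_mul_left _ ?_
  by_contra hk2
  rcases Nat.lt_or_ge k 1 with hk0 | hk1
  · rw [Nat.lt_one_iff.1 hk0, mul_zero] at hk
    exact Nat.card_pos.ne' hk
  · have : k = 1 := by omega
    rw [this, mul_one] at hk
    exact hbA ((Subgroup.eq_of_le_of_card_ge hle hk.le) ▸ hb)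

/-- The induced group has a subgroup of prime order as a Sylow subgroup. -/
theorem Good.card_sylow_ind (hA : Good π A) [hr : Fact s.Prime] (hπ : π s)
    (hnc : ¬ part s A ≤ center G) (S : Sylow s (Ind A)) : Nat.card (S : Subgroup (Ind A)) ≤ s := by
  obtain ⟨N, hN⟩ : ∃ N, N = normalizer (A : Set G) := ⟨_, rfl⟩
  obtain ⟨R⟩ : Nonempty (Sylow s (normalizer (A : Set G))) := inferInstance
  obtain ⟨R0, hR0⟩ : ∃ R0, R0 = (R : Subgroup (normalizer (A : Set G))).map
      (normalizer (A : Set G)).subtype := ⟨_, rfl⟩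
  have hR0p : IsPGroup s R0 := hR0 ▸ R.2.map _
  have hR0n : R0 ≤ normalizer (A : Set G) := hR0 ▸ map_subtype_le _
  obtain ⟨P, hP⟩ : ∃ P, P = part s A := ⟨_, rfl⟩
  have hPn : P ≤ normalizer (A : Set G) := hP ▸ (part_le s A).trans le_normalizer
  haveI : (P.comap (normalizer (A : Set G)).subtype).Normal :=
    Subgroup.normal_subgroupOf_of_le_normalizer (hP ▸ fun g hg => mem_normalizer_part hg s)
  have hsub : P.subgroupOf (normalizer (A : Set G)) ≤ R := by
    rw [← R.3 (R.2.to_sup_of_normal_right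
      ((hP ▸ (part_spec hA.comm).1 : IsPGroup s P).comap_subtype)) le_sup_left]
    exact le_sup_right
  have hle : part s A ≤ R0 := by
    rw [← hP, hR0]
    intro u hu
    exact ⟨⟨u, hPn hu⟩, hsub (Subgroup.mem_subgroupOf.2 hu), rfl⟩
  have h1 := hA.card_le hπ hR0p hle hR0n hnc
  obtain ⟨S', hS'⟩ : ∃ S', S' = Sylow.mapSurjective (QuotientGroup.mk'_surjective
      (A.subgroupOf (normalizer (A : Set G)))) R := ⟨_, rfl⟩
  rw [S.card_eq_multiplicity, ← S'.card_eq_multiplicity, hS', Sylow.coe_mapSurjective,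
    ← Subgroup.relIndex_bot_left, ← Subgroup.map_bot (ind A), Subgroup.relIndex_map_map]
  simp only [QuotientGroup.ker_mk', bot_sup_eq, sup_bot_eq]
  have h2 : (P.subgroupOf (normalizer (A : Set G))) ≤ A.subgroupOf (normalizer (A : Set G)) :=
    Subgroup.comap_mono (hP ▸ part_le s A)
  obtain ⟨D, hD⟩ : ∃ D, D = A.subgroupOf (normalizer (A : Set G)) := ⟨_, rfl⟩
  haveI : D.Normal := hD ▸ inferInstance
  rw [← hD] at h2 ⊢
  have h3 : D.relIndex (R : Subgroup _) = D.relIndex ((R : Subgroup _) ⊔ D) := by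
    rw [Subgroup.relIndex_sup_right]
  have h4 := (D.subgroupOf (R : Subgroup (normalizer (A : Set G)))).card_mul_index
  change _ * D.relIndex (R : Subgroup _) = _ at h4
  rw [← h3]
  have h5 : Nat.card P ≤ Nat.card (D.subgroupOf (R : Subgroup (normalizer (A : Set G)))) := by
    rw [← Nat.card_congr (Subgroup.subgroupOfEquivOfLe hPn).toEquiv,
      ← Nat.card_congr (Subgroup.subgroupOfEquivOfLe hsub).toEquiv]
    exact Nat.le_of_dvd Nat.card_pos (Subgroup.card_dvd_of_le (Subgroup.comap_mono h2))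
  have h6 := Nat.mul_le_mul_right (D.relIndex (R : Subgroup (normalizer (A : Set G)))) h5
  rw [h4] at h6
  have h7 : Nat.card R0 = Nat.card (R : Subgroup (normalizer (A : Set G))) := by
    rw [hR0, card_map_of_injective (normalizer (A : Set G)).subtype_injective]
  rw [← h7] at h6
  rw [hP, mul_comm s] at *
  exact Nat.le_of_mul_le_mul_left (h6.trans h1) Nat.card_pos

namespace OneFam

variable (h : OneFam G q)

include h

theorem C_eq (hA : IsComp (other' G q) A) {g : G} (hg : g ∈ A) (hgc : g ∉ center G) : C g = A := by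
  obtain ⟨s, e, hs, hes, hec, rfl⟩ := hA
  exact le_antisymm (h.le s g e hgc hs hes hec (mem_C_comm.1 hg))
    (le_C_of_isComm (h.ab.comm s e hs hes hec) hg)

theorem conj_eq {A B : Subgroup G} (hA : IsComp (other' G q) A) (hB : IsComp (other' G q) B) :
    ∃ g : G, A.map (MulAut.conj g).toMonoidHom = B := by
  obtain ⟨s, t, hs, ht, hst⟩ := h.two
  exact exists_conj h.ab hA hB (h.card_eq A B hA hB) hs ht hst (h.rich A hA s hs) (h.rich A hA t ht)

theorem not_dvd_index (hA : IsComp (other' G q) A) {x : ℕ} [hx : Fact x.Prime] (hxq : x ≠ q) :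
    ¬ x ∣ (normalizer (A : Set G)).index := by
  by_cases hπ : other' G q x
  · exact hA.not_dvd_index h.ab (fun B hB => h.conj_eq hA hB) hπ hπ.2.2
  intro hd
  have h1 : (Nat.card G).factorization x ≤ ex x (center G) := by
    by_contra hlt
    exact hπ ⟨hx.out, hxq, not_le.1 hlt⟩
  have h2 := ex_mono x (hA.center_le.trans le_normalizer)
  have e := (normalizer (A : Set G)).card_mul_index
  have h3 : 0 < (normalizer (A : Set G)).index.factorization x :=
    hx.out.factorization_pos_of_dvd Subgroup.index_ne_zero_of_finite hd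
  rw [← e, Nat.factorization_mul Nat.card_pos.ne' Subgroup.index_ne_zero_of_finite, Finsupp.add_apply] at h1
  change (Nat.card (normalizer (A : Set G))).factorization x + _ ≤ _ at h1
  have : ex x (normalizer (A : Set G)) = (Nat.card (normalizer (A : Set G))).factorization x := rfl
  omega

theorem exists_outside (hA : IsComp (other' G q) A) (hs : other' G q s)
    (hnf : ex s A < (Nat.card G).factorization s) : ∃ g ∈ normalizer (A : Set G), IsS s g ∧ g ∉ A := by
  haveI := Fact.mk hs.1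
  exact (hA.good h.ab).exists_normalizing hs hnf (h.rich A hA s hs)

theorem part_nc (hA : IsComp (other' G q) A) (hs : other' G q s) : ¬ part s A ≤ center G := by
  haveI := Fact.mk hs.1
  exact part_not_le_center (h.rich A hA s hs)

/-- The prime `q` does not divide the order of the induced group. -/
theorem q_free (hA : IsComp (other' G q) A) {r : ℕ} (hr : other' G q r)
    (hnf : ex r A < (Nat.card G).factorization r)
    (hmin : ∀ s, other' G q s → ex s A < (Nat.card G).factorization s → r ≤ s) :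
    ∀ y ∈ normalizer (A : Set G), IsS q y → y ∈ A := by
  classical
  haveI := Fact.mk hr.1
  haveI := Fact.mk h.prime
  obtain ⟨s₀, t₀, hs₀, ht₀, hst⟩ := h.two
  obtain ⟨u, hu, hur⟩ : ∃ u, other' G q u ∧ r ≠ u := by
    rcases eq_or_ne r s₀ with rfl | hne
    · exact ⟨t₀, ht₀, hst⟩
    · exact ⟨s₀, hs₀, hne⟩
  have hnu := h.part_nc hA hu
  have hnr := h.part_nc hA hr
  -- no commuting pair
  have hbad : ∀ α β : Ind A, α ^ r = 1 → β ^ q = 1 → α ≠ 1 → β ≠ 1 → Commute α β → False :=
    fun α β hα hβ hα1 hβ1 hc => (hA.good h.ab).ind_absurd hr hnr hr.2.1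
      (isS_of_dvd (x := α) ⟨1, by rw [pow_one, orderOf_eq_prime hα hα1]⟩ dvd_rfl)
      ⟨1, by rw [pow_one, orderOf_eq_prime hβ hβ1]⟩ hα1 hβ1 hc
  -- the Sylow subgroup for `r`
  obtain ⟨Rf⟩ : Nonempty (Sylow r (Ind A)) := inferInstance
  obtain ⟨g₀, hg₀n, hg₀s, hg₀A⟩ := h.exists_outside hA hr hnf
  obtain ⟨α, hαdef⟩ : ∃ α : Ind A, α = ind A ⟨g₀, hg₀n⟩ := ⟨_, rfl⟩
  have hα1 : α ≠ 1 := fun e => hg₀A (ind_eq_one.1 (hαdef ▸ e))
  have hrdvd : r ∣ Nat.card (Ind A) := by
    obtain ⟨i, hi⟩ := isS_map (ind A) (isS_coe.1 (show IsS r ((⟨g₀, hg₀n⟩ : normalizer (A : Set G)) : G) from hg₀s))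
    rw [← hαdef] at hi
    exact ((dvd_pow_self r (fun i0 => hα1 (orderOf_eq_one_iff.1 (by rw [hi, i0, pow_zero])))).trans
      (hi ▸ orderOf_dvd_natCard α))
  have hRf : Nat.card (Rf : Subgroup (Ind A)) = r := by
    refine le_antisymm ((hA.good h.ab).card_sylow_ind hr hnr Rf) (Nat.le_of_dvd Nat.card_pos ?_)
    exact Rf.dvd_card_of_dvd_card hrdvd
  intro y hyn hys
  by_contra hyA
  have hqdvd : q ∣ Nat.card (Ind A) := by
    obtain ⟨i, hi⟩ := isS_map (ind A) (isS_coe.1 (show IsS q ((⟨y, hyn⟩ : normalizer (A : Set G)) : G) from hys))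
    refine (dvd_pow_self q (n := i) (fun i0 => hyA ((ind_eq_one (x := ⟨y, hyn⟩)).1
      (orderOf_eq_one_iff.1 (show orderOf (ind A ⟨y, hyn⟩) = 1 by rw [hi, i0, pow_zero]))))).trans ?_
    rw [← hi]
    exact _root_.orderOf_dvd_natCard _
  have hpowR : ∀ γ ∈ (Rf : Subgroup (Ind A)), γ ^ r = 1 := fun γ hγ => by
    rw [← hRf, ← orderOf_dvd_iff_pow_eq_one]
    exact Subgroup.orderOf_dvd_natCard _ hγ
  have hNC : normalizer ((Rf : Subgroup (Ind A)) : Set (Ind A)) ≤ centralizer ((Rf : Subgroup (Ind A)) : Set (Ind A)) := by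
    intro m hm
    refine mem_of_parts fun x a hx ha hax => ?_
    haveI := Fact.mk hx
    have han : a ∈ normalizer ((Rf : Subgroup (Ind A)) : Set (Ind A)) := zpowers_le.2 hm ha
    refine mem_centralizer_iff.2 fun γ hγ => ?_
    rcases eq_or_ne γ 1 with rfl | hγ1
    · rw [one_mul, mul_one]
    have hgen : zpowers γ = (Rf : Subgroup (Ind A)) := Subgroup.eq_of_le_of_card_ge (zpowers_le.2 hγ)
      (by rw [hRf, Nat.card_zpowers, orderOf_eq_prime (hpowR γ hγ) hγ1])
    have hconj : a * γ * a⁻¹ ∈ zpowers γ := hgen ▸ (mem_normalizer_iff.1 han γ).1 hγ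
    refine (?_ : Commute a γ).eq.symm
    rcases eq_or_ne a 1 with rfl | ha1
    · exact Commute.one_left _
    obtain ⟨g, hgs, hga⟩ := exists_ind_lift hax
    have hgA : (g : G) ∉ A := fun e => ha1 (hga ▸ ind_eq_one.2 e)
    rcases eq_or_ne x r with rfl | hxr
    · have hJ := Rf.3 ((isPGroup_zpowers hax).to_sup_of_normal_right' Rf.2 (zpowers_le.2 han)) le_sup_right
      have haR : a ∈ (Rf : Subgroup (Ind A)) := hJ.le (mem_sup_left (mem_zpowers a))
      rw [← hgen] at haR
      obtain ⟨i, rfl⟩ := haR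
      exact (Commute.refl γ).zpow_left i
    rcases eq_or_ne x q with rfl | hxq
    · exfalso
      obtain ⟨e, he⟩ := hax
      rcases e with _ | e
      · exact ha1 (orderOf_eq_one_iff.1 (by simpa using he))
      have hb1 : a ^ x ^ e ≠ 1 := fun h1 => by
        have := orderOf_dvd_of_pow_eq_one h1
        rw [he, Nat.pow_dvd_pow_iff_le_right hx.one_lt] at this
        omega
      have hb : (a ^ x ^ e) ^ x = 1 := by rw [← pow_mul, ← pow_succ, ← he, pow_orderOf_eq_one]
      refine hbad γ (a ^ x ^ e) (hpowR γ hγ) hb hγ1 hb1 ((hA.good h.ab).ind_commute hr.1 hx hu hur hu.2.1.symm hnu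
        (hpowR γ hγ) hb ?_)
      rw [hgen]
      exact (mem_normalizer_iff.1 (pow_mem han _) γ).1 hγ
    have hgc : (g : G) ∉ center G := fun hc => hgA (hA.center_le hc)
    have hπx := other'_of_isS hx hxq hgs hgc
    have hxnf : ex x A < (Nat.card G).factorization x := by
      refine lt_of_le_of_ne (ex_le_top x A) fun e => hgA ?_
      obtain ⟨hp, hpc⟩ := part_spec (s := x) (hA.comm h.ab)
      have hJ := (isPGroup_zpowers hgs).to_sup_of_normal_right' hp
        (zpowers_le.2 (mem_normalizer_part g.2 x))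
      obtain ⟨j, hj⟩ := hJ.exists_card_eq
      have := (hx.pow_dvd_iff_le_factorization Nat.card_pos.ne').1
        (hj ▸ Subgroup.card_subgroup_dvd_card (zpowers (g : G) ⊔ part x A))
      suffices hsup : part x A = zpowers (g : G) ⊔ part x A from
        part_le x A (hsup.ge (mem_sup_left (mem_zpowers (g : G))))
      refine Subgroup.eq_of_le_of_card_ge le_sup_right ?_
      rw [hj, hpc]
      exact Nat.pow_le_pow_right hx.pos (e ▸ this)
    have hlt : r < x := lt_of_le_of_ne (hmin x hπx hxnf) hxr.symm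
    refine FGSBSmall.commute_of_totient hconj ?_
    rw [orderOf_eq_prime (hpowR γ hγ) hγ1, Nat.totient_prime hr.1]
    obtain ⟨i, hi⟩ := hax
    rw [hi]
    refine Nat.Coprime.pow_left i (hx.coprime_iff_not_dvd.2 fun hd => ?_)
    have := Nat.le_of_dvd (by have := hr.1.two_le; omega) hd
    omega
  -- the complement
  obtain ⟨M, hM⟩ : ∃ M, M = (MonoidHom.transferSylow Rf hNC).ker := ⟨_, rfl⟩
  have hcompl := MonoidHom.ker_transferSylow_isComplement' Rf hNC
  rw [← hM] at hcompl
  haveI : M.Normal := hM ▸ MonoidHom.normal_ker _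
  have hcardM : Nat.card M * r = Nat.card (Ind A) := by rw [← hRf]; exact hcompl.card_mul
  have hrM : ¬ r ∣ Nat.card M :=
    fun hd => hr.1.ne_one (Nat.eq_one_of_dvd_coprimes
      (PResidual.card_coprime_of_isComplement' Rf hcompl).1 hd dvd_rfl)
  have hqM : q ∣ Nat.card M := by
    rw [← hcardM] at hqdvd
    exact (h.prime.dvd_mul.1 hqdvd).resolve_right fun hd => hr.2.1 ((Nat.prime_dvd_prime_iff_eq h.prime hr.1).1 hd).symm
  obtain ⟨Q⟩ : Nonempty (Sylow q M) := inferInstance
  obtain ⟨Q0, hQ0⟩ : ∃ Q0, Q0 = (Q : Subgroup M).map M.subtype := ⟨_, rfl⟩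
  have hfr : normalizer (Q0 : Set (Ind A)) ⊔ M = ⊤ := hQ0 ▸ Sylow.normalizer_sup_eq_top Q
  have hrN : r ∣ Nat.card (normalizer (Q0 : Set (Ind A))) := by
    have h1 := Solvable.card_sup_dvd (A := normalizer (Q0 : Set (Ind A))) (K := M)
      (by rw [Subgroup.normalizer_eq_top M]; exact le_top)
    rw [hfr, Subgroup.card_top] at h1
    exact (hr.1.dvd_mul.1 (hrdvd.trans h1)).resolve_right hrM
  obtain ⟨⟨γ, hγn⟩, hγo⟩ := exists_prime_orderOf_dvd_card' r hrN
  rw [Subgroup.orderOf_mk] at hγo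
  have hγ : γ ^ r = 1 := hγo ▸ pow_orderOf_eq_one γ
  have hγ1 : γ ≠ 1 := fun e => hr.1.ne_one (by rw [← hγo, e, orderOf_one])
  have hQp : IsPGroup q Q0 := hQ0 ▸ Q.2.map _
  haveI : Nontrivial Q0 := by
    refine Finite.one_lt_card_iff_nontrivial.1 ?_
    rw [hQ0, card_map_of_injective M.subtype_injective]
    exact lt_of_lt_of_le h.prime.one_lt (Nat.le_of_dvd Nat.card_pos (Q.dvd_card_of_dvd_card hqM))
  haveI := hQp.center_nontrivial
  obtain ⟨c, hc⟩ := exists_prime_orderOf_dvd_card' (G := center Q0) q (by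
    obtain ⟨j, hj⟩ := (hQp.to_subgroup (center Q0)).exists_card_eq
    rcases j with _ | j
    · exact absurd hj (by rw [pow_zero]; exact (Finite.one_lt_card (α := center Q0)).ne')
    · exact hj ▸ dvd_pow_self q (Nat.succ_ne_zero j))
  obtain ⟨β, hβdef⟩ : ∃ β : Ind A, β = ((c : Q0) : Ind A) := ⟨_, rfl⟩
  have hβo : orderOf β = q := by rw [hβdef, Subgroup.orderOf_coe, Subgroup.orderOf_coe, hc]
  have hβ : β ^ q = 1 := hβo ▸ pow_orderOf_eq_one β
  have hβ1 : β ≠ 1 := fun e => h.prime.ne_one (by rw [← hβo, e, orderOf_one])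
  have hβQ : β ∈ Q0 := hβdef ▸ (c : Q0).2
  refine hbad γ β hγ hβ hγ1 hβ1 ((hA.good h.ab).ind_commute h.prime hr.1 hu hu.2.1.symm hur hnu hβ hγ ?_).symm
  -- the elements of order `q` in the centre form one cyclic group
  letI cg : CommGroup (bar u A) :=
    { (inferInstance : Group (bar u A)) with mul_comm := bar_comm (hA.comm h.ab) u }
  obtain ⟨l, hl, hlc⟩ := SetLike.not_le_iff_exists.1 hnu
  have semi : SemiregularPair.Semi ((act (hA.comm h.ab) u).comp Q0.subtype) (⊥ : Subgroup (bar u A)) := by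
    refine ⟨fun δ z hz => by rw [Subgroup.mem_bot.1 hz, map_one], fun δ hδ w hfx => ?_⟩
    exact Subgroup.mem_bot.2 ((hA.good h.ab).act_free h.prime hu hu.2.1.symm (isS_of_mem hQp δ.2)
      (fun e => hδ (Subtype.ext e)) hfx)
  obtain ⟨δ, hδdef⟩ : ∃ δ : Q0, δ = ⟨γ * β * γ⁻¹, (mem_normalizer_iff.1 hγn β).1 hβQ⟩ := ⟨_, rfl⟩
  by_contra hne
  haveI := Fact.mk (h.ab.prime u hu)
  refine CoprimeSizes.no_two_generators semi h.prime (c := (c : Q0)) (d := δ)
    (w := (⟨pr l, mem_map_of_mem pr hl⟩ : bar u A)) ?_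
    (fun e => hlc (pr_eq_one.1 (congrArg Subtype.val (Subgroup.mem_bot.1 e))))
    (Subgroup.mem_center_iff.1 c.2 δ).symm ?_ ?_ ?_ ?_
  · rw [← Subgroup.orderOf_coe]
    exact coprime_of_isS h.prime (h.ab.prime u hu) hu.2.1 (isS_map _ (isS_of_mem (part_spec (hA.comm h.ab)).1 hl))
  · refine Subtype.ext ?_
    show ((c : Q0) : Ind A) ^ q = 1
    rw [← hβdef]
    exact hβ
  · exact fun e => hβ1 (by rw [hβdef, e]; rfl)
  · refine Subtype.ext ?_
    show ((δ : Q0) : Ind A) ^ q = 1
    rw [hδdef]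
    show (γ * β * γ⁻¹) ^ q = 1
    rw [conj_pow, hβ, mul_one, mul_inv_cancel]
  · rintro ⟨i, hi⟩
    refine hne ⟨i, ?_⟩
    have := congrArg Subtype.val hi
    rw [hδdef] at this
    simpa [hβdef] using this

theorem false_of_nonfull (hA : IsComp (other' G q) A) {r : ℕ} (hr : other' G q r)
    (hnf : ex r A < (Nat.card G).factorization r)
    (hmin : ∀ s, other' G q s → ex s A < (Nat.card G).factorization s → r ≤ s) : False := by
  classical
  haveI := Fact.mk h.prime
  haveI := Fact.mk hr.1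
  have hfree : ∀ B, IsComp (other' G q) B → ∀ y ∈ normalizer (B : Set G), IsS q y → y ∈ B := fun B hB => by
    have e : ∀ s, ex s B = ex s A := fun s => by
      show (Nat.card B).factorization s = _
      rw [h.card_eq B A hB hA]
    exact h.q_free hB hr (e r ▸ hnf) (fun s hs hs' => hmin s hs (e s ▸ hs'))
  obtain ⟨N, hNdef⟩ : ∃ N, N = (normalizer (A : Set G)).map (pr : G →* G ⧸ center G) := ⟨_, rfl⟩
  obtain ⟨Ab, hAb⟩ : ∃ Ab, Ab = A.map (pr : G →* G ⧸ center G) := ⟨_, rfl⟩
  have hAN : Ab ≤ N := hAb ▸ hNdef ▸ Subgroup.map_mono le_normalizer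
  have hN2 : 2 * Nat.card Ab ≤ Nat.card (normalizer (Ab : Set (G ⧸ center G))) := by
    obtain ⟨g, hg, hgs, hgA⟩ := h.exists_outside hA hr hnf
    refine two_mul_card_le le_normalizer (b := pr g) ?_ ?_
    · rw [hAb]; exact Subgroup.le_normalizer_map pr (mem_map_of_mem _ hg)
    · rw [hAb]
      rintro ⟨a, ha, e⟩
      exact hgA (by simpa using mul_mem ha (hA.center_le (pr_eq_iff.1 e)))
  have hcoverA : ∀ g s a, other' G q s → IsS s a → a ∉ center G → a ∈ C g →
      ∃ c : G ⧸ center G, c * pr g * c⁻¹ ∈ Ab := by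
    intro g s a hs has hac hag
    obtain ⟨c, hc⟩ := h.conj_eq (isComp_C hs has hac) hA
    refine ⟨pr c, ?_⟩
    rw [hAb, ← hc, ← map_inv, ← map_mul, ← map_mul]
    exact mem_map_of_mem _ ⟨g, mem_C_comm.1 hag, by simp⟩
  obtain ⟨r₀, hr₀⟩ : ∃ r₀, r₀ = r := ⟨_, rfl⟩
  obtain ⟨t₀, a₀, ht₀, -, ha₀s, ha₀A, ha₀c⟩ := hA.exists_other h.ab q
  haveI : Nontrivial (G ⧸ center G) := ⟨⟨pr a₀, 1, fun e => ha₀c (pr_eq_one.1 e)⟩⟩
  have hbot : 2 * Nat.card (⊥ : Subgroup (G ⧸ center G)) ≤
      Nat.card (normalizer ((⊥ : Subgroup (G ⧸ center G)) : Set (G ⧸ center G))) := by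
    rw [Subgroup.normalizer_eq_top, Subgroup.card_top, Subgroup.card_bot, mul_one]
    exact Finite.one_lt_card
  -- no noncentral `q`-elements in components
  have hT : ∀ B, IsComp (other' G q) B → ∀ y ∈ B, IsS q y → y ∈ center G := by
    intro B hB y hyB hys
    by_contra hyc
    obtain ⟨hp, hpc⟩ := part_spec (s := q) (hB.comm h.ab)
    have hlt : ex q B = (Nat.card G).factorization q := by
      by_contra hne
      have h1 : q ^ (ex q B + 1) ∣ Nat.card (normalizer ((part q B : Subgroup G) : Set G)) :=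
        Sylow.prime_pow_dvd_card_normalizer ((h.prime.pow_dvd_iff_le_factorization Nat.card_pos.ne').2
          (lt_of_le_of_ne (ex_le_top q B) hne)) hpc
      have h2 : ex q (part q B) < ex q (normalizer ((part q B : Subgroup G) : Set G)) := by
        show (Nat.card (part q B)).factorization q < _
        rw [hpc, h.prime.factorization_pow, Finsupp.single_eq_same]
        exact (h.prime.pow_dvd_iff_le_factorization Nat.card_pos.ne').1 h1
      obtain ⟨g, hg, hgs, hgp⟩ := exists_isS_notMem h2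
      refine hgp (mem_part (hfree B hB g ?_ hgs) hgs)
      have h3 := part_le q B ((mem_normalizer_iff.1 hg y).1 (mem_part hyB hys))
      have e := h.C_eq hB hyB hyc
      rw [← e]
      exact mem_normalizer_of_C_eq ((h.C_eq hB h3 (conj_notMem_center hyc g)).trans e.symm)
    obtain ⟨P', hP'⟩ := hp.exists_le_sylow
    have heq : part q B = (P' : Subgroup G) := Subgroup.eq_of_le_of_card_ge hP'
      (by rw [hpc, hlt, P'.card_eq_multiplicity])
    refine false_of_cover Ab ⊥ hN2 hbot fun v hv => ?_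
    obtain ⟨g, rfl⟩ := QuotientGroup.mk'_surjective _ v
    have hgc : g ∉ center G := fun hc => hv (pr_eq_one.2 hc)
    obtain ⟨x, a, hx, ha, hax, hac⟩ := exists_part g hgc
    have hag : a ∈ C g := mem_C.2 (by obtain ⟨i, rfl⟩ := ha; exact (Commute.refl g).zpow_right i)
    rcases eq_or_ne x q with rfl | hxq
    · obtain ⟨j, hj⟩ := hax
      obtain ⟨R', hR'⟩ := (IsPGroup.of_card (p := x) (G := zpowers a) (n := j)
        (by rw [Nat.card_zpowers, hj])).exists_le_sylow
      obtain ⟨c, hc⟩ := MulAction.exists_smul_eq G R' P'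
      have hca : c * a * c⁻¹ ∈ part x B := by
        rw [heq, ← hc, Sylow.coe_subgroup_smul]
        exact ⟨a, hR' (mem_zpowers a), rfl⟩
      obtain ⟨c', hc'⟩ := h.conj_eq hB hA
      refine ⟨pr (c' * c), Or.inl ?_⟩
      rw [hAb, ← hc', ← map_inv, ← map_mul, ← map_mul]
      refine mem_map_of_mem _ ⟨c * g * c⁻¹, ?_, by simp [mul_assoc]⟩
      rw [← h.C_eq hB (part_le x B hca) (conj_notMem_center hac c), C_conj_eq]
      exact ⟨g, mem_C_comm.1 hag, rfl⟩
    · obtain ⟨c, hc⟩ := hcoverA g x a (other'_of_isS hx hxq hax hac) hax hac hag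
      exact ⟨c, Or.inl hc⟩
  -- every noncentral element of order prime to `q` lies in a component
  have hco : ∀ z : G, (orderOf z).Coprime q → z ∉ center G → IsComp (other' G q) (C z) := by
    intro z hz hzc
    obtain ⟨x, a, hx, ha, hax, hac⟩ := exists_part z hzc
    have hxq : x ≠ q := by
      rintro rfl
      exact hac (eq_one_of_isS hax (hz.coprime_dvd_left (orderOf_dvd_of_mem_zpowers ha)) ▸ one_mem _)
    have hπ := other'_of_isS hx hxq hax hac
    have hza : z ∈ C a := by
      obtain ⟨i, rfl⟩ := ha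
      exact mem_C.2 ((Commute.refl z).zpow_left i)
    rw [h.C_eq (isComp_C hπ hax hac) hza hzc]
    exact isComp_C hπ hax hac
  -- the two hypotheses on the quotient
  have hstar : ∀ y z : G ⧸ center G, IsS q y → (orderOf z).Coprime q → z ≠ 1 →
      y * z * y⁻¹ ∈ zpowers z → y = 1 := by
    intro y z hy hz hz1 hyz
    obtain ⟨y', hys, rfl⟩ := exists_lift_isS hy
    obtain ⟨z', hzs, rfl⟩ := exists_lift_coprime h.prime hz
    have hzc : z' ∉ center G := fun hc => hz1 (pr_eq_one.2 hc)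
    have hB := hco z' hzs hzc
    obtain ⟨i, hi⟩ := hyz
    have hmem : y' * z' * y'⁻¹ ∈ C z' := by
      have h1 : (z' ^ i)⁻¹ * (y' * z' * y'⁻¹) ∈ center G := by
        refine pr_eq_iff.1 ?_
        rw [map_zpow, map_mul, map_mul, map_inv]
        exact hi
      have h2 := mul_mem (zpow_mem (self_mem_C z') i) (center_le_C z' h1)
      rwa [mul_inv_cancel_left] at h2
    have hyn : y' ∈ normalizer ((C z' : Subgroup G) : Set G) :=
      mem_normalizer_of_C_eq (h.C_eq hB hmem (conj_notMem_center hzc y'))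
    exact pr_eq_one.2 (hT _ hB y' (hfree _ hB y' hyn hys) hys)
  have hAB : ∀ g k : G ⧸ center G, (orderOf g).Coprime q → (orderOf k).Coprime q → ∀ i j : ℕ,
      g ^ i = k ^ j → g ^ i ≠ 1 → Commute g k := by
    intro g k hg hk i j e hne
    obtain ⟨g', hgs, rfl⟩ := exists_lift_coprime h.prime hg
    obtain ⟨k', hks, rfl⟩ := exists_lift_coprime h.prime hk
    have hgi : g' ^ i ∉ center G := fun hc => hne (by rw [← map_pow]; exact pr_eq_one.2 hc)
    have hgc : g' ∉ center G := fun hc => hgi (pow_mem hc i)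
    have hkj : k' ^ j ∉ center G := fun hc => hne (by rw [e, ← map_pow]; exact pr_eq_one.2 hc)
    have hkc : k' ∉ center G := fun hc => hkj (pow_mem hc j)
    have hB := hco g' hgs hgc
    have h1 := h.C_eq hB (pow_mem (self_mem_C g') i) hgi
    have h2 := h.C_eq (hco k' hks hkc) (pow_mem (self_mem_C k') j) hkj
    have h3 : (g' ^ i)⁻¹ * k' ^ j ∈ center G := pr_eq_iff.1 (by rw [map_pow, map_pow]; exact e)
    have h4 : k' ^ j ∈ C g' := by
      have := mul_mem (pow_mem (self_mem_C g') i) (center_le_C g' h3)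
      rwa [mul_inv_cancel_left] at this
    have h5 : C k' = C g' := h2.symm.trans (h.C_eq hB h4 hkj)
    exact (mem_C.1 (h5 ▸ self_mem_C k' : k' ∈ C g')).map pr
  -- no normal complement modulo the centre
  have hnp : ¬ Cfsg.HasNormalPComplement q (G ⧸ center G) := by
    intro hc
    have hG := hnpc_of_pr hc
    obtain ⟨P, M, hMn, hM⟩ := hG
    haveI := hMn
    obtain ⟨hcM, k, hk⟩ := PResidual.card_coprime_of_isComplement' P hM
    have hMN : ∀ B : Subgroup G, IsComp (other' G q) B → M ≤ normalizer (B : Set G) := by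
      intro B hB
      refine Subgroup.relIndex_eq_one.1 ?_
      by_contra hne
      obtain ⟨x, hx, hxd⟩ := Nat.exists_prime_and_dvd hne
      haveI := Fact.mk hx
      refine h.not_dvd_index hB (x := x) (fun hxq => ?_) (hxd.trans (Kazarin.relIndex_dvd _ _))
      subst hxq
      exact h.prime.ne_one (Nat.eq_one_of_dvd_coprimes hcM (hxd.trans (Subgroup.index_dvd_card _)) dvd_rfl)
    have hmemM : ∀ z : G, (orderOf z).Coprime q → z ∈ M := fun z hz =>
      (PResidual.mem_iff_coprime hM z).2 hz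
    -- a second component
    obtain ⟨g₁, hg₁n, hg₁s, hg₁A⟩ := h.exists_outside hA hr hnf
    have hg₁c : g₁ ∉ center G := fun hc => hg₁A (hA.center_le hc)
    obtain ⟨B, hBdef⟩ : ∃ B, B = C g₁ := ⟨_, rfl⟩
    have hB : IsComp (other' G q) B := hBdef ▸ isComp_C hr hg₁s hg₁c
    have hinf : ∀ e ∈ A, e ∈ B → e ∈ center G := fun e he he' => by
      by_contra hec
      have := (h.C_eq hA he hec).symm.trans (h.C_eq hB he' hec)
      exact hg₁A (this ▸ hBdef ▸ self_mem_C g₁)
    obtain ⟨t, a, ht, htr, has, haA, hac⟩ := hA.exists_other h.ab r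
    haveI := Fact.mk ht.1
    have haM := hmemM a (coprime_of_isS h.prime ht.1 ht.2.1 has)
    have hgM := hmemM g₁ (coprime_of_isS h.prime hr.1 hr.2.1 hg₁s)
    have hgB : g₁ ∈ B := hBdef ▸ self_mem_C g₁
    have h1 : a⁻¹ * (g₁ * a * g₁⁻¹) ∈ A :=
      mul_mem (inv_mem haA) ((mem_normalizer_iff.1 (hMN A hA hgM) a).1 haA)
    have h2 : a⁻¹ * (g₁ * a * g₁⁻¹) ∈ B := by
      rw [show a⁻¹ * (g₁ * a * g₁⁻¹) = a⁻¹ * g₁ * a⁻¹⁻¹ * g₁⁻¹ by group]
      exact mul_mem ((mem_normalizer_iff.1 (inv_mem (hMN B hB haM)) g₁).1 hgB) (inv_mem hgB)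
    have hc' := commute_of_mod (hinf _ h1 h2) (coprime_isS hr.1 ht.1 htr.symm hg₁s has)
    exact hg₁A ((hA.C_eq h.ab haA ht has hac).le (mem_C.2 hc'.symm))
  obtain ⟨P⟩ : Nonempty (Sylow q (G ⧸ center G)) := inferInstance
  have hP := normalizer_ne P hstar hAB hnp
  obtain ⟨b, hb, hbP⟩ := SetLike.exists_of_lt (lt_of_le_of_ne le_normalizer hP.symm)
  refine false_of_cover Ab (P : Subgroup (G ⧸ center G)) hN2 (two_mul_card_le le_normalizer hb hbP) fun v hv => ?_
  obtain ⟨g, rfl⟩ := QuotientGroup.mk'_surjective _ v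
  by_cases hex : ∃ s a, s.Prime ∧ s ≠ q ∧ IsS s a ∧ a ∉ center G ∧ a ∈ zpowers g
  · obtain ⟨s, a, hs, hsq, has, hac, hag⟩ := hex
    obtain ⟨c, hc⟩ := hcoverA g s a (other'_of_isS hs hsq has hac) has hac
      (mem_C.2 (by obtain ⟨i, rfl⟩ := hag; exact (Commute.refl g).zpow_right i))
    exact ⟨c, Or.inl hc⟩
  obtain ⟨a, b', hab, -, hbg, ha, hb'⟩ := FGSBSmall.exists_prime_split h.prime g
  have hb1 : b' ∈ center G := by
    refine mem_of_parts fun s c hs hc hcs => ?_
    by_contra hcc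
    refine hex ⟨s, c, hs, ?_, hcs, hcc, zpowers_le.2 hbg hc⟩
    rintro rfl
    exact hcc (eq_one_of_isS hcs (hb'.coprime_dvd_left (orderOf_dvd_of_mem_zpowers hc)) ▸ one_mem _)
  have hga : pr g = pr a := by rw [← hab, map_mul, pr_eq_one.2 hb1, mul_one]
  obtain ⟨j, hj⟩ := isS_map (pr : G →* G ⧸ center G) ha
  obtain ⟨R', hR'⟩ := (IsPGroup.of_card (p := q) (G := zpowers (pr a)) (n := j)
    (by rw [Nat.card_zpowers, hj])).exists_le_sylow
  obtain ⟨c, hc⟩ := MulAction.exists_smul_eq (G ⧸ center G) R' P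
  refine ⟨c, Or.inr ?_⟩
  show c * pr g * c⁻¹ ∈ _
  rw [hga, ← hc, Sylow.coe_subgroup_smul]
  exact ⟨pr a, hR' (mem_zpowers _), rfl⟩

/-- Every component contains the Sylow subgroups for the other primes. -/
theorem full (hA : IsComp (other' G q) A) (hs : other' G q s) :
    ex s A = (Nat.card G).factorization s := by
  classical
  by_contra hne
  have hex : ∃ r, other' G q r ∧ ex r A < (Nat.card G).factorization r :=
    ⟨s, hs, lt_of_le_of_ne (ex_le_top s A) hne⟩
  exact h.false_of_nonfull hA (Nat.find_spec hex).1 (Nat.find_spec hex).2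
    fun t ht ht' => Nat.find_min' hex ⟨ht, ht'⟩

end OneFam

end CfsgLib.ItoSizes
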