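import Cfsg.Agent.ItoSizes.Abstract
import Cfsg.Agent.ItoSizes.Components

/-!
The group induced on a component by its normaliser: commuting elements of coprime orders.
-/

set_option autoImplicit false
set_option linter.unusedSectionVars false
set_option linter.style.haveILetI false

namespace CfsgLib.ItoSizes

open Subgroup CfsgLib.TwoLargest CfsgLib.CoprimeSizes

variable {G : Type*} [Group G] [Finite G] {π : ℕ → Prop} {A : Subgroup G}

/-- An element commuting with an outside `r`-element of the normaliser lies in the component. -/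
theorem Good.mem_of_commute (hA : Good π A) {r : ℕ} [hr : Fact r.Prime] (hπ : π r)
    {g y : G} (hgn : g ∈ normalizer (A : Set G)) (hgs : IsS r g) (hgA : g ∉ A)
    (hnc : ¬ part r A ≤ center G) (hyn : y ∈ normalizer (A : Set G)) (hy : (orderOf y).Coprime r)
    (hgy : Commute g y) : y ∈ A := by
  have hab := hA.comm
  obtain ⟨hp, -⟩ := part_spec (s := r) hab
  have hgp : zpowers g ≤ normalizer ((part r A : Subgroup G) : Set G) :=
    zpowers_le.2 (mem_normalizer_part hgn r)
  obtain ⟨v, hv, hvc, -, hcomm⟩ := exists_commutator_central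
    ((isPGroup_zpowers hgs).to_sup_of_normal_right' hp hgp) le_sup_right
    (sup_le hgp le_normalizer) hnc
  have hz := hcomm g (mem_sup_left (mem_zpowers g))
  have hvs := isS_of_mem hp hv
  obtain ⟨ζ, hζ⟩ : ∃ ζ, ζ = v⁻¹ * (g * v * g⁻¹) := ⟨_, rfl⟩
  rw [← hζ] at hz
  have e1 : g * v * g⁻¹ = v * ζ := by rw [hζ, mul_inv_cancel_left]
  have e2 : g * (y * v * y⁻¹) * g⁻¹ = y * v * y⁻¹ * ζ := by
    have hc : Commute g⁻¹ y⁻¹ := hgy.inv_inv
    calc g * (y * v * y⁻¹) * g⁻¹ = (g * y) * v * (y⁻¹ * g⁻¹) := by group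
      _ = (y * g) * v * (g⁻¹ * y⁻¹) := by rw [hgy.eq, hc.eq]
      _ = y * (g * v * g⁻¹) * y⁻¹ := by group
      _ = y * v * (ζ * y⁻¹) := by rw [e1]; group
      _ = y * v * (y⁻¹ * ζ) := by rw [Subgroup.mem_center_iff.1 hz y⁻¹]
      _ = _ := by group
  have he : v⁻¹ * (y * v * y⁻¹) ∈ part r A :=
    mul_mem (inv_mem hv) ((mem_normalizer_iff.1 (mem_normalizer_part hyn r) v).1 hv)
  have hfix : Commute g (v⁻¹ * (y * v * y⁻¹)) := by
    refine mul_inv_eq_iff_eq_mul.1 ?_
    calc g * (v⁻¹ * (y * v * y⁻¹)) * g⁻¹ = (g * v * g⁻¹)⁻¹ * (g * (y * v * y⁻¹) * g⁻¹) := by group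
      _ = ζ⁻¹ * (v⁻¹ * (y * v * y⁻¹)) * ζ := by rw [e1, e2]; group
      _ = _ := by rw [mul_assoc, Subgroup.mem_center_iff.1 hz, inv_mul_cancel_left]
  have hec : v⁻¹ * (y * v * y⁻¹) ∈ center G := by_contra fun hne =>
    hgA ((hA.C_eq (part_le r A he) hπ (isS_of_mem hp he) hne).le (mem_C.2 hfix.symm))
  have hyv := commute_of_mod hec (coprime_orders hvs hy).symm
  exact (hA.C_eq (part_le r A hv) hπ hvs hvc).le (mem_C.2 hyv.symm)

/-- The group induced by the normaliser of a subgroup on it. -/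
abbrev Ind (A : Subgroup G) : Type _ :=
  (normalizer (A : Set G)) ⧸ A.subgroupOf (normalizer (A : Set G))

/-- The projection to the induced group. -/
abbrev ind (A : Subgroup G) : normalizer (A : Set G) →* Ind A := QuotientGroup.mk' _

theorem ind_eq_one {x : normalizer (A : Set G)} : ind A x = 1 ↔ (x : G) ∈ A :=
  (QuotientGroup.eq_one_iff x).trans Subgroup.mem_subgroupOf

theorem isS_coe {H : Subgroup G} {s : ℕ} {x : H} : IsS s (x : G) ↔ IsS s x := by
  simp only [IsS, Subgroup.orderOf_coe]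

/-- Elements of prime power order lift. -/
theorem exists_ind_lift {s : ℕ} [hs : Fact s.Prime] {a : Ind A} (ha : IsS s a) :
    ∃ g : normalizer (A : Set G), IsS s (g : G) ∧ ind A g = a := by
  obtain ⟨g, rfl⟩ := QuotientGroup.mk'_surjective _ a
  obtain ⟨u, v, huv, -, hvg, hu, hv⟩ := FGSBSmall.exists_prime_split hs.out g
  refine ⟨u, isS_coe.2 hu, ?_⟩
  have h1 : ind A v = 1 := by
    refine eq_one_of_isS ?_ (hv.coprime_dvd_left (orderOf_map_dvd _ _))
    refine isS_of_dvd ha (orderOf_dvd_of_mem_zpowers ?_)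
    rw [← MonoidHom.map_zpowers]
    exact mem_map_of_mem _ hvg
  rw [← huv, map_mul, h1, mul_one]

/-- No commuting elements of coprime prime power orders are induced on a component. -/
theorem Good.ind_absurd (hA : Good π A) {r x : ℕ} [hr : Fact r.Prime]
    [hx : Fact x.Prime] (hπ : π r) (hnc : ¬ part r A ≤ center G) (hrx : r ≠ x) {α β : Ind A}
    (hα : IsS r α) (hβ : IsS x β) (hα1 : α ≠ 1) (hβ1 : β ≠ 1) (hc : Commute α β) : False := by
  obtain ⟨z, hz⟩ := QuotientGroup.mk'_surjective _ (α * β)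
  obtain ⟨i, hi⟩ := hα
  obtain ⟨j, hj⟩ := hβ
  have key : ∀ {r x : ℕ} [Fact r.Prime] [Fact x.Prime] {α β : Ind A} {i j : ℕ}, r ≠ x →
      orderOf α = r ^ i → orderOf β = x ^ j → α ≠ 1 → Commute α β → ind A z = α * β →
      ∃ g : G, g ∈ zpowers (z : G) ∧ IsS r g ∧ g ∉ A := by
    intro r x _ _ α β i j hrx hi hj hα1 hc hz
    have e : ind A (z ^ x ^ j) = α ^ x ^ j := by
      rw [map_pow, hz, hc.mul_pow, ← hj, pow_orderOf_eq_one, mul_one]
    have hco : (x ^ j).Coprime (r ^ i) := Nat.Coprime.pow _ _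
      ((Nat.coprime_primes (Fact.out : x.Prime) (Fact.out : r.Prime)).2 hrx.symm)
    have hne : ((z ^ x ^ j : normalizer (A : Set G)) : G) ∉ A := fun hA' => by
      have h1 := ind_eq_one.2 hA'
      rw [e, ← orderOf_dvd_iff_pow_eq_one, hi] at h1
      exact hα1 (orderOf_eq_one_iff.1 (hi.trans (Nat.eq_one_of_dvd_coprimes hco.symm dvd_rfl h1)))
    have hpow : ((z ^ x ^ j : normalizer (A : Set G)) : G) ^ r ^ i ∈ A := by
      rw [← SubmonoidClass.coe_pow]
      refine ind_eq_one.1 ?_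
      rw [map_pow, e, ← pow_mul, mul_comm, pow_mul, ← hi, pow_orderOf_eq_one, one_pow]
    obtain ⟨r', a, hr', ha, har, haA⟩ := exists_part_notMem hne
    refine ⟨a, ?_, ?_, haA⟩
    · refine zpowers_le.2 ?_ ha
      rw [SubmonoidClass.coe_pow]
      exact pow_mem (mem_zpowers _) _
    rcases eq_or_ne r' r with rfl | hne'
    · exact har
    exfalso
    obtain ⟨k, rfl⟩ := ha
    obtain ⟨m, hm⟩ := exists_pow_eq_self_of_coprime
      (x := ((z ^ x ^ j : normalizer (A : Set G)) : G) ^ k) (n := r ^ i)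
      ((coprime_of_isS (Fact.out : r.Prime) hr' hne' har).symm.pow_left i)
    refine haA (Eq.subst (motive := fun v => v ∈ A) hm (pow_mem ?_ m))
    rw [← zpow_natCast, ← zpow_mul, mul_comm, zpow_mul, zpow_natCast]
    exact zpow_mem hpow k
  obtain ⟨g, hgz, hgs, hgA⟩ := key hrx hi hj hα1 hc hz
  obtain ⟨y, hyz, hys, hyA⟩ := key hrx.symm hj hi hβ1 hc.symm (hz.trans hc.eq)
  refine hyA (hA.mem_of_commute hπ ?_ hgs hgA hnc ?_ (coprime_of_isS hr.out hx.out hrx.symm hys) ?_)
  · exact zpowers_le.2 z.2 hgz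
  · exact zpowers_le.2 z.2 hyz
  · obtain ⟨k, rfl⟩ := hgz
    obtain ⟨l, rfl⟩ := hyz
    exact (Commute.refl _).zpow_zpow k l

/-- The image of the `u`-part of a subgroup modulo the centre. -/
def bar (u : ℕ) (A : Subgroup G) : Subgroup (G ⧸ center G) := (part u A).map pr

theorem bar_comm (hab : IsMulCommutative A) (u : ℕ) (a b : bar u A) : a * b = b * a := by
  obtain ⟨x, hx, ex'⟩ := a.2
  obtain ⟨y, hy, ey⟩ := b.2
  refine Subtype.ext ?_
  show (a : G ⧸ center G) * b = b * a
  rw [← ex', ← ey]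
  exact ((commute_of_isComm hab (part_le u A hx) (part_le u A hy)).map pr).eq

theorem map_le_normalizer_bar (u : ℕ) :
    (normalizer (A : Set G)).map pr ≤ normalizer ((bar u A : Subgroup (G ⧸ center G)) : Set (G ⧸ center G)) :=
  (Subgroup.map_mono fun _ hg => mem_normalizer_part hg u).trans (Subgroup.le_normalizer_map pr)

/-- The action of the induced group on the `u`-part modulo the centre. -/
def actN (u : ℕ) (A : Subgroup G) : normalizer (A : Set G) →* MulAut (bar u A) :=
  (bar u A).normalizerMonoidHom.comp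
    ((Subgroup.inclusion (map_le_normalizer_bar u)).comp (pr.subgroupMap (normalizer (A : Set G))))

theorem actN_apply (u : ℕ) (g : normalizer (A : Set G)) (w : bar u A) :
    ((actN u A g w : bar u A) : G ⧸ center G) = pr (g : G) * w * (pr (g : G))⁻¹ := rfl

theorem actN_ker (hab : IsMulCommutative A) (u : ℕ) :
    A.subgroupOf (normalizer (A : Set G)) ≤ (actN u A).ker := by
  intro g hg
  refine MonoidHom.mem_ker.2 (MulEquiv.ext fun w => Subtype.ext ?_)
  rw [actN_apply, MulAut.one_apply]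
  obtain ⟨x, hx, hxw⟩ := w.2
  rw [← hxw, ← map_inv, ← map_mul, ← map_mul,
    (show Commute (g : G) x from commute_of_isComm hab hg (part_le u A hx)).eq, mul_inv_cancel_right]

/-- The action of the induced group. -/
def act (hab : IsMulCommutative A) (u : ℕ) : Ind A →* MulAut (bar u A) :=
  QuotientGroup.lift _ (actN u A) (actN_ker hab u)

/-- A nontrivial induced element of coprime prime power order has no fixed points. -/
theorem Good.act_free (hA : Good π A) {x u : ℕ} (hx : x.Prime) (hu : π u)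
    (hxu : x ≠ u) {γ : Ind A} (hγs : IsS x γ) (hγ : γ ≠ 1) {w : bar u A}
    (hw : act hA.comm u γ w = w) : w = 1 := by
  haveI := Fact.mk hx
  haveI := Fact.mk (hA.prime u hu)
  have key : ∀ γ : Ind A, γ ≠ 1 → γ ^ x = 1 → act hA.comm u γ w = w → w = 1 := by
    intro γ hγ hpow hw
    obtain ⟨g, rfl⟩ := QuotientGroup.mk'_surjective _ γ
    obtain ⟨l, hl, hlw⟩ := w.2
    by_contra hw1
    have hlc : l ∉ center G := fun hc => hw1 (Subtype.ext (hlw ▸ pr_eq_one.2 hc))
    have e := congrArg Subtype.val hw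
    rw [show act hA.comm u (ind A g) = actN u A g from rfl, actN_apply, ← hlw] at e
    refine hγ (ind_eq_one.2 (hA.mem_of_fix hx hu hxu ?_ (part_le u A hl)
      (isS_of_mem (part_spec hA.comm).1 hl) hlc (mul_inv_eq_iff_eq_mul.1 e)))
    rw [← SubmonoidClass.coe_pow]
    exact ind_eq_one.1 ((map_pow _ _ _).trans hpow)
  obtain ⟨e, he⟩ := hγs
  rcases e with _ | e
  · exact absurd (orderOf_eq_one_iff.1 (by simpa using he)) hγ
  refine key (γ ^ x ^ e) (fun h1 => ?_) (by rw [← pow_mul, ← pow_succ, ← he, pow_orderOf_eq_one]) ?_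
  · have := orderOf_dvd_of_pow_eq_one h1
    rw [he, Nat.pow_dvd_pow_iff_le_right hx.one_lt] at this
    omega
  · rw [map_pow]
    clear he
    induction x ^ e with
    | zero => rfl
    | succ n ih => rw [pow_succ', MulAut.mul_apply, ih, hw]

/-- Induced elements of prime orders, one normalising the group of the other, commute. -/
theorem Good.ind_commute (hA : Good π A) {x y u : ℕ} (hx : x.Prime) (hy : y.Prime)
    (hu : π u) (hxu : x ≠ u) (hyu : y ≠ u) (hnu : ¬ part u A ≤ center G) {α β : Ind A} (hα : α ^ x = 1)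
    (hβ : β ^ y = 1) (hn : β * α * β⁻¹ ∈ zpowers α) : Commute α β := by
  haveI := Fact.mk hx
  haveI := Fact.mk hy
  haveI := Fact.mk (hA.prime u hu)
  rcases eq_or_ne α 1 with rfl | hα1
  · exact Commute.one_left _
  rcases eq_or_ne β 1 with rfl | hβ1
  · exact Commute.one_right _
  letI cg : CommGroup (bar u A) :=
    { (inferInstance : Group (bar u A)) with mul_comm := bar_comm hA.comm u }
  obtain ⟨l, hl, hlc⟩ := SetLike.not_le_iff_exists.1 hnu
  obtain ⟨ρ, hρ⟩ : ∃ ρ, ρ = act hA.comm u := ⟨_, rfl⟩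
  have hcy : ρ (β * α * β⁻¹) = ρ β * ρ α * (ρ β)⁻¹ := by rw [map_mul, map_mul, map_inv]
  have hco : Commute (ρ α) (ρ β) := by
    refine commute_of_fixedFree hx hy (by rw [← map_pow, hα, map_one]) (by rw [← map_pow, hβ, map_one])
      (fun w hw => hA.act_free hx hu hxu ⟨1, by rw [pow_one, orderOf_eq_prime hα hα1]⟩ hα1 (hρ ▸ hw))
      (fun w hw => hA.act_free hy hu hyu ⟨1, by rw [pow_one, orderOf_eq_prime hβ hβ1]⟩ hβ1 (hρ ▸ hw))
      ?_ (w₀ := (⟨pr l, mem_map_of_mem pr hl⟩ : bar u A)) (fun e => hlc (pr_eq_one.1 (congrArg Subtype.val e))) ?_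
    · rw [← hcy, ← MonoidHom.map_zpowers]
      exact mem_map_of_mem _ hn
    · rw [← Subgroup.orderOf_coe]
      exact coprime_of_isS hx (hA.prime u hu) hxu.symm (isS_map _ (isS_of_mem (part_spec hA.comm).1 hl))
  obtain ⟨i, hi⟩ := hn
  change α ^ i = β * α * β⁻¹ at hi
  have hi' : α ^ (i - 1) = 1 := by
    by_contra hne
    obtain ⟨w₀, hw₀⟩ : ∃ w₀ : bar u A, w₀ = ⟨pr l, mem_map_of_mem _ hl⟩ := ⟨_, rfl⟩
    refine hlc (pr_eq_one.1 ?_)
    have e1 : ρ (α ^ (i - 1)) = 1 := by
      rw [zpow_sub_one, map_mul, hi, hcy, ← hco.eq, mul_inv_cancel_right, ← map_mul, mul_inv_cancel, map_one]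
    have := hA.act_free hx hu hxu (γ := α ^ (i - 1))
      (isS_of_dvd (x := α) ⟨1, by rw [pow_one, orderOf_eq_prime hα hα1]⟩
        (orderOf_dvd_of_mem_zpowers ⟨i - 1, rfl⟩))
      hne (w := w₀) (by rw [← hρ, e1]; rfl)
    rw [hw₀] at this
    exact congrArg Subtype.val this
  have h2 : β * α * β⁻¹ = α := by
    rw [← hi]
    show α ^ i = α
    rw [show i = (i - 1) + 1 by ring, zpow_add_one, hi', one_mul]
  exact (mul_inv_eq_iff_eq_mul.1 h2).symm

end CfsgLib.ItoSizes
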