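import Cfsg.Agent.ItoSizes.Equal

/-!
Centralisers inside a subgroup, and the number of conjugates of a component.
-/

set_option autoImplicit false
set_option linter.unusedSectionVars false
set_option linter.style.haveILetI false

namespace CfsgLib.ItoSizes

open Subgroup CfsgLib.TwoLargest CfsgLib.CoprimeSizes

universe u

variable {G : Type u} [Group G] [Finite G] {π : ℕ → Prop} {q r s t : ℕ} {A B K : Subgroup G}

theorem C_sub (K : Subgroup G) (e : K) : C e = (C (e : G)).subgroupOf K := by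
  ext g
  rw [Subgroup.mem_subgroupOf, mem_C, mem_C]
  exact ⟨fun h => h.map K.subtype, fun h => Subtype.ext h.eq⟩

theorem center_sub {e : K} : e ∈ center K ↔ K ≤ C (e : G) := by
  rw [Subgroup.mem_center_iff]
  constructor
  · intro h g hg
    exact mem_C.2 (congrArg Subtype.val (h ⟨g, hg⟩)).symm
  · intro h g
    exact Subtype.ext (mem_C.1 (h g.2)).eq.symm

theorem card_C_sub {e : K} (h : C (e : G) ≤ K) : Nat.card (C e) = Nat.card (C (e : G)) := by
  rw [C_sub]
  exact Nat.card_congr (Subgroup.subgroupOfEquivOfLe h).toEquiv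

theorem comm_sub {A : Subgroup G} (hA : IsMulCommutative A) (K : Subgroup G) :
    IsMulCommutative (A.subgroupOf K) :=
  ⟨⟨fun a b => Subtype.ext (Subtype.ext (commute_of_isComm hA a.2 b.2).eq)⟩⟩

/-- A component is moved by the normalising element of another one. -/
theorem orbit_bound (h : AbCent G π) (hA : IsComp π A)
    (hone : ∀ B, IsComp π B → ∃ g : G, A.map (MulAut.conj g).toMonoidHom = B)
    (hr : π r) (ht : π t) (hrt : r ≠ t) (hnf : ex r A < (Nat.card G).factorization r)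
    (hrA : ex r (center G) < ex r A) (htA : ex t (center G) < ex t A) :
    t + 1 ≤ (normalizer (A : Set G)).index := by
  classical
  have hr' := h.prime r hr
  have ht' := h.prime t ht
  haveI := Fact.mk hr'
  haveI := Fact.mk ht'
  have hab := hA.comm h
  obtain ⟨g, hgn, hgs, hgA⟩ := (hA.good h).exists_normalizing hr hnf hrA
  have hgc : g ∉ center G := fun hc => hgA (hA.center_le hc)
  have hB : IsComp π (C g) := isComp_C hr hgs hgc
  obtain ⟨c, hc⟩ := hone _ hB
  obtain ⟨N, hN⟩ : ∃ N, N = normalizer (A : Set G) := ⟨_, rfl⟩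
  obtain ⟨T, hT⟩ : ∃ T, T = part t A := ⟨_, rfl⟩
  have hTp : IsPGroup t T := hT ▸ (part_spec hab).1
  -- elements of `T` normalising the second component are central
  have key : ∀ d ∈ T, d ∈ normalizer ((C g : Subgroup G) : Set G) → d ∈ center G := by
    intro d hd hdn
    by_contra hdc
    rw [hT] at hd
    have hdA := part_le t A hd
    have hds := isS_of_mem (hT ▸ hTp : IsPGroup t (part t A)) hd
    obtain ⟨hp, -⟩ := part_spec (s := r) hab
    have hgp : zpowers g ≤ normalizer ((part r A : Subgroup G) : Set G) :=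
      zpowers_le.2 (mem_normalizer_part hgn r)
    obtain ⟨v, hv, hvc, -, hcomm⟩ := exists_commutator_central
      ((isPGroup_zpowers hgs).to_sup_of_normal_right' hp hgp) le_sup_right
      (sup_le hgp le_normalizer) (part_not_le_center hrA)
    have hz := hcomm g (mem_sup_left (mem_zpowers g))
    have hvd : Commute v d := commute_of_isComm hab (part_le r A hv) hdA
    obtain ⟨ζ, hζ⟩ : ∃ ζ, ζ = v⁻¹ * (g * v * g⁻¹) := ⟨_, rfl⟩
    rw [← hζ] at hz
    have e1 : g * v * g⁻¹ = v * ζ := by rw [hζ, mul_inv_cancel_left]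
    have hfix : Commute v (g⁻¹ * (d * g * d⁻¹)) := by
      have e2 : (d * g * d⁻¹) * v * (d * g * d⁻¹)⁻¹ = v * ζ := by
        calc (d * g * d⁻¹) * v * (d * g * d⁻¹)⁻¹
            = d * g * (d⁻¹ * v) * d * g⁻¹ * d⁻¹ := by group
          _ = d * g * (v * d⁻¹) * d * g⁻¹ * d⁻¹ := by rw [hvd.inv_right.eq]
          _ = d * (g * v * g⁻¹) * d⁻¹ := by group
          _ = (d * v) * (ζ * d⁻¹) := by rw [e1]; group
          _ = (v * d) * (d⁻¹ * ζ) := by rw [hvd.eq, Subgroup.mem_center_iff.1 hz d⁻¹]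
          _ = v * ζ := by group
      refine Commute.symm (mul_inv_eq_iff_eq_mul.1 ?_)
      calc g⁻¹ * (d * g * d⁻¹) * v * (g⁻¹ * (d * g * d⁻¹))⁻¹
          = g⁻¹ * ((d * g * d⁻¹) * v * (d * g * d⁻¹)⁻¹) * g := by group
        _ = g⁻¹ * (g * v * g⁻¹) * g := by rw [e2, e1]
        _ = v := by group
    have hgB : g ∈ C g := self_mem_C g
    have hconj := (mem_normalizer_iff.1 hdn g).1 hgB
    obtain ⟨hBp, -⟩ := part_spec (s := r) (hB.comm h)
    have he : g⁻¹ * (d * g * d⁻¹) ∈ part r (C g) :=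
      mul_mem (inv_mem (mem_part hgB hgs)) (mem_part hconj (isS_conj hgs d))
    have hvs := isS_of_mem hp hv
    have heA : g⁻¹ * (d * g * d⁻¹) ∈ A := (hA.C_eq h (part_le r A hv) hr hvs hvc).le (mem_C.2 hfix)
    have hec : g⁻¹ * (d * g * d⁻¹) ∈ center G := by_contra fun hne => hgA (by
      rw [← hA.C_eq h heA hr (isS_of_mem hBp he) hne, hB.C_eq h (part_le r _ he) hr (isS_of_mem hBp he) hne]
      exact hgB)
    have hdg : Commute d g := commute_of_mod hec (coprime_isS ht' hr' hrt.symm hds hgs)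
    exact hgA ((hA.C_eq h hdA ht hds hdc).le (mem_C.2 hdg))
  -- the orbit
  obtain ⟨x, hx⟩ : ∃ x : G ⧸ N, x = (c : G ⧸ N) := ⟨_, rfl⟩
  have hstab : ∀ d : T, d • x = x → (d : G) ∈ center G := by
    intro d hd
    have e : ((d : G) * c : G ⧸ N) = (c : G ⧸ N) := by rw [hx] at hd; exact hd
    rw [QuotientGroup.eq, hN] at e
    refine key d d.2 ?_
    rw [← hc, ← Subgroup.map_equiv_normalizer_eq A (MulAut.conj c)]
    refine ⟨c⁻¹ * d * c, ?_, by simp [mul_assoc]⟩
    have := inv_mem e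
    simpa [mul_assoc] using this
  have hTnc : ¬ T ≤ center G := hT ▸ part_not_le_center htA
  obtain ⟨m, hm⟩ := hTp.card_orbit x
  have hm0 : m ≠ 0 := by
    rintro rfl
    obtain ⟨d, hd, hdc⟩ := SetLike.not_le_iff_exists.1 hTnc
    rw [pow_zero, Nat.card_eq_one_iff_unique] at hm
    haveI := hm.1
    exact hdc (hstab ⟨d, hd⟩ (congrArg Subtype.val (Subsingleton.elim
      (⟨(⟨d, hd⟩ : T) • x, MulAction.mem_orbit x _⟩ : MulAction.orbit T x)
      ⟨x, MulAction.mem_orbit_self x⟩)))
  have hnot : ((1 : G) : G ⧸ N) ∉ MulAction.orbit T x := by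
    rintro ⟨d, hd⟩
    have e : ((d : G) * c : G ⧸ N) = ((1 : G) : G ⧸ N) := by rw [hx] at hd; exact hd
    rw [QuotientGroup.eq, mul_one] at e
    have hdN : (d : G) ∈ N := hN ▸ le_normalizer (part_le t A (hT ▸ d.2 : (d : G) ∈ part t A))
    have h1 := mul_mem (inv_mem e) (one_mem N)
    rw [inv_inv, mul_one] at h1
    have hcN : c ∈ normalizer (A : Set G) := by
      have := mul_mem (inv_mem hdN) h1
      rw [inv_mul_cancel_left, hN] at this
      exact this
    refine hgA (?_ : g ∈ A)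
    rw [← mem_normalizer_iff_map_conj_eq.1 hcN]
    exact hc ▸ self_mem_C g
  have hsub : insert ((1 : G) : G ⧸ N) (MulAction.orbit T x) ⊆ Set.univ := Set.subset_univ _
  have h1 := Set.ncard_le_ncard hsub
  rw [Set.ncard_insert_of_notMem hnot, Set.ncard_univ, ← Nat.card_coe_set_eq, hm] at h1
  show t + 1 ≤ _
  rw [← hN]
  exact le_trans (Nat.add_le_add_right (Nat.le_of_dvd (pow_pos ht'.pos m) (dvd_pow_self t hm0)) 1) h1

/-- A prime power group acting without fixed points has one group of central elements of prime order,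
normalised by the normaliser. -/
theorem Good.exists_invariant (hA : Good π A) {x u : ℕ} (hx : x.Prime) (hu : π u) (hxu : x ≠ u)
    (hnu : ¬ part u A ≤ center G) {Q : Subgroup (Ind A)} (hQ : IsPGroup x Q) (hQ1 : Q ≠ ⊥) :
    ∃ β : Ind A, orderOf β = x ∧ ∀ γ ∈ normalizer (Q : Set (Ind A)), γ * β * γ⁻¹ ∈ zpowers β := by
  classical
  haveI := Fact.mk hx
  haveI : Nontrivial Q := (nontrivial_iff_ne_bot Q).2 hQ1
  haveI := hQ.center_nontrivial
  obtain ⟨c, hc⟩ := exists_prime_orderOf_dvd_card' (G := center Q) x (by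
    obtain ⟨j, hj⟩ := (hQ.to_subgroup (center Q)).exists_card_eq
    rcases j with _ | j
    · exact absurd hj (by rw [pow_zero]; exact (Finite.one_lt_card (α := center Q)).ne')
    · exact hj ▸ dvd_pow_self x (Nat.succ_ne_zero j))
  refine ⟨((c : Q) : Ind A), by rw [Subgroup.orderOf_coe, Subgroup.orderOf_coe, hc], fun γ hγ => ?_⟩
  by_contra hne
  letI cg : CommGroup (bar u A) :=
    { (inferInstance : Group (bar u A)) with mul_comm := bar_comm hA.comm u }
  obtain ⟨l, hl, hlc⟩ := SetLike.not_le_iff_exists.1 hnu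
  have semi : SemiregularPair.Semi ((act hA.comm u).comp Q.subtype) (⊥ : Subgroup (bar u A)) := by
    refine ⟨fun δ z hz => by rw [Subgroup.mem_bot.1 hz, map_one], fun δ hδ w hfx => ?_⟩
    exact Subgroup.mem_bot.2 (hA.act_free hx hu hxu (isS_of_mem hQ δ.2)
      (fun e => hδ (Subtype.ext e)) hfx)
  have hcx : ((c : Q) : Ind A) ^ x = 1 := by
    rw [← hc, ← Subgroup.orderOf_coe, ← Subgroup.orderOf_coe, pow_orderOf_eq_one]
  obtain ⟨δ, hδ⟩ : ∃ δ : Q, δ = ⟨γ * ((c : Q) : Ind A) * γ⁻¹, (mem_normalizer_iff.1 hγ _).1 (c : Q).2⟩ :=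
    ⟨_, rfl⟩
  haveI := Fact.mk (hA.prime u hu)
  refine CoprimeSizes.no_two_generators semi hx (c := (c : Q)) (d := δ)
    (w := (⟨pr l, mem_map_of_mem pr hl⟩ : bar u A)) ?_
    (fun e => hlc (pr_eq_one.1 (congrArg Subtype.val (Subgroup.mem_bot.1 e))))
    (Subgroup.mem_center_iff.1 c.2 δ).symm (Subtype.ext hcx) ?_ ?_ ?_
  · rw [← Subgroup.orderOf_coe]
    exact coprime_of_isS hx (hA.prime u hu) hxu.symm (isS_map _ (isS_of_mem (part_spec hA.comm).1 hl))
  · intro e
    rw [← Subgroup.orderOf_coe, e, orderOf_one] at hc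
    exact hx.ne_one hc.symm
  · refine Subtype.ext ?_
    rw [SubmonoidClass.coe_pow, hδ]
    show (γ * ((c : Q) : Ind A) * γ⁻¹) ^ x = 1
    rw [conj_pow, hcx, mul_one, mul_inv_cancel]
  · rintro ⟨i, hi⟩
    refine hne ⟨i, ?_⟩
    have := congrArg Subtype.val hi
    rw [hδ] at this
    simpa using this

end CfsgLib.ItoSizes
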